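import Cfsg.Agent.Lib.AutPOmega.Matrix
import Cfsg.Agent.Lib.AutPO.Semilinear
import Cfsg.Agent.Lib.AutPSLOuter.Outer

/-!
The outer automorphism group of `POmega` as an extension of the similarity part by the field automorphisms.
-/

set_option autoImplicit false

namespace Cfsg.Agent.AutPOmega

open scoped Matrix MatrixGroups
open AutPO (gmap Semi semiI semiA semiA_mk eq_semiA)
open ClassicalSimple (GO simAut bil Omega_perfect commutatorAut centreQuotAut_injective pgoAut_eq inn_eq)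

universe u

section Groups

variable {G K : Type*} [Group G] [Group K] [Finite G]

/-- Two commuting, disjoint subgroups filling the group. -/
theorem exists_prod_equiv (A B : Subgroup G) (hc : ∀ a ∈ A, ∀ b ∈ B, Commute a b)
    (hd : ∀ x, x ∈ A → x ∈ B → x = 1) (hcard : Nat.card G = Nat.card A * Nat.card B) :
    Nonempty (G ≃* A × B) := by
  let φ : A × B →* G :=
    MonoidHom.noncommCoprod A.subtype B.subtype fun a b => hc a a.2 b b.2
  have hinj : Function.Injective φ := by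
    refine (injective_iff_map_eq_one φ).2 fun x hx => ?_
    have h : (x.1 : G) * (x.2 : G) = 1 := hx
    have e1 : (x.1 : G) = 1 :=
      hd _ x.1.2 ((eq_inv_of_mul_eq_one_left h) ▸ inv_mem x.2.2)
    rw [e1, one_mul] at h
    exact Prod.ext (Subtype.ext e1) (Subtype.ext h)
  exact ⟨(MulEquiv.ofBijective φ ((Nat.bijective_iff_injective_and_card φ).2
    ⟨hinj, by rw [Nat.card_prod, hcard]⟩)).symm⟩

/-- A central-type complement of order the order of the quotient. -/
theorem exists_split (π : G →* K) (hπ : Function.Surjective π) (y : G)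
    (hy : orderOf y = Nat.card K) (hy' : orderOf (π y) = Nat.card K)
    (hc : ∀ a ∈ π.ker, Commute a y) :
    Nonempty (G ≃* π.ker × Multiplicative (ZMod (Nat.card K))) := by
  obtain ⟨e⟩ := exists_prod_equiv π.ker (Subgroup.zpowers y)
    (fun a ha b hb => by
      obtain ⟨j, rfl⟩ := Subgroup.mem_zpowers_iff.1 hb
      exact (hc a ha).zpow_right j)
    (fun x hx hxy => by
      obtain ⟨j, rfl⟩ := Subgroup.mem_zpowers_iff.1 hxy
      rw [MonoidHom.mem_ker, map_zpow, ← orderOf_dvd_iff_zpow_eq_one, hy'] at hx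
      rwa [← orderOf_dvd_iff_zpow_eq_one, hy])
    (by
      rw [Nat.card_zpowers, hy, ← Subgroup.card_mul_index π.ker, Subgroup.index_ker,
        MonoidHom.range_eq_top.2 hπ, Subgroup.card_top])
  exact ⟨e.trans (MulEquiv.prodCongr (MulEquiv.refl _)
    (mulEquivOfCyclicCardEq (by
      rw [Nat.card_zpowers, hy, Nat.card_congr Multiplicative.toAdd, Nat.card_zmod])))⟩

end Groups

section Frobenius

variable {F : Type*} [Field F] [Fintype F] (p : ℕ) [Fact p.Prime] [CharP F p]

theorem frob_pow_apply (k : ℕ) (x : F) : (frobeniusEquiv F p ^ k : F ≃+* F) x = x ^ p ^ k := by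
  induction k generalizing x with
  | zero => simp [RingAut.one_apply]
  | succ k ih =>
    rw [pow_succ', RingAut.mul_apply, ih]
    show (x ^ p ^ k) ^ p = _
    rw [← pow_mul, ← pow_succ]

omit [CharP F p] in
theorem card_gal {f : ℕ} (hf : 1 ≤ f) (hF : Fintype.card F = p ^ f) : Nat.card (F ≃+* F) = f := by
  obtain ⟨e⟩ := AutPSLOuter.exists_fieldAut_iso (F := F) hf hF
  rw [Nat.card_congr e.toEquiv, Nat.card_congr Multiplicative.toAdd, Nat.card_zmod]

theorem orderOf_frob {f : ℕ} (hf : 1 ≤ f) (hF : Fintype.card F = p ^ f) :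
    orderOf (frobeniusEquiv F p) = f := by
  refine (orderOf_eq_iff hf).2 ⟨RingEquiv.ext fun x => ?_, fun k hk hk0 e => ?_⟩
  · rw [frob_pow_apply, ← hF, FiniteField.pow_card, RingAut.one_apply]
  · obtain ⟨u, hu⟩ := IsCyclic.exists_ofOrder_eq_natCard (α := Fˣ)
    have h1 : u ^ (p ^ k - 1) = 1 := by
      have e' : u ^ p ^ k = u := Units.ext (by
        rw [Units.val_pow_eq_pow_val, ← frob_pow_apply, e]; rfl)
      have hp : p ^ k - 1 + 1 = p ^ k := Nat.sub_add_cancel (Nat.one_le_pow _ _ (Fact.out : p.Prime).pos)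
      rw [← hp, pow_succ] at e'
      exact mul_eq_right.1 e'
    have h3 := Nat.one_lt_pow hk0.ne' (Fact.out : p.Prime).one_lt
    have h2 : Fintype.card F - 1 ≤ p ^ k - 1 := by
      refine Nat.le_of_dvd (by omega) ?_
      rw [← Nat.card_eq_fintype_card (α := F), ← Nat.card_units, ← hu]
      exact orderOf_dvd_of_pow_eq_one h1
    have := Nat.pow_lt_pow_right (Fact.out : p.Prime).one_lt hk
    rw [hF] at h2
    omega

end Frobenius

section Semi

variable {ι : Type} [Fintype ι] [DecidableEq ι] {F : Type u} [Field F] [Finite F]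
variable {Q : QuadraticForm F (ι → F)}

omit [Finite F] in
theorem gmap_mulVec' (σ : F ≃+* F) (g : GL ι F) (v : ι → F) :
    (gmap σ g).val *ᵥ (fun i => σ (v i)) = fun i => σ ((g.val *ᵥ v) i) :=
  AutPO.gmap_mulVec σ g v

omit [Finite F] in
theorem semi_mul {g g' : GL ι F} {σ τ : F ≃+* F} (hp : Semi Q g σ) (hp' : Semi Q g' τ) :
    Semi Q (g * gmap σ g') (σ * τ) := by
  obtain ⟨c, hc⟩ := hp
  obtain ⟨d, hd⟩ := hp'
  refine ⟨c * Units.map (σ : F →* F) d, fun v => ?_⟩
  rw [Units.val_mul, ← Matrix.mulVec_mulVec,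
    show (fun i => (σ * τ) (v i)) = fun i => σ ((fun j => τ (v j)) i) from rfl, gmap_mulVec', hc, hd,
    map_mul]
  simp only [Units.val_mul, Units.coe_map, MonoidHom.coe_coe, RingAut.mul_apply]
  ring

theorem semiA_mul {g g' : GL ι F} {σ τ : F ≃+* F} (hp : Semi Q g σ) (hp' : Semi Q g' τ) :
    semiA hp * semiA hp' = semiA (semi_mul hp hp') := by
  refine eq_semiA _ fun s s' e => ?_
  rw [MulAut.mul_apply, semiA_mk, semiA_mk]
  refine congrArg _ (Subtype.ext (Subtype.ext (Units.ext ?_)))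
  rw [e]
  show (g * gmap σ (g' * gmap τ s.1.1 * g'⁻¹) * g⁻¹).val = _
  rw [show gmap σ (g' * gmap τ s.1.1 * g'⁻¹) = gmap σ g' * gmap (σ * τ) s.1.1 * (gmap σ g')⁻¹ by
    rw [map_mul, map_mul, map_inv, AutPO.gmap_mul], mul_inv_rev]
  simp only [Units.val_mul, mul_assoc]
  rfl

omit [Finite F] in
theorem semi_GO (g : GO Q) : Semi Q g.1 1 := by
  obtain ⟨c, hc⟩ := g.2
  exact ⟨c, fun v => hc v⟩

theorem simAut_eq_semiA (g : GO Q) : simAut Q g = semiA (semi_GO g) := by
  refine eq_semiA _ fun s s' e => ?_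
  rw [ClassicalSimple.simAut_mk]
  refine congrArg _ (Subtype.ext (Subtype.ext (Units.ext ?_)))
  rw [ClassicalSimple.commutatorAut_coe, e, Units.val_mul, Units.val_mul]
  congr 1

theorem mem_pgoAut_of_semi {g : GL ι F} (hp : Semi Q g 1) : semiA hp ∈ pgoAut F ⇑Q := by
  have hg : g ∈ GO Q := by
    obtain ⟨c, hc⟩ := hp
    exact ⟨c, fun v => hc v⟩
  rw [pgoAut_eq]
  exact ⟨⟨g, hg⟩, simAut_eq_semiA _⟩

/-- The semilinear map of a pair. -/
def semiMap (g : GL ι F) (σ : F ≃+* F) (v : ι → F) : ι → F := g.val *ᵥ fun i => σ (v i)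

theorem semiA_pow {g : GL ι F} {σ : F ≃+* F} (hp : Semi Q g σ) :
    ∀ k : ℕ, ∃ (h : GL ι F) (hh : Semi Q h (σ ^ k)), semiA hp ^ k = semiA hh ∧
      ∀ v : ι → F, h.val *ᵥ (fun i => (σ ^ k : F ≃+* F) (v i)) = (semiMap g σ)^[k] v
  | 0 => ⟨1, semi_GO 1, by
      rw [pow_zero, ← map_one (simAut Q)]
      exact simAut_eq_semiA 1, fun v => by simp⟩
  | k + 1 => by
    obtain ⟨h, hh, he, hv⟩ := semiA_pow hp k
    have h1 : σ * σ ^ k = σ ^ (k + 1) := (pow_succ' σ k).symm
    refine ⟨g * gmap σ h, h1 ▸ semi_mul hp hh, ?_, fun v => ?_⟩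
    · rw [pow_succ', he, semiA_mul]
      congr 1
    · rw [Function.iterate_succ_apply', ← hv, semiMap, Units.val_mul, ← Matrix.mulVec_mulVec, pow_succ',
        ← gmap_mulVec']
      rfl

/-- An element of `Omega` for every scalar, built on one prime-field matrix. -/
def Probe (Q : QuadraticForm F (ι → F)) : Prop :=
  ∃ N : Matrix ι ι F, N ≠ 0 ∧ (∀ σ : F ≃+* F, N.map σ = N) ∧
    ∀ t : F, ∃ h : Omega F ⇑Q, h.1.1.val = 1 + t • N

/-- Pairs inducing the same automorphism have the same field automorphism. -/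
theorem sigma_unique (hN : (bil Q).Nondegenerate) (h5 : 5 ≤ Fintype.card ι) (hP : Probe Q)
    {g g' : GL ι F} {σ τ : F ≃+* F} (hp : Semi Q g σ) (hp' : Semi Q g' τ)
    (e : semiA hp = semiA hp') : σ = τ := by
  have he : commutatorAut (semiI hp) = commutatorAut (semiI hp') :=
    centreQuotAut_injective (Omega_perfect Q hN h5) e
  obtain ⟨N, hN0, hNfix, hh⟩ := hP
  set M : GL ι F := g'⁻¹ * g
  have key : ∀ t, σ t • (M.val * N) = τ t • (N * M.val) := by
    intro t
    obtain ⟨h, hh'⟩ := hh t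
    have e1 : g * gmap σ h.1.1 * g⁻¹ = g' * gmap τ h.1.1 * g'⁻¹ :=
      congrArg (fun x : Omega F ⇑Q => (x.1.1 : GL ι F)) (DFunLike.congr_fun he h)
    have e2 : M * gmap σ h.1.1 = gmap τ h.1.1 * M := by
      rw [show M * gmap σ h.1.1 = g'⁻¹ * (g * gmap σ h.1.1 * g⁻¹) * g by simp [M, mul_assoc], e1]
      simp [M, mul_assoc]
    have hmap : ∀ ρ : F ≃+* F, (gmap ρ h.1.1).val = 1 + ρ t • N := by
      intro ρ
      rw [AutPO.gmap_val, hh']
      ext i j
      have := congrFun (congrFun (hNfix ρ) i) j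
      rw [Matrix.map_apply] at this
      simp only [Matrix.map_apply, Matrix.add_apply, Matrix.smul_apply, smul_eq_mul, map_add, map_mul, this]
      rcases eq_or_ne i j with rfl | hij <;> simp [*]
    have e3 := congrArg Units.val e2
    rw [Units.val_mul M, Units.val_mul _ M, hmap, hmap, mul_add, mul_one, add_mul, one_mul, Matrix.mul_smul,
      Matrix.smul_mul] at e3
    exact add_left_cancel e3
  have k1 := key 1
  rw [map_one, map_one, one_smul, one_smul] at k1
  refine RingEquiv.ext fun t => ?_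
  have k2 := key t
  rw [← k1] at k2
  have hMN : M.val * N ≠ 0 := fun h0 => hN0 (by
    have := congrArg (fun X => (M⁻¹).val * X) h0
    simpa [← Matrix.mul_assoc] using this)
  exact sub_eq_zero.1 ((smul_eq_zero.1 (show (σ t - τ t) • (M.val * N) = 0 by
    rw [sub_smul, k2, sub_self])).resolve_right hMN)

/-- The standard probe. -/
theorem probe_of_line (hN : (bil Q).Nondegenerate) (h5 : 5 ≤ Fintype.card ι) (u v : ι → F)
    (hu : Q u = 0) (hv : Q v = 0) (huv : bil Q u v = 0)
    (fix : ∀ σ : F ≃+* F, ∀ i, σ (u i) = u i ∧ σ (v i) = v i ∧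
      σ (polarVec ⇑Q u i) = polarVec ⇑Q u i ∧ σ (polarVec ⇑Q v i) = polarVec ⇑Q v i)
    (hne : Matrix.vecMulVec v (polarVec ⇑Q u) - Matrix.vecMulVec u (polarVec ⇑Q v) ≠ 0) :
    Probe Q := by
  refine ⟨_, hne, fun σ => ?_, fun t => ?_⟩
  · ext i j
    simp [Matrix.vecMulVec_apply, (fix σ i).1, (fix σ i).2.1, (fix σ j).2.2.1, (fix σ j).2.2.2]
  · obtain ⟨hi, e⟩ : ∃ g : isometryGroup F ⇑Q, g.1.val = siegelMatrix ⇑Q u v t := by
      refine ⟨(ClassicalSimple.isometryEquiv Q).symm
        (ClassicalSimple.siegel hu (w := t • v) (by simp [huv])), ?_⟩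
      exact (ClassicalSimple.isometryEquiv_eq_iff Q _ _ _
        (ClassicalSimple.siegelMatrix_mulVec Q hu hv huv t)).1 (MulEquiv.apply_symm_apply _ _)
    refine ⟨⟨hi, ?_⟩, e.trans rfl⟩
    rw [ClassicalSimple.Omega_eq_closure_siegelMatrixSet Q hN h5]
    exact Subgroup.subset_closure ⟨u, v, t, hu, hv, huv, e⟩

/-- The data needed for the outer group. -/
structure AutData (Q : QuadraticForm F (ι → F)) : Prop where
  nondeg : (bil Q).Nondegenerate
  five : 5 ≤ Fintype.card ι
  probe : Probe Q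
  pair : ∀ β : MulAut (POmega F ⇑Q), ∃ (g : GL ι F) (σ : F ≃+* F) (hp : Semi Q g σ), β = semiA hp

/-- The field part of an automorphism. -/
theorem exists_galPart (D : AutData Q) : ∃ Γ : MulAut (POmega F ⇑Q) →* (F ≃+* F),
    Γ.ker = pgoAut F ⇑Q ∧ ∀ (g : GL ι F) (σ : F ≃+* F) (hp : Semi Q g σ), Γ (semiA hp) = σ := by
  choose g σ hp hβ using D.pair
  have hval : ∀ (g₀ : GL ι F) (σ₀ : F ≃+* F) (hp₀ : Semi Q g₀ σ₀), σ (semiA hp₀) = σ₀ :=
    fun g₀ σ₀ hp₀ => sigma_unique D.nondeg D.five D.probe (hp _) hp₀ (hβ _).symm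
  let Γ : MulAut (POmega F ⇑Q) →* (F ≃+* F) := MonoidHom.mk' σ fun a b => by
    conv_lhs => rw [hβ a, hβ b, semiA_mul, hval]
  refine ⟨Γ, ?_, hval⟩
  ext β
  constructor
  · intro h
    have h' : σ β = 1 := h
    have : ∀ (τ : F ≃+* F) (hp' : Semi Q (g β) τ), τ = 1 → semiA hp' ∈ pgoAut F ⇑Q := by
      rintro τ hp' rfl
      exact mem_pgoAut_of_semi hp'
    rw [hβ β]
    exact this _ _ h'
  · intro h
    rw [pgoAut_eq] at h
    obtain ⟨k, rfl⟩ := h
    show σ (simAut Q k) = 1
    rw [simAut_eq_semiA, hval]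

omit [Finite F] in
theorem inn_le_pgoAut : Inn (POmega F ⇑Q) ≤ pgoAut F ⇑Q := by
  rw [inn_eq, pgoAut_eq]
  exact Subgroup.map_le_range _ _

/-- `Out` maps onto field automorphisms, the similarities forming the kernel. -/
theorem exists_outGal (D : AutData Q) : ∃ π : Out (POmega F ⇑Q) →* (F ≃+* F),
    π.ker = (pgoAut F ⇑Q).map (QuotientGroup.mk' (Inn (POmega F ⇑Q))) ∧
      ∀ (g : GL ι F) (σ : F ≃+* F) (hp : Semi Q g σ), π (QuotientGroup.mk (semiA hp)) = σ := by
  obtain ⟨Γ, hk, hv⟩ := exists_galPart D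
  refine ⟨QuotientGroup.lift _ Γ (hk ▸ inn_le_pgoAut), ?_, hv⟩
  rw [QuotientGroup.ker_lift, hk]

theorem center_POmega (hN : (bil Q).Nondegenerate) (h5 : 5 ≤ Fintype.card ι) :
    Subgroup.center (POmega F ⇑Q) = ⊥ := by
  have hs := ClassicalSimple.POmega_isSimpleGroup Q hN h5
  refine (Subgroup.Normal.eq_bot_or_eq_top inferInstance).resolve_right fun htop => ?_
  have hπ := QuotientGroup.mk'_surjective (Subgroup.center (Omega F ⇑Q))
  have hperf : commutator (POmega F ⇑Q) = ⊤ := by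
    rw [← Subgroup.map_top_of_surjective _ hπ, ← Omega_perfect Q hN h5, commutator_def, commutator_def,
      Subgroup.map_commutator, Subgroup.map_top_of_surjective _ hπ]
  have hbot : commutator (POmega F ⇑Q) = ⊥ := by
    rw [commutator_def, eq_bot_iff, Subgroup.commutator_le]
    exact fun x _ y _ => Subgroup.mem_bot.2 (commutatorElement_eq_one_iff_mul_comm.2
      (Subgroup.mem_center_iff.1 (htop ▸ Subgroup.mem_top y) x))
  exact bot_ne_top (hbot.symm.trans hperf)

/-- The order of the automorphism group from that of the outer group. -/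
theorem card_mulAut (hN : (bil Q).Nondegenerate) (h5 : 5 ≤ Fintype.card ι) :
    Nat.card (MulAut (POmega F ⇑Q)) = Nat.card (Out (POmega F ⇑Q)) * Nat.card (POmega F ⇑Q) := by
  have hinn : Nat.card (Inn (POmega F ⇑Q)) = Nat.card (POmega F ⇑Q) := by
    refine (Nat.card_congr (Equiv.ofBijective
      (fun x => (⟨MulAut.conj x, x, rfl⟩ : Inn (POmega F ⇑Q))) ⟨fun x y e => ?_, ?_⟩)).symm
    · have e' : MulAut.conj x = MulAut.conj y := congrArg Subtype.val e
      refine eq_of_inv_mul_eq_one (Subgroup.mem_bot.1 (center_POmega hN h5 ▸ ?_))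
      refine Subgroup.mem_center_iff.2 fun z => ?_
      have h := MulEquiv.congr_fun e' z
      simp only [MulAut.conj_apply] at h
      calc z * (x⁻¹ * y) = x⁻¹ * (x * z * x⁻¹) * y := by group
        _ = x⁻¹ * y * z := by rw [h]; group
    · rintro ⟨_, x, rfl⟩
      exact ⟨x, rfl⟩
  rw [← hinn, Subgroup.card_eq_card_quotient_mul_card_subgroup (Inn (POmega F ⇑Q))]

end Semi

end Cfsg.Agent.AutPOmega
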