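import Cfsg.Agent.Lib.AutPOmega.OutEven
import Cfsg.Agent.Lib.ClassicalSimple.GraphSplit
import Mathlib.Algebra.QuadraticAlgebra.NormDeterminant

/-!
Involutory graph automorphisms of the minus-type orthogonal groups over fields of odd order.
-/

set_option autoImplicit false

namespace Cfsg.Agent.AutPOmega

open scoped Matrix MatrixGroups
open AutPO (Semi semiA)
open ClassicalSimple (GO simAut EvenForm NegOneOmega mult dsign reflGO innDiag)
open QForm (minusForm)
open Module (finrank)

section Linear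

variable {F : Type*} [Field F] {V : Type*} [AddCommGroup V] [Module F V] [FiniteDimensional F V]

/-- The determinant of a square root of a non-square scalar. -/
theorem det_of_sq_nonsquare {lam : F} (hlam : ¬ IsSquare lam) (f : Module.End F V) (hf : f * f = lam • 1)
    {k : ℕ} (hk : finrank F V = 2 * k) : LinearMap.det f = (-lam) ^ k := by
  haveI : Fact (∀ r : F, r ^ 2 ≠ lam + 0 * r) :=
    ⟨fun r hr => hlam ⟨r, by linear_combination -hr⟩⟩
  let K := QuadraticAlgebra F lam 0
  let φ : K →ₐ[F] Module.End F V := QuadraticAlgebra.lift ⟨f, by rw [hf, zero_smul, add_zero]⟩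
  letI : Module K V := Module.compHom V φ.toRingHom
  haveI : IsScalarTower F K V := ⟨fun r z v => by
    show φ (r • z) v = r • φ z v
    rw [map_smul]; rfl⟩
  haveI : Module.Finite K V := Module.Finite.of_restrictScalars_finite F K V
  set ω : K := ⟨0, 1⟩ with hω
  have e : f = LinearMap.restrictScalars F (ω • (LinearMap.id : V →ₗ[K] V)) := LinearMap.ext fun v => by
    show f v = φ ω v
    simp [φ, hω, QuadraticAlgebra.lift]
  have hd : finrank K V = k := by
    have h := Module.finrank_mul_finrank F K V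
    rw [QuadraticAlgebra.finrank_eq_two, hk] at h
    omega
  rw [e, LinearMap.det_restrictScalars, LinearMap.det_smul, LinearMap.det_id, mul_one, hd, map_pow,
    Algebra.norm_apply, show Algebra.lmul F K ω = DistribSMul.toLinearMap F K ω from rfl,
    QuadraticAlgebra.det_toLinearMap_eq_norm, QuadraticAlgebra.norm_def, hω]
  congr 1
  simp

/-- The determinant of an involution. -/
theorem det_of_involution (h2 : (2 : F) ≠ 0) (f : Module.End F V) (hf : ∀ v, f (f v) = v) :
    LinearMap.det f = (-1) ^ finrank F (LinearMap.ker (f + 1)) ∧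
      finrank F (LinearMap.ker (f - 1)) + finrank F (LinearMap.ker (f + 1)) = finrank F V := by
  set U := LinearMap.ker (f - 1)
  set W := LinearMap.ker (f + 1)
  have hU : ∀ x, x ∈ U ↔ f x = x := fun x => by simp [U, sub_eq_zero]
  have hW : ∀ x, x ∈ W ↔ f x = -x := fun x => by simp [W, add_eq_zero_iff_eq_neg]
  have hc : IsCompl U W := by
    refine IsCompl.of_eq (eq_bot_iff.2 fun x hx => (Submodule.mem_bot F).2 ?_) (eq_top_iff.2 fun x _ => ?_)
    · have e1 := (hU x).1 hx.1
      have e2 := (hW x).1 hx.2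
      have : (2 : F) • x = 0 := by rw [two_smul]; exact add_eq_zero_iff_eq_neg.2 (e1.symm.trans e2)
      exact (smul_eq_zero.1 this).resolve_left h2
    · rw [show x = (2 : F)⁻¹ • (x + f x) + (2 : F)⁻¹ • (x - f x) by
        rw [← smul_add, show x + f x + (x - f x) = (2 : F) • x by module, smul_smul,
          inv_mul_cancel₀ h2, one_smul]]
      refine Submodule.add_mem_sup (U.smul_mem _ ((hU _).2 ?_)) (W.smul_mem _ ((hW _).2 ?_))
      · rw [map_add, hf, add_comm]
      · rw [map_sub, hf, neg_sub]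
  refine ⟨?_, Submodule.finrank_add_eq_of_isCompl hc⟩
  let e := Submodule.prodEquivOfIsCompl U W hc
  have he : f = (e : (U × W) →ₗ[F] V) ∘ₗ (LinearMap.prodMap LinearMap.id (-LinearMap.id)) ∘ₗ
      (e.symm : V →ₗ[F] U × W) := LinearMap.ext fun v => by
    obtain ⟨⟨x, y⟩, rfl⟩ := e.surjective v
    simp [e, (hU _).1 x.2, (hW _).1 y.2]
  rw [he, LinearMap.det_conj, LinearMap.det_prodMap, LinearMap.det_id, one_mul,
    ← neg_one_smul F (LinearMap.id : W →ₗ[F] W), LinearMap.det_smul, LinearMap.det_id, mul_one]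

/-- The multiplier of a similarity of an odd-dimensional nondegenerate space is a square. -/
theorem isSquare_of_odd_dim {B : LinearMap.BilinForm F V} (hB : B.Nondegenerate) (f : Module.End F V)
    {ν : F} (hν : ν ≠ 0) (hf : ∀ x y, B (f x) (f y) = ν * B x y) (hd : Odd (finrank F V)) :
    IsSquare ν := by
  let b := Module.finBasis F V
  set G := LinearMap.BilinForm.toMatrix b B
  have hG : G.det ≠ 0 := (LinearMap.BilinForm.nondegenerate_iff_det_ne_zero b).1 hB
  have e : LinearMap.BilinForm.comp B f f = ν • B := LinearMap.ext fun x => LinearMap.ext fun y => by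
    simp [hf]
  have e2 := congrArg (fun C => (LinearMap.BilinForm.toMatrix b C).det) e
  simp only [LinearMap.BilinForm.toMatrix_comp b, map_smul, Matrix.det_mul, Matrix.det_transpose,
    Matrix.det_smul, Fintype.card_fin, LinearMap.det_toMatrix] at e2
  obtain ⟨j, hj⟩ := hd
  have e3 : LinearMap.det f * LinearMap.det f = ν ^ (2 * j + 1) :=
    mul_right_cancel₀ hG (by rw [← hj]; linear_combination e2)
  refine ⟨LinearMap.det f * (ν ^ j)⁻¹, ?_⟩
  have : ν ^ j ≠ 0 := pow_ne_zero _ hν
  field_simp
  linear_combination -e3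

end Linear

variable {ι : Type} [Fintype ι] [DecidableEq ι] {F : Type*} [Field F] [Fintype F]

/-- In dimension divisible by four, a similarity of sign one commuting with an involutory graph similarity up to
a scalar has square multiplier. -/
theorem isSquare_of_commute {Q : QuadraticForm F (ι → F)} {k : ℕ} (E : EvenForm Q k) (hk : Even k)
    (g h : GO Q) (hgg : g * g ∈ ClassicalSimple.scalarSub Q) (hd : dsign k g = -1)
    (hgh : g * h * (h * g)⁻¹ ∈ ClassicalSimple.scalarSub Q) : IsSquare (mult h : F) := by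
  classical
  set M : Matrix ι ι F := g.1.val
  set H : Matrix ι ι F := h.1.val
  set μ : F := ((mult g : Fˣ) : F) with hμdef
  set ν : F := ((mult h : Fˣ) : F) with hνdef
  have hμ : μ ≠ 0 := (mult g).ne_zero
  have hν : ν ≠ 0 := (mult h).ne_zero
  obtain ⟨⟨lam, lam', _, _⟩, hlam, hm, -⟩ := ClassicalSimple.scalar_classes E hgg
  have hMM : M * M = lam • 1 := hlam
  rw [show mult (g * g) = mult g * mult g from map_mul (ClassicalSimple.multHom E) g g, Units.val_mul] at hm
  have hm' : μ * μ = lam * lam := hm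
  have hlam0 : lam ≠ 0 := fun e => hμ (mul_self_eq_zero.1 (by rw [hm', e, mul_zero]))
  have hpow : μ ^ k = lam ^ k := by
    obtain ⟨j, rfl⟩ := hk
    rw [← two_mul, pow_mul, pow_mul, pow_two, pow_two, hm']
  have hdet : M.det = -(lam ^ k) := by
    rw [dsign, Units.val_pow_eq_pow_val, Units.val_inv_eq_inv_val, ← hμdef, inv_pow, hpow] at hd
    have : lam ^ k ≠ 0 := pow_ne_zero _ hlam0
    field_simp at hd
    linear_combination hd
  have hne : (-1 : F) ≠ 1 := fun e => E.two (by linear_combination -e)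
  set f : Module.End F (ι → F) := Matrix.toLin' M with hfdef
  have hff : ∀ v, f (f v) = lam • v := fun v => by
    simp [hfdef, Matrix.mulVec_mulVec, hMM, Matrix.smul_mulVec]
  by_cases hsq : IsSquare lam
  swap
  · have h1 := det_of_sq_nonsquare hsq f (LinearMap.ext hff) E.finrank_eq
    rw [hfdef, LinearMap.det_toLin', hdet, neg_pow, hk.neg_one_pow, one_mul] at h1
    exact absurd h1 fun e => pow_ne_zero k hlam0
      ((mul_eq_zero.1 (show (2 : F) * lam ^ k = 0 by linear_combination -e)).resolve_left E.two)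
  obtain ⟨a, rfl⟩ := hsq
  have ha : a ≠ 0 := fun e => hlam0 (by rw [e, mul_zero])
  set t : Module.End F (ι → F) := a⁻¹ • f with htdef
  have htt : ∀ v, t (t v) = v := fun v => by
    simp only [htdef, LinearMap.smul_apply, map_smul, hff, smul_smul]
    rw [show a⁻¹ * (a⁻¹ * (a * a)) = 1 by field_simp, one_smul]
  obtain ⟨hdt, hsum⟩ := det_of_involution E.two t htt
  rw [E.finrank_eq] at hsum
  rw [htdef, LinearMap.det_smul, E.finrank_eq, hfdef, LinearMap.det_toLin', hdet] at hdt
  rw [show a⁻¹ ^ (2 * k) * -((a * a) ^ k) = -1 by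
    rw [pow_mul, ← neg_mul_eq_mul_neg, ← mul_pow, show a⁻¹ ^ 2 * (a * a) = 1 by field_simp, one_pow]] at hdt
  set U := LinearMap.ker (t - 1) with hUdef
  set W := LinearMap.ker (t + 1) with hWdef
  have hWodd : Odd (finrank F W) := by
    by_contra hev
    rw [Nat.not_odd_iff_even] at hev
    exact hne (hdt.trans hev.neg_one_pow)
  have hU : ∀ x, x ∈ U ↔ t x = x := fun x => by simp [hUdef, sub_eq_zero]
  have hW : ∀ x, x ∈ W ↔ t x = -x := fun x => by simp [hWdef, add_eq_zero_iff_eq_neg]
  have hQt : ∀ v, Q (t v) = μ / (a * a) * Q v := fun v => by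
    show Q (a⁻¹ • (Matrix.toLin' M) v) = _
    rw [QuadraticMap.map_smul, Matrix.toLin'_apply, ClassicalSimple.mult_spec, smul_eq_mul, ← hμdef]
    field_simp
  have hNd : (ClassicalSimple.bil Q).Nondegenerate := ClassicalSimple.bil_nondegenerate Q E.nondeg
  have hμ1 : μ / (a * a) = 1 := by
    rcases mul_self_eq_mul_self_iff.1 hm' with e | e <;> rw [e]
    · field_simp
    exfalso
    have hsing : ∀ X : Submodule F (ι → F), (∀ x ∈ X, t x = x ∨ t x = -x) → ∀ x ∈ X, Q x = 0 := by
      intro X hX x hx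
      have e1 := hQt x
      rw [e, show -(a * a) / (a * a) = (-1 : F) by field_simp] at e1
      rcases hX x hx with e2 | e2 <;> rw [e2] at e1
      · exact (mul_eq_zero.1 (show (2 : F) * Q x = 0 by linear_combination e1)).resolve_left E.two
      · rw [QuadraticMap.map_neg] at e1
        exact (mul_eq_zero.1 (show (2 : F) * Q x = 0 by linear_combination e1)).resolve_left E.two
    have b1 := finrank_singular_le hNd U (hsing U fun x hx => Or.inl ((hU x).1 hx))
    have b2 := finrank_singular_le hNd W (hsing W fun x hx => Or.inr ((hW x).1 hx))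
    rw [E.finrank_eq] at b1 b2
    obtain ⟨j, hj⟩ := hWodd
    obtain ⟨i, hi⟩ := hk
    omega
  -- the two eigenspaces are orthogonal
  have hpol : ∀ x y, QuadraticMap.polar ⇑Q (t x) (t y) = QuadraticMap.polar ⇑Q x y := fun x y => by
    simp only [QuadraticMap.polar, ← map_add, hQt, hμ1, one_mul]
  have horth : ∀ x ∈ U, ∀ y ∈ W, QuadraticMap.polar ⇑Q x y = 0 := fun x hx y hy => by
    have e1 := hpol x y
    rw [(hU x).1 hx, (hW y).1 hy, QuadraticMap.polar_neg_right] at e1
    exact (mul_eq_zero.1 (show (2 : F) * QuadraticMap.polar ⇑Q x y = 0 by linear_combination -e1)).resolve_left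
      E.two
  obtain ⟨⟨c, c', _, _⟩, hc, hmc, -⟩ := ClassicalSimple.scalar_classes E hgh
  set z := g * h * (h * g)⁻¹ with hz
  have hgh' : g * h = z * (h * g) := by rw [hz, inv_mul_cancel_right]
  have hMH : M * H = c • (H * M) := by
    have := congrArg (fun x : GO Q => (x.1.val : Matrix ι ι F)) hgh'
    simp only [Subgroup.coe_mul, Units.val_mul] at this
    rw [hc, Matrix.smul_mul, Matrix.one_mul] at this
    exact this
  have hmz : mult z = 1 := by
    show ClassicalSimple.multHom E (g * h * (h * g)⁻¹) = 1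
    rw [map_mul, map_inv, map_mul, map_mul, mul_comm, mul_comm (ClassicalSimple.multHom E g), inv_mul_cancel]
  rw [hmz, Units.val_one] at hmc
  set s : Module.End F (ι → F) := Matrix.toLin' H with hsdef
  have hts : ∀ v, t (s v) = c • s (t v) := fun v => by
    simp only [htdef, hfdef, hsdef, LinearMap.smul_apply, Matrix.toLin'_apply, Matrix.mulVec_mulVec, hMH,
      Matrix.smul_mulVec, Matrix.mulVec_smul, smul_smul, mul_comm c]
  have hsinj : Function.Injective s := fun x y e => by
    simp only [hsdef, Matrix.toLin'_apply] at e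
    exact Matrix.mulVec_injective_of_isUnit (Units.isUnit h.1) e
  rcases (mul_self_eq_one_iff (a := c)).1 hmc.symm with hc1 | hc1
  · have hsW : ∀ x ∈ W, s x ∈ W := fun x hx => (hW _).2 (by
      rw [hts, (hW x).1 hx, map_neg, hc1, one_smul])
    set BW := (ClassicalSimple.bil Q).restrict W
    have hBW : BW.Nondegenerate := by
      have hsep : ∀ x : W, (∀ y : W, BW x y = 0) → x = 0 := fun x hx => Subtype.ext (E.nondeg.1 x fun v => by
        have hv1 : (2 : F)⁻¹ • (v + t v) ∈ U := U.smul_mem _ ((hU _).2 (by rw [map_add, htt, add_comm]))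
        have hv2 : (2 : F)⁻¹ • (v - t v) ∈ W := W.smul_mem _ ((hW _).2 (by rw [map_sub, htt, neg_sub]))
        have ev : v = (2 : F)⁻¹ • (v + t v) + (2 : F)⁻¹ • (v - t v) := by
          rw [← smul_add, show v + t v + (v - t v) = (2 : F) • v by module, smul_smul,
            inv_mul_cancel₀ E.two, one_smul]
        show QuadraticMap.polar ⇑Q x v = 0
        rw [ev, QuadraticMap.polar_add_right, QuadraticMap.polar_comm, horth _ hv1 _ x.2, zero_add]
        exact hx ⟨_, hv2⟩)
      exact ⟨hsep, fun y hy => hsep y fun x => (ClassicalSimple.bil_comm (Q := Q) y.1 x.1).trans (hy x)⟩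
    exact isSquare_of_odd_dim hBW (s.restrict hsW) hν (fun x y => by
      show QuadraticMap.polar ⇑Q (s x.1) (s y.1) = ν * QuadraticMap.polar ⇑Q x.1 y.1
      rw [hsdef, Matrix.toLin'_apply, Matrix.toLin'_apply, ClassicalSimple.polar_sim]) hWodd
  · exfalso
    have h1 : finrank F U ≤ finrank F W := by
      rw [← LinearMap.finrank_range_of_inj (f := s ∘ₗ U.subtype) (hsinj.comp Subtype.val_injective)]
      refine Submodule.finrank_mono ?_
      rintro _ ⟨x, rfl⟩
      refine (hW _).2 ?_
      rw [LinearMap.comp_apply, Submodule.subtype_apply, hts, (hU _).1 x.2, hc1, neg_one_smul]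
    have h2 : finrank F W ≤ finrank F U := by
      rw [← LinearMap.finrank_range_of_inj (f := s ∘ₗ W.subtype) (hsinj.comp Subtype.val_injective)]
      refine Submodule.finrank_mono ?_
      rintro _ ⟨x, rfl⟩
      refine (hU _).2 ?_
      rw [LinearMap.comp_apply, Submodule.subtype_apply, hts, (hW _).1 x.2, hc1, map_neg, neg_one_smul,
        neg_neg]
    obtain ⟨j, hj⟩ := hWodd
    obtain ⟨i, hi⟩ := hk
    omega

/-- Without `-1` in `Omega` the class still splits when the dimension is divisible by four. -/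
theorem split_two_even {Q : QuadraticForm F (ι → F)} {k : ℕ} (E : EvenForm Q k)
    (T : ClassicalSimple.Twist E) (hneg : ¬ NegOneOmega Q) (hk : Even k) (g : GO Q)
    (hgg : g * g ∈ ClassicalSimple.scalarSub Q) (hd : dsign k g = -1) :
    splitClassCount (innDiag E) (Inn (POmega F ⇑Q)) (simAut Q g) = 2 := by
  classical
  rw [AutPSL.splitClassCount_eq _ _
    ((ClassicalSimple.inn_le_pso E).trans (ClassicalSimple.psoAut_le_innDiag E))]
  have hle : Inn (POmega F ⇑Q) ⊔ (innDiag E ⊓ Subgroup.centralizer {simAut Q g}) = Inn (POmega F ⇑Q) := by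
    refine sup_eq_left.2 ?_
    rintro x ⟨hx, hxc⟩
    obtain ⟨h, hh, rfl⟩ := hx
    have e : g * h * (h * g)⁻¹ ∈ ClassicalSimple.scalarSub Q := by
      rw [← ClassicalSimple.ker_simAut Q E.nondeg E.five, MonoidHom.mem_ker, map_mul, map_inv, map_mul,
        map_mul, mul_inv_eq_one]
      exact (Subgroup.mem_centralizer_singleton_iff.1 hxc).symm
    rw [← ClassicalSimple.pso_eq_inn E hneg, ClassicalSimple.mem_pso_iff E]
    exact ⟨isSquare_of_commute E hk g h hgg hd e, hh⟩
  rw [hle]
  obtain ⟨φ, h1, h2⟩ := ClassicalSimple.inndiag_inn_two E T hneg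
  rw [ClassicalSimple.relIndex_eq_of_hom φ h1 h2, Nat.card_congr Multiplicative.toAdd, Nat.card_zmod]

variable {m : ℕ} {a b : F}

local notation "Im" => (Fin m ⊕ Fin m) ⊕ Fin 2
local notation "QM" => minusForm F m a b

set_option maxHeartbeats 1600000 in
/-- Involutory automorphisms of the minus-type group are induced by similarities. -/
theorem mem_pgo_of_sq_minus (hm : 3 ≤ m)
    (hab : ∀ z₁ z₂ : F, z₁ ^ 2 + a * z₁ * z₂ + b * z₂ ^ 2 = 0 → z₁ = 0 ∧ z₂ = 0)
    (hodd : Odd (Fintype.card F)) (γ : MulAut (POmega F ⇑QM)) (h2 : γ * γ = 1) :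
    γ ∈ pgoAut F ⇑QM := by
  classical
  obtain ⟨p, hchar⟩ := CharP.exists F
  obtain ⟨⟨f, hf⟩, hprime, hF⟩ := FiniteField.card F p
  haveI : Fact p.Prime := ⟨hprime⟩
  replace hf : 1 ≤ f := hf
  replace hF : Fintype.card F = p ^ f := hF
  obtain ⟨π, g, hp, v, hv, hker, hord, hcard, hpow, hsurj⟩ := exists_outFrob (hchar := hchar) hm hab p hf hF
  have E := ClassicalSimple.evenForm_minus (a := a) (b := b) (m := m) hodd (by omega) hab
  obtain ⟨T⟩ := ClassicalSimple.twist_minus E hab
  set x : Out (POmega F ⇑QM) := QuotientGroup.mk γ with hx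
  have hx2 : x * x = 1 := by rw [hx, ← QuotientGroup.mk_mul, h2, QuotientGroup.mk_one]
  suffices hxk : x ∈ π.ker by
    rw [hker] at hxk
    obtain ⟨β, hβ, hβe⟩ := hxk
    have h1 : β⁻¹ * γ ∈ pgoAut F ⇑QM := ((ClassicalSimple.inn_le_pso E).trans
      ((ClassicalSimple.psoAut_le_innDiag E).trans (ClassicalSimple.innDiag_le_pgoAut E)))
      (QuotientGroup.eq.1 hβe)
    simpa using mul_mem hβ h1
  rw [MonoidHom.mem_ker]
  have hπ2 : π x * π x = 1 := by rw [← map_mul, hx2, map_one]
  by_cases hN : NegOneOmega QM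
  · have h43 := ((ClassicalSimple.negOne_minus (m := m) hodd hab).1 hN).2
    have hfodd : Odd f := by
      rw [← Nat.not_even_iff_odd]
      rintro ⟨j, rfl⟩
      rw [hF, pow_add, Nat.mul_mod] at h43
      have h4 : p ^ j % 4 = 0 ∨ p ^ j % 4 = 1 ∨ p ^ j % 4 = 2 ∨ p ^ j % 4 = 3 := by omega
      rcases h4 with e | e | e | e <;> rw [e] at h43 <;> norm_num at h43
    rw [← orderOf_eq_one_iff]
    refine Nat.eq_one_of_dvd_coprimes (Nat.coprime_two_left.2 hfodd) (orderOf_dvd_of_pow_eq_one ?_)
      (hcard ▸ orderOf_dvd_natCard (π x))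
    rw [pow_two, hπ2]
  set y : Out (POmega F ⇑QM) := QuotientGroup.mk (semiA hp) with hy
  set r : Out (POmega F ⇑QM) := QuotientGroup.mk (simAut QM (reflGO v hv))
  have hr2 : r * r = 1 := by
    rw [← QuotientGroup.mk_mul, ← map_mul, ClassicalSimple.reflGO_mul_self, map_one, QuotientGroup.mk_one]
  have hrn : r ≠ 1 := fun e => by
    rw [QuotientGroup.eq_one_iff, ← ClassicalSimple.pso_eq_inn E hN, ClassicalSimple.mem_pso_iff E,
      ClassicalSimple.dsign_refl E] at e
    exact E.two (by linear_combination -e.2)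
  have hoy : orderOf y = 2 * f := orderOf_lift π hf hord hpow hrn hr2
  have : Finite (F ≃+* F) := Nat.finite_of_card_ne_zero (by omega)
  have htop : Subgroup.zpowers (π y) = ⊤ :=
    Subgroup.eq_top_of_card_eq _ (by rw [Nat.card_zpowers, hord, hcard])
  obtain ⟨j, hj⟩ : π x ∈ Subgroup.zpowers (π y) := htop ▸ Subgroup.mem_top _
  have hjπ : π y ^ j = π x := hj
  set k := x * (y ^ j)⁻¹ with hkdef
  have hk : k ∈ π.ker := by rw [MonoidHom.mem_ker, hkdef, map_mul, map_inv, map_zpow, hjπ, mul_inv_cancel]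
  have hkk : k * k = 1 := by
    obtain ⟨φ, hφ, hφk⟩ := ClassicalSimple.pgo_inn_four E T hN
    obtain ⟨eA⟩ := ker_equiv π hker φ hφ hφk
    have h22 : ∀ z : Multiplicative (ZMod 2 × ZMod 2), z * z = 1 := by decide
    exact congrArg Subtype.val (eA.injective (show eA (⟨k, hk⟩ * ⟨k, hk⟩) = eA 1 by
      rw [map_mul, h22, map_one]))
  have hc : Commute k (y ^ j) := (commute_of_not_neg E π hker hN hp hk).zpow_right j
  have hjj : y ^ (j + j) = 1 := by
    have hxk : x = k * y ^ j := by rw [hkdef, inv_mul_cancel_right]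
    have e : k * y ^ j * (k * y ^ j) = k * k * (y ^ j * y ^ j) := hc.symm.mul_mul_mul_comm k (y ^ j)
    rw [← hxk, hx2, hkk, one_mul] at e
    rw [zpow_add, ← e]
  rw [← orderOf_dvd_iff_zpow_eq_one, hoy] at hjj
  rw [← hjπ, ← orderOf_dvd_iff_zpow_eq_one, hord]
  push_cast at hjj
  exact (mul_dvd_mul_iff_left (two_ne_zero (α := ℤ))).1 (by rwa [← two_mul] at hjj)

end Cfsg.Agent.AutPOmega
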