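import Cfsg.Agent.Lib.AutPOmega.Main
import Cfsg.Agent.Lib.ClassicalSimple.OrthMatrix
import Cfsg.Agent.Lib.Forms.QuadOrder
import Cfsg.Prelude.Def_LieTypeDatum

/-!
`gammaPOmega` is the whole automorphism group, for the matrix models.
-/

set_option autoImplicit false

namespace Cfsg.Agent.AutPOmega

open ClassicalSimple Module
open scoped Matrix

universe u

variable {ι : Type} [Fintype ι] [DecidableEq ι] {F : Type u} [Field F] [Finite F]

/-- `Omega` as the Siegel group. -/
noncomputable def omegaEquiv (Q : QuadraticForm F (ι → F)) (hN : (bil Q).Nondegenerate)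
    (h5 : 5 ≤ finrank F (ι → F)) : Cfsg.Omega F ⇑Q ≃* siegelGroup Q :=
  ((isometryEquiv Q).subgroupMap _).trans
    (MulEquiv.subgroupCongr ((map_commutator_top (isometryEquiv Q)).trans
      (commutator_eq_siegelGroup hN h5)))

theorem omegaEquiv_smul (Q : QuadraticForm F (ι → F)) (hN : (bil Q).Nondegenerate)
    (h5 : 5 ≤ finrank F (ι → F)) (s : Cfsg.Omega F ⇑Q) (x : ι → F) :
    omegaEquiv Q hN h5 s • x =
      (((s : Cfsg.isometryGroup F ⇑Q) : GL ι F) : Matrix ι ι F) *ᵥ x :=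
  rfl

/-- `POmega` as the central quotient of the Siegel group. -/
noncomputable def psEquiv (Q : QuadraticForm F (ι → F)) (hN : (bil Q).Nondegenerate)
    (h5 : 5 ≤ finrank F (ι → F)) : Cfsg.POmega F ⇑Q ≃* PS Q :=
  centerQuotientCongr (omegaEquiv Q hN h5)

theorem exists_induced_of_meet (Q : QuadraticForm F (ι → F)) (hN : (bil Q).Nondegenerate)
    (h7 : 7 ≤ finrank F (ι → F)) (β : MulAut (Cfsg.POmega F ⇑Q))
    (hMP : MeetPres (MulAut.congr (psEquiv Q hN (by omega)) β)) :
    ∃ (g : GL ι F) (σ : F ≃+* F), IsSemisimilarityPair ⇑Q g σ ∧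
      IsInducedBySemilinearPOmega ⇑Q g σ β := by
  have h5 : 5 ≤ finrank F (ι → F) := by omega
  set e := centerQuotientCongr (omegaEquiv Q hN h5)
  obtain ⟨G, σ, c, hc, hinj, hsl, hQ, hG⟩ := exists_semilinear_of_meet hN h7 hMP
  let M : Matrix ι ι F := Matrix.of fun i j => G (Pi.single j 1) i
  have hM : ∀ x, M *ᵥ (fun i => σ (x i)) = G x := by
    intro x
    conv_rhs => rw [pi_eq_sum_univ' x, map_sum]
    funext i
    simp [M, Matrix.mulVec, dotProduct, hsl, mul_comm]
  have hMi : Function.Injective M.mulVec := by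
    intro a b h
    have e1 := hM (fun i => σ.symm (a i))
    have e2 := hM (fun i => σ.symm (b i))
    simp only [RingEquiv.apply_symm_apply] at e1 e2
    have := hinj (e1.symm.trans (h.trans e2))
    funext i
    exact σ.symm.injective (congrFun this i)
  obtain ⟨g, hg⟩ := Matrix.mulVec_injective_iff_isUnit.1 hMi
  refine ⟨g, σ, ⟨Units.mk0 c hc, fun v => ?_⟩, fun s s' hs => ?_⟩
  · rw [hg, hM, hQ, Units.val_mk0]
  · have h := hG (omegaEquiv Q hN h5 s) (omegaEquiv Q hN h5 s') fun x => by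
      rw [omegaEquiv_smul, omegaEquiv_smul, hs, ← hM, ← hM, hg, Matrix.mulVec_mulVec, Matrix.mul_assoc,
        ← hg, ← Units.val_mul, inv_mul_cancel, Units.val_one, mul_one, ← Matrix.mulVec_mulVec]
      congr 1
      funext i
      exact ((σ : F →+* F).map_mulVec _ _ i).symm
    have e1 : ∀ t, e (QuotientGroup.mk t) = QuotientGroup.mk (omegaEquiv Q hN h5 t) := fun _ => rfl
    rw [← e1, ← e1, MulAut.congr_apply, MulEquiv.trans_apply, MulEquiv.trans_apply] at h
    change e (β (e.symm (e (QuotientGroup.mk s)))) = _ at h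
    rw [e.symm_apply_apply] at h
    exact e.injective h

theorem exists_induced (Q : QuadraticForm F (ι → F)) (hN : (bil Q).Nondegenerate)
    (h7 : 7 ≤ finrank F (ι → F))
    (hD : 9 ≤ finrank F (ι → F) ∨
      ∀ W : Submodule F (ι → F), (∀ x ∈ W, Q x = 0) → finrank F W ≤ 3)
    (β : MulAut (Cfsg.POmega F ⇑Q)) :
    ∃ (g : GL ι F) (σ : F ≃+* F), IsSemisimilarityPair ⇑Q g σ ∧
      IsInducedBySemilinearPOmega ⇑Q g σ β :=
  exists_induced_of_meet Q hN h7 β (meetPres_of_dim hN h7 hD _)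

theorem gammaPOmega_eq_top (Q : QuadraticForm F (ι → F)) (hN : (bil Q).Nondegenerate)
    (h7 : 7 ≤ finrank F (ι → F))
    (hD : 9 ≤ finrank F (ι → F) ∨
      ∀ W : Submodule F (ι → F), (∀ x ∈ W, Q x = 0) → finrank F W ≤ 3) :
    gammaPOmega F ⇑Q = ⊤ :=
  eq_top_iff.2 fun β _ => Subgroup.subset_closure (exists_induced Q hN h7 hD β)

omit [DecidableEq ι] [Finite F] in
theorem finrank_singular_le {Q : QuadraticForm F (ι → F)} (hN : (bil Q).Nondegenerate)
    (W : Submodule F (ι → F)) (hW : ∀ x ∈ W, Q x = 0) :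
    2 * finrank F W ≤ finrank F (ι → F) := by
  have hle : W ≤ LinearMap.BilinForm.orthogonal (bil Q) W := fun x hx n hn =>
    bil_of_singular hW hn hx
  have h1 := Submodule.finrank_mono hle
  rw [LinearMap.BilinForm.finrank_orthogonal hN] at h1
  have := Submodule.finrank_le W
  omega

theorem gammaPOmega_odd {m : ℕ} (hm : 3 ≤ m) (h2 : (2 : F) ≠ 0) :
    gammaPOmega F (quadFormOdd m F) = ⊤ := by
  rw [← show ⇑(Forms.quadOdd m F) = quadFormOdd m F from funext Forms.quadOdd_apply]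
  have hd : finrank F (Unit ⊕ (Fin m ⊕ Fin m) → F) = 2 * m + 1 := by
    rw [Module.finrank_fintype_fun_eq_card]; simp; omega
  refine gammaPOmega_eq_top _ (Forms.quadOdd_nondegenerate h2 m) (by omega) ?_
  by_cases h4 : 4 ≤ m
  · exact Or.inl (by omega)
  · refine Or.inr fun W hW => ?_
    have := finrank_singular_le (Forms.quadOdd_nondegenerate h2 m) W hW
    omega

theorem gammaPOmega_plus {m : ℕ} (hm : 5 ≤ m) : gammaPOmega F (quadFormPlus m F) = ⊤ := by
  rw [← show ⇑(Forms.quadPlus m F) = quadFormPlus m F from funext Forms.quadPlus_apply]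
  have hd : finrank F (Fin m ⊕ Fin m → F) = 2 * m := by
    rw [Module.finrank_fintype_fun_eq_card]; simp; omega
  exact gammaPOmega_eq_top _ (Forms.quadPlus_nondegenerate m) (by omega) (Or.inl (by omega))

theorem witt_minus {m : ℕ} (hm : 3 ≤ m) {a b : F}
    (hab : ∀ z₁ z₂ : F, z₁ ^ 2 + a * z₁ * z₂ + b * z₂ ^ 2 = 0 → z₁ = 0 ∧ z₂ = 0) :
    9 ≤ finrank F ((Fin m ⊕ Fin m) ⊕ Fin 2 → F) ∨
      ∀ W : Submodule F ((Fin m ⊕ Fin m) ⊕ Fin 2 → F),
        (∀ x ∈ W, Forms.quadMinus m F a b x = 0) → finrank F W ≤ 3 := by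
  have hN : (bil (Forms.quadMinus m F a b)).Nondegenerate := Forms.quadMinus_nondegenerate m hab
  have hd : finrank F ((Fin m ⊕ Fin m) ⊕ Fin 2 → F) = 2 * m + 2 := by
    rw [Module.finrank_fintype_fun_eq_card]; simp; omega
  by_cases h4 : 4 ≤ m
  · exact Or.inl (by omega)
  refine Or.inr fun U hU => ?_
  by_contra hU4
  have hU' := finrank_singular_le hN U hU
  let π : ((Fin m ⊕ Fin m) ⊕ Fin 2 → F) →ₗ[F] (Fin m → F) :=
    LinearMap.pi fun i => LinearMap.proj (Sum.inl (Sum.inr i))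
  set P := LinearMap.ker π
  have hP : ∀ x ∈ P, ∀ i, x (Sum.inl (Sum.inr i)) = 0 := fun x hx i => congrFun hx i
  have hP5 : finrank F ((Fin m ⊕ Fin m) ⊕ Fin 2 → F) ≤ finrank F P + m := by
    have h1 := LinearMap.finrank_range_add_finrank_ker π
    have h2 := Submodule.finrank_le (LinearMap.range π)
    rw [Module.finrank_fin_fun] at h2
    show _ ≤ finrank F (LinearMap.ker π) + m
    omega
  have hle : U ⊓ P ≤ LinearMap.BilinForm.orthogonal (bil (Forms.quadMinus m F a b)) (U ⊔ P) := by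
    rintro k ⟨hkU, hkP⟩ n hn
    obtain ⟨u, hu, p, hp, rfl⟩ := Submodule.mem_sup.1 hn
    have hk := hU k hkU
    rw [Forms.quadMinus_apply, quadFormMinus] at hk
    simp only [hP k hkP, mul_zero, Finset.sum_const_zero, zero_add] at hk
    obtain ⟨z0, z1⟩ := hab _ _ hk
    show bil (Forms.quadMinus m F a b) (u + p) k = 0
    rw [map_add, LinearMap.add_apply, bil_of_singular hU hu hkU, zero_add, bil_apply,
      QuadraticMap.polar, Forms.quadMinus_apply, Forms.quadMinus_apply, Forms.quadMinus_apply]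
    simp [quadFormMinus, hP k hkP, hP p hp, z0, z1]
  have h1 := Submodule.finrank_mono hle
  rw [LinearMap.BilinForm.finrank_orthogonal hN] at h1
  have h2 := Submodule.finrank_sup_add_finrank_inf_eq U P
  have h3 := Submodule.finrank_le (U ⊔ P)
  omega

theorem gammaPOmega_minus {m : ℕ} (hm : 3 ≤ m) {a b : F}
    (hab : ∀ z₁ z₂ : F, z₁ ^ 2 + a * z₁ * z₂ + b * z₂ ^ 2 = 0 → z₁ = 0 ∧ z₂ = 0) :
    gammaPOmega F (quadFormMinus m F a b) = ⊤ := by
  rw [← show ⇑(Forms.quadMinus m F a b) = quadFormMinus m F a b from funext Forms.quadMinus_apply]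
  have hd : finrank F ((Fin m ⊕ Fin m) ⊕ Fin 2 → F) = 2 * m + 2 := by
    rw [Module.finrank_fintype_fun_eq_card]; simp; omega
  exact gammaPOmega_eq_top _ (Forms.quadMinus_nondegenerate m hab) (by omega) (witt_minus hm hab)

end Cfsg.Agent.AutPOmega
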