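import Cfsg.Agent.Lib.AutPOmega.Out
import Cfsg.Agent.Lib.AutPO.Lang
import Cfsg.Agent.Lib.ClassicalSimple.PGOModels

/-!
The minus type: the automorphism data and the semilinear map that is Frobenius on the anisotropic plane seen
as a field extension; its `f`-th power is a reflection.
-/

set_option autoImplicit false

namespace Cfsg.Agent.AutPOmega

open scoped Matrix MatrixGroups
open AutPO (Semi semiA)
open ClassicalSimple (GO simAut bil)
open QForm (minusForm)
open Module (finrank)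

universe u

variable {F : Type u} [Field F] [Fintype F] {m : ℕ} {a b : F}

local notation "Im" => (Fin m ⊕ Fin m) ⊕ Fin 2

omit [Fintype F] in
theorem minusForm_eq_quadMinus : minusForm F m a b = Forms.quadMinus m F a b :=
  QuadraticMap.ext fun v => by rw [QForm.minusForm_apply, Forms.quadMinus_apply]

theorem minus_nondeg (hab : ∀ z₁ z₂ : F, z₁ ^ 2 + a * z₁ * z₂ + b * z₂ ^ 2 = 0 → z₁ = 0 ∧ z₂ = 0) :
    (QuadraticMap.polarBilin (minusForm F m a b)).Nondegenerate := by
  rw [minusForm_eq_quadMinus]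
  exact Forms.quadMinus_nondegenerate m hab

omit [Fintype F] in
theorem minus_single_x (i : Fin m) :
    minusForm F m a b (Pi.single (Sum.inl (Sum.inl i)) 1) = 0 ∧
      ∀ x, bil (minusForm F m a b) (Pi.single (Sum.inl (Sum.inl i)) 1) x = x (Sum.inl (Sum.inr i)) := by
  have h0 : minusForm F m a b (Pi.single (Sum.inl (Sum.inl i)) 1) = 0 := by
    simp [QForm.minusForm_apply, quadFormMinus, Pi.single_apply]
  refine ⟨h0, fun x => ?_⟩
  rw [ClassicalSimple.bil_apply, QuadraticMap.polar, h0, QForm.minusForm_apply, QForm.minusForm_apply]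
  simp [quadFormMinus, Pi.single_apply, add_mul, Finset.sum_add_distrib]

theorem autData_minus (hm : 3 ≤ m)
    (hab : ∀ z₁ z₂ : F, z₁ ^ 2 + a * z₁ * z₂ + b * z₂ ^ 2 = 0 → z₁ = 0 ∧ z₂ = 0) :
    AutData (minusForm F m a b) where
  nondeg := minus_nondeg hab
  five := by simp; omega
  pair β := by
    have hd : finrank F (Im → F) = 2 * m + 2 := by
      rw [Module.finrank_fintype_fun_eq_card]; simp; omega
    obtain ⟨g, σ, hp, hi⟩ := exists_induced (minusForm F m a b) (minus_nondeg hab) (by omega)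
      (by rw [minusForm_eq_quadMinus]; exact witt_minus hm hab) β
    exact ⟨g, σ, hp, AutPO.eq_semiA hp hi⟩
  probe := by
    let i : Fin m := ⟨0, by omega⟩
    let j : Fin m := ⟨1, by omega⟩
    have hij : i ≠ j := by simp [i, j, Fin.ext_iff]
    obtain ⟨hu, bu⟩ := minus_single_x (a := a) (b := b) i
    obtain ⟨hv, bv⟩ := minus_single_x (a := a) (b := b) j
    have pu : ∀ k, polarVec ⇑(minusForm F m a b) (Pi.single (Sum.inl (Sum.inl i)) 1) k =
        (Pi.single k 1 : Im → F) (Sum.inl (Sum.inr i)) := fun k => bu _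
    have pv : ∀ k, polarVec ⇑(minusForm F m a b) (Pi.single (Sum.inl (Sum.inl j)) 1) k =
        (Pi.single k 1 : Im → F) (Sum.inl (Sum.inr j)) := fun k => bv _
    refine probe_of_line (minus_nondeg hab) (by simp; omega) _ _ hu hv
      (by rw [bu]; simp) (fun σ k => ?_) fun h => ?_
    · simp only [pu, pv, Pi.single_apply]
      refine ⟨?_, ?_, ?_, ?_⟩ <;> split_ifs <;> simp
    · have := congrFun (congrFun h (Sum.inl (Sum.inl j))) (Sum.inl (Sum.inr i))
      simp [Matrix.vecMulVec_apply, pu, pv, hij.symm] at this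

/-- The anisotropic plane as a field. -/
theorem exists_plane_field (hab : ∀ z₁ z₂ : F, z₁ ^ 2 + a * z₁ * z₂ + b * z₂ ^ 2 = 0 → z₁ = 0 ∧ z₂ = 0) :
    ∃ (K : Type u) (_ : Field K) (_ : Fintype K) (f : F →+* K) (θ : K),
      θ ^ 2 - f a * θ + f b = 0 ∧ Fintype.card K = Fintype.card F ^ 2 ∧
      Function.Bijective (fun z : F × F => f z.1 + f z.2 * θ) := by
  classical
  let P : Polynomial F := Polynomial.X ^ 2 + Polynomial.C (-a) * Polynomial.X + Polynomial.C b
  have hdeg : P.natDegree = 2 := by simp only [P]; compute_degree!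
  have hirr : Irreducible P := by
    refine (Polynomial.irreducible_iff_roots_eq_zero_of_degree_le_three (by omega) (by omega)).2 ?_
    refine Multiset.eq_zero_of_forall_notMem fun x hx => one_ne_zero (hab (-x) 1 ?_).2
    have := Polynomial.isRoot_of_mem_roots hx
    simp [P] at this
    linear_combination this
  have := Fact.mk hirr
  have hfin : finrank F (AdjoinRoot P) = 2 := by
    rw [(AdjoinRoot.powerBasis hirr.ne_zero).finrank, AdjoinRoot.powerBasis_dim, hdeg]
  have : FiniteDimensional F (AdjoinRoot P) := Module.finite_of_finrank_pos (by omega)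
  have : Finite (AdjoinRoot P) := Module.finite_of_finite F
  let instK : Fintype (AdjoinRoot P) := Fintype.ofFinite _
  set θ : AdjoinRoot P := AdjoinRoot.root P
  set f : F →+* AdjoinRoot P := AdjoinRoot.of P
  have hθ : θ ^ 2 - f a * θ + f b = 0 := by
    have h := AdjoinRoot.eval₂_root P
    simp only [P, Polynomial.eval₂_add, Polynomial.eval₂_mul, Polynomial.eval₂_pow,
      Polynomial.eval₂_X, Polynomial.eval₂_C] at h
    linear_combination h - θ * map_neg f a
  have hcard : Fintype.card (AdjoinRoot P) = Fintype.card F ^ 2 := by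
    rw [← hfin]; exact Module.card_eq_pow_finrank
  refine ⟨AdjoinRoot P, inferInstance, instK, f, θ, hθ, hcard, ?_⟩
  refine (Fintype.bijective_iff_injective_and_card _).2
    ⟨fun z w h => ?_, by rw [Fintype.card_prod, hcard, sq]⟩
  have h0 : f (z.1 - w.1) + f (z.2 - w.2) * θ = 0 := by
    simp only [map_sub]
    linear_combination h
  have hN : f ((z.1 - w.1) ^ 2 + a * (z.1 - w.1) * (z.2 - w.2) + b * (z.2 - w.2) ^ 2) = 0 := by
    simp only [map_add, map_mul, map_pow]
    linear_combination (f (z.1 - w.1) + f (z.2 - w.2) * (f a - θ)) * h0 + f (z.2 - w.2) ^ 2 * hθ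
  obtain ⟨e1, e2⟩ := hab _ _ (f.injective (hN.trans (map_zero f).symm))
  exact Prod.ext (sub_eq_zero.1 e1) (sub_eq_zero.1 e2)

theorem semiA_congr {Q : QuadraticForm F (Im → F)} {g g' : GL Im F} {σ σ' : F ≃+* F}
    (hp : Semi Q g σ) (hp' : Semi Q g' σ') (e : g = g') (e' : σ = σ') : semiA hp = semiA hp' := by
  subst e e'; rfl

theorem exists_frob (hab : ∀ z₁ z₂ : F, z₁ ^ 2 + a * z₁ * z₂ + b * z₂ ^ 2 = 0 → z₁ = 0 ∧ z₂ = 0)
    (p : ℕ) [Fact p.Prime] [CharP F p] {k : ℕ} (hk : 1 ≤ k) (hF : Fintype.card F = p ^ k) :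
    ∃ (g : GL Im F) (hp : Semi (minusForm F m a b) g (frobeniusEquiv F p))
      (v : Im → F) (hv : minusForm F m a b v ≠ 0),
      semiA hp ^ k = simAut (minusForm F m a b) (ClassicalSimple.reflGO v hv) := by
  classical
  obtain ⟨K, _, _, f, θ, hθ, hcard, hbij⟩ := exists_plane_field hab
  have : CharP K p := charP_of_injective_ringHom f.injective p
  have hfix : ∀ x : F, f x ^ (p ^ k) = f x := fun x => by rw [← map_pow, ← hF, FiniteField.pow_card]
  have hp1 : 1 < p := (Fact.out : p.Prime).one_lt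
  have hθq : θ ^ (p ^ k) = f a - θ := by
    have h1 : (θ ^ (p ^ k)) ^ 2 - f a * θ ^ (p ^ k) + f b = 0 := by
      have h := congrArg (· ^ (p ^ k)) hθ
      simp only [add_pow_char_pow, sub_pow_char_pow, mul_pow, hfix] at h
      rw [zero_pow (pow_ne_zero k (Fact.out : p.Prime).ne_zero)] at h
      rw [← pow_mul, mul_comm, pow_mul]
      exact h
    have h2 : (θ ^ (p ^ k) - θ) * (θ ^ (p ^ k) - (f a - θ)) = 0 := by linear_combination h1 - hθ
    refine sub_eq_zero.1 ((mul_eq_zero.1 h2).resolve_left fun h3 => ?_)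
    rw [sub_eq_zero] at h3
    have hall : ∀ w : K, w ^ (p ^ k) = w := by
      intro w
      obtain ⟨z, rfl⟩ := hbij.2 w
      simp only [add_pow_char_pow, mul_pow, hfix, h3]
    obtain ⟨u, hu⟩ := IsCyclic.exists_ofOrder_eq_natCard (α := Kˣ)
    have h4 : u ^ (p ^ k - 1) = 1 := by
      have e' : u ^ p ^ k = u := Units.ext (by rw [Units.val_pow_eq_pow_val, hall])
      have hs : p ^ k - 1 + 1 = p ^ k := Nat.sub_add_cancel (Nat.one_le_pow _ _ (Fact.out : p.Prime).pos)
      rw [← hs, pow_succ] at e'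
      exact mul_eq_right.1 e'
    have h5 := Nat.le_of_dvd (Nat.sub_pos_of_lt (Nat.one_lt_pow (by omega) hp1))
      (hu ▸ orderOf_dvd_of_pow_eq_one h4)
    rw [Nat.card_units, Nat.card_eq_fintype_card, hcard, hF] at h5
    have h6 : 1 < p ^ k := Nat.one_lt_pow (by omega) hp1
    have h7 : p ^ k * 2 ≤ (p ^ k) ^ 2 := by rw [sq]; exact Nat.mul_le_mul_left _ h6
    omega
  obtain ⟨⟨α, β⟩, hαβ⟩ := hbij.2 (θ ^ p)
  simp only at hαβ
  have hθp : (f a - θ) ^ p = f α + f β * (f a - θ) := by
    rw [← hθq, ← pow_mul, mul_comm, pow_mul, ← hαβ]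
    simp only [add_pow_char_pow, mul_pow, hfix]
  have hβ : β ≠ 0 := by
    rintro rfl
    rw [map_zero, zero_mul, add_zero] at hαβ
    rw [map_zero, zero_mul, add_zero, hαβ] at hθp
    have e : f a - θ = θ := frobenius_inj K p (show (f a - θ) ^ p = θ ^ p from hθp)
    have hall : θ ^ (p ^ k) = θ := hθq.trans e
    have hmem : θ ^ (p ^ k) = f (α ^ (p ^ (k - 1))) := by
      rw [map_pow, hαβ, ← pow_mul, ← pow_succ', Nat.sub_add_cancel hk]
    have h2 := hbij.1 (a₁ := (α ^ (p ^ (k - 1)), 0)) (a₂ := (0, 1))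
      (by simp only [map_zero, zero_mul, add_zero, map_one, one_mul, zero_add]
          rw [← hmem, hall])
    simp at h2
  let G : Matrix Im Im F := Matrix.fromBlocks 1 0 0 !![1, α; 0, β]
  have hG : G.det ≠ 0 := by
    simp only [G, Matrix.det_fromBlocks_zero₂₁, Matrix.det_one, one_mul, Matrix.det_fin_two_of]
    simpa using hβ
  set g : GL Im F := Matrix.GeneralLinearGroup.mkOfDetNeZero G hG
  set σ := frobeniusEquiv F p
  have hσ : ∀ x : F, σ x = x ^ p := fun _ => rfl
  have hl : ∀ (v : Im → F) i, (G *ᵥ v) (Sum.inl i) = v (Sum.inl i) := fun v i => by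
    simp [G, Matrix.fromBlocks_mulVec]
  have hr : ∀ (v : Im → F), (G *ᵥ v) (Sum.inr 0) = v (Sum.inr 0) + α * v (Sum.inr 1) ∧
      (G *ᵥ v) (Sum.inr 1) = β * v (Sum.inr 1) := fun v => by
    simp [G, Matrix.mulVec, dotProduct, Fin.sum_univ_two]
  have hplane : ∀ z : Im → F, f ((G *ᵥ fun i => σ (z i)) (Sum.inr 0)) +
      f ((G *ᵥ fun i => σ (z i)) (Sum.inr 1)) * θ = (f (z (Sum.inr 0)) + f (z (Sum.inr 1)) * θ) ^ p := by
    intro z
    rw [(hr _).1, (hr _).2, add_pow_char, mul_pow, ← hαβ]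
    simp only [hσ, map_add, map_mul, map_pow]
    ring
  have hplane' : ∀ z : Im → F, f ((G *ᵥ fun i => σ (z i)) (Sum.inr 0)) +
      f ((G *ᵥ fun i => σ (z i)) (Sum.inr 1)) * (f a - θ) =
        (f (z (Sum.inr 0)) + f (z (Sum.inr 1)) * (f a - θ)) ^ p := by
    intro z
    rw [(hr _).1, (hr _).2, add_pow_char, mul_pow, hθp]
    simp only [hσ, map_add, map_mul, map_pow]
    ring
  have hp : Semi (minusForm F m a b) g σ := by
    refine ⟨1, fun v => f.injective ?_⟩
    rw [show (g : Matrix Im Im F) = G from rfl, Units.val_one, one_mul, hσ, QForm.minusForm_apply,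
      QForm.minusForm_apply, map_pow]
    have hb : ∀ S z₀ z₁ : F, f (S + (z₀ ^ 2 + a * z₀ * z₁ + b * z₁ ^ 2)) =
        f S + (f z₀ + f z₁ * θ) * (f z₀ + f z₁ * (f a - θ)) := fun S z₀ z₁ => by
      simp only [map_add, map_mul, map_pow]
      linear_combination f z₁ ^ 2 * hθ
    simp only [quadFormMinus, hl, hb, map_sum f, hplane, hplane']
    simp only [add_pow_char, mul_pow, sum_pow_char, map_mul, hσ, map_pow]
  obtain ⟨h, hh, he, hit⟩ := semiA_pow hp k
  have iter : ∀ (j : ℕ) (v : Im → F),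
      (∀ i, (semiMap g σ)^[j] v (Sum.inl i) = v (Sum.inl i) ^ p ^ j) ∧
      f ((semiMap g σ)^[j] v (Sum.inr 0)) + f ((semiMap g σ)^[j] v (Sum.inr 1)) * θ =
        (f (v (Sum.inr 0)) + f (v (Sum.inr 1)) * θ) ^ p ^ j := by
    intro j v
    induction j with
    | zero => simp
    | succ j ih =>
      rw [Function.iterate_succ_apply']
      refine ⟨fun i => ?_, ?_⟩
      · show (G *ᵥ _) (Sum.inl i) = _
        rw [hl, hσ, ih.1, ← pow_mul, ← pow_succ]
      · rw [show semiMap g σ ((semiMap g σ)^[j] v) =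
          G *ᵥ fun i => σ ((semiMap g σ)^[j] v i) from rfl, hplane, ih.2, ← pow_mul, ← pow_succ]
  have hσk : σ ^ k = 1 := RingEquiv.ext fun x => by
    rw [frob_pow_apply, ← hF, FiniteField.pow_card, RingAut.one_apply]
  let v0 : Im → F := Sum.elim 0 ![-a, 2]
  have hD : 4 * b - a ^ 2 ≠ 0 := Forms.disc_ne_zero hab
  have hQv0 : minusForm F m a b v0 = 4 * b - a ^ 2 := by
    simp [v0, QForm.minusForm_apply, quadFormMinus]
    ring
  have hv0 : minusForm F m a b v0 ≠ 0 := hQv0 ▸ hD
  have hpol : ∀ x, QuadraticMap.polar ⇑(minusForm F m a b) v0 x = (4 * b - a ^ 2) * x (Sum.inr 1) := by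
    intro x
    simp [v0, QuadraticMap.polar, QForm.minusForm_apply, quadFormMinus]
    ring
  refine ⟨g, hp, v0, hv0, ?_⟩
  rw [he, simAut_eq_semiA]
  refine semiA_congr _ _ (Units.ext (Matrix.ext_iff_mulVec.2 fun v => ?_)) hσk
  have h1 := hit v
  rw [hσk] at h1
  simp only [RingAut.one_apply] at h1
  rw [h1]
  show _ = reflectionMatrix ⇑(minusForm F m a b) v0 *ᵥ v
  rw [QForm.reflectionMatrix_mulVec, hQv0, hpol, inv_mul_cancel_left₀ hD]
  obtain ⟨il, ir⟩ := iter k v
  have hval : ((semiMap g σ)^[k] v (Sum.inr 0), (semiMap g σ)^[k] v (Sum.inr 1)) =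
      (v (Sum.inr 0) + a * v (Sum.inr 1), -v (Sum.inr 1)) := hbij.1 (by
    simp only
    rw [ir, add_pow_char_pow, mul_pow, hfix, hfix, hθq]
    simp only [map_add, map_mul, map_neg]
    ring)
  funext i
  rcases i with i | i
  · rw [il, ← hF, FiniteField.pow_card]
    simp [v0]
  · fin_cases i
    · simpa [v0, mul_comm] using congrArg Prod.fst hval
    · simp [v0]
      linear_combination congrArg Prod.snd hval

end Cfsg.Agent.AutPOmega
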