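import Cfsg.Agent.Lib.AutPOmega.Matrix
import Cfsg.Agent.Lib.ClassicalSimple.SimilarityAut
import Cfsg.Agent.Lib.QForm.Transitive
import Cfsg.Agent.Lib.Forms.Witt
import Cfsg.Agent.Lib.AutPO.PlusModel

/-!
Line maps of isometries, and the orbit criterion for an automorphism to preserve intersection of lines.
-/

set_option autoImplicit false

namespace Cfsg.Agent.AutPOmega

open scoped Matrix MatrixGroups
open ClassicalSimple (GO simAut bil siegelGroup)
open Module (finrank)

universe u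

variable {ι : Type} [Fintype ι] [DecidableEq ι] {F : Type u} [Field F] [Fintype F]
variable {Q : QuadraticForm F (ι → F)} (hN : (bil Q).Nondegenerate) (h7 : 7 ≤ finrank F (ι → F))

/-- The automorphisms moved to the Siegel model. -/
noncomputable def toPS : MulAut (Cfsg.POmega F ⇑Q) ≃* MulAut (PS Q) :=
  MulAut.congr (psEquiv Q hN (by omega))

omit [Fintype ι] [DecidableEq ι] [Fintype F] in
theorem IsLineMap.mul {β β' : MulAut (PS Q)} {σ σ' : Submodule F (ι → F) → Submodule F (ι → F)}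
    (h : IsLineMap β σ) (h' : IsLineMap β' σ') : IsLineMap (β * β') (σ ∘ σ') := by
  intro L hL
  obtain ⟨h1, e1⟩ := h' L hL
  obtain ⟨h2, e2⟩ := h _ h1
  refine ⟨h2, ?_⟩
  show _ = rootImg Q (σ (σ' L))
  rw [← e2, ← e1, Subgroup.map_map]
  rfl

include hN h7 in
theorem lineMap_unique {β : MulAut (PS Q)} {σ σ' : Submodule F (ι → F) → Submodule F (ι → F)}
    (h : IsLineMap β σ) (h' : IsLineMap β σ') {L : Submodule F (ι → F)} (hL : TSLine Q L) : σ L = σ' L :=
  rootImg_inj hN (by omega) (h L hL).1 (h' L hL).1 ((h L hL).2.symm.trans (h' L hL).2)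

/-- The image of a line under an isometry. -/
def mapLine (g : GL ι F) (L : Submodule F (ι → F)) : Submodule F (ι → F) :=
  L.map (Matrix.mulVecLin (g : Matrix ι ι F))

omit [Fintype F] in
theorem mem_mapLine_of_mem (g : GL ι F) {L : Submodule F (ι → F)} {x : ι → F} (hx : x ∈ L) :
    (g : Matrix ι ι F) *ᵥ x ∈ mapLine g L :=
  Submodule.mem_map_of_mem hx

omit [Fintype F] in
theorem tsLine_mapLine (g : Cfsg.isometryGroup F ⇑Q) {L : Submodule F (ι → F)} (hL : TSLine Q L) :
    TSLine Q (mapLine g.1 L) := by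
  have hinj : Function.Injective (Matrix.mulVecLin ((g.1 : GL ι F) : Matrix ι ι F)) :=
    Matrix.mulVec_injective_of_isUnit (Units.isUnit g.1)
  refine ⟨?_, ?_⟩
  · rw [mapLine, ← hL.1]
    exact ((Submodule.equivMapOfInjective _ hinj L).finrank_eq).symm
  · rintro _ ⟨x, hx, rfl⟩
    rw [Matrix.mulVecLin_apply, (ClassicalSimple.mem_isometry_iff Q).1 g.2, hL.2 x hx]

/-- An isometry acts on lines in the obvious way. -/
theorem lineMap_isometry (g : Cfsg.isometryGroup F ⇑Q) :
    IsLineMap (toPS hN h7 (simAut Q ⟨g.1, ClassicalSimple.isometry_le_GO Q g.2⟩)) (mapLine g.1) := by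
  intro L hL
  refine ⟨tsLine_mapLine g hL, ?_⟩
  set h5 : 5 ≤ finrank F (ι → F) := by omega
  set g' : GO Q := ⟨g.1, ClassicalSimple.isometry_le_GO Q g.2⟩
  set β := toPS hN h7 (simAut Q g')
  set ω := ClassicalSimple.commutatorAut (ClassicalSimple.conjIsometry Q g')
  set e := omegaEquiv Q hN h5
  have hact : ∀ (k : siegelGroup Q) (x : ι → F),
      e (ω (e.symm k)) • x = g.1.val *ᵥ (k • ((g.1⁻¹).val *ᵥ x)) := by
    intro k x
    rw [omegaEquiv_smul, show ((ω (e.symm k)).1 : GL ι F) = g.1 * (e.symm k).1.1 * g.1⁻¹ from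
      ClassicalSimple.commutatorAut_coe Q g' _, Units.val_mul, Units.val_mul, ← Matrix.mulVec_mulVec,
      ← Matrix.mulVec_mulVec]
    congr 1
    conv_rhs => rw [← e.apply_symm_apply k, omegaEquiv_smul]
  have hcomm : ∀ k : siegelGroup Q, β (QuotientGroup.mk k) = QuotientGroup.mk (e (ω (e.symm k))) := fun k => rfl
  have hB : ∀ x y : ι → F, bil Q (g.1.val *ᵥ x) (g.1.val *ᵥ y) = bil Q x y := fun x y => by
    simp only [ClassicalSimple.bil_apply, QuadraticMap.polar, ← Matrix.mulVec_add,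
      (ClassicalSimple.mem_isometry_iff Q).1 g.2]
  have hroot : ∀ k : siegelGroup Q, e (ω (e.symm k)) ∈ rootGrp Q (mapLine g.1 L) ↔ k ∈ rootGrp Q L := by
    intro k
    constructor
    · intro hk x hx
      have h1 := hk (g.1.val *ᵥ x) (by
        rintro _ ⟨y, hy, rfl⟩
        rw [Matrix.mulVecLin_apply, hB, hx y hy])
      rw [hact, Matrix.mulVec_mulVec (M := (g.1⁻¹).val), ← Units.val_mul, inv_mul_cancel, Units.val_one,
        Matrix.one_mulVec] at h1
      exact Matrix.mulVec_injective_of_isUnit (Units.isUnit g.1) h1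
    · intro hk x hx
      rw [hact, hk ((g.1⁻¹).val *ᵥ x) fun y hy => by
        have := hx _ (mem_mapLine_of_mem g.1 hy)
        rw [← ClassicalSimple.mulVec_inv_cancel g.1 x, hB] at this
        exact this]
      exact ClassicalSimple.mulVec_inv_cancel g.1 x
  ext y
  constructor
  · rintro ⟨x, hx, rfl⟩
    obtain ⟨k, hk, rfl⟩ := mem_rootImg.1 hx
    exact mem_rootImg.2 ⟨_, (hroot k).2 hk, (hcomm k).symm⟩
  · intro hy
    obtain ⟨k, hk, rfl⟩ := mem_rootImg.1 hy
    refine ⟨QuotientGroup.mk (e (ω⁻¹ (e.symm k))), mem_rootImg.2 ⟨_, (hroot _).1 ?_, rfl⟩, ?_⟩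
    · rwa [e.symm_apply_apply, MulAut.apply_inv_self, e.apply_symm_apply]
    · show β _ = _
      rw [hcomm, e.symm_apply_apply, MulAut.apply_inv_self, e.apply_symm_apply]

omit [Fintype F] in
/-- Witt's theorem for tuples, as an isometry matrix. -/
theorem exists_isometry_map (hN : (bil Q).Nondegenerate) {κ : Type*} {v w : κ → ι → F}
    (hv : LinearIndependent F v) (hw : LinearIndependent F w)
    (h : ∀ i, Q (w i) = Q (v i)) (h' : ∀ i j, bil Q (w i) (w j) = bil Q (v i) (v j)) :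
    ∃ g : Cfsg.isometryGroup F ⇑Q, ∀ i, QForm.act Q g (v i) = w i := by
  obtain ⟨g, hg, hgv⟩ := Forms.witt_quadratic_tuple (Q := Q) hN hv hw h h'
  refine ⟨⟨AutPO.toGL g, (ClassicalSimple.mem_isometry_iff Q).2 fun x => ?_⟩, fun i => ?_⟩
  · rw [AutPO.toGL_mulVec]
    exact hg x x
  · show (AutPO.toGL g).val *ᵥ v i = w i
    rw [AutPO.toGL_mulVec, hgv]

end Cfsg.Agent.AutPOmega
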