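import Cfsg.Agent.Lib.AutPOmega.Conj
import Cfsg.Agent.Lib.AutPOmega.Out
import Cfsg.Agent.Lib.Triality.Auto

/-!
Automorphisms of the projective orthogonal group of plus type in dimension eight: semisimilarities and
triality give all of them.
-/

set_option autoImplicit false

namespace Cfsg.Agent.AutPOmega

open scoped Matrix MatrixGroups
open ClassicalSimple (GO simAut bil siegelGroup IsLinePair)
open AutPO (Semi semiA)
open QForm (plusForm act refl)
open Triality (ap Rel omul oconj oone TG)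
open Module (finrank)

variable {F : Type*} [Field F] [Fintype F]

local notation "I8" => (Fin 4 ⊕ Fin 4)
local notation "V8" => (Fin 4 ⊕ Fin 4 → F)
local notation "N8" => plusForm F 4

omit [Fintype F] in
theorem nondeg_bil8 : (bil (N8 : QuadraticForm F V8)).Nondegenerate :=
  ClassicalSimple.bil_nondegenerate _ Triality.nondeg8

omit [Fintype F] in
theorem seven8 : 7 ≤ finrank F V8 := by
  rw [Module.finrank_fintype_fun_eq_card]; simp

/-- The automorphisms of the Siegel model. -/
noncomputable abbrev tr8 : MulAut (Cfsg.POmega F ⇑(N8 : QuadraticForm F V8)) ≃* MulAut (PS (N8 : QuadraticForm F V8)) :=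
  toPS nondeg_bil8 seven8

omit [Fintype F] in
theorem bil_apply8 (x y : V8) : bil N8 x y = x (.inl 0) * y (.inr 0) + x (.inl 1) * y (.inr 1) +
    x (.inl 2) * y (.inr 2) + x (.inl 3) * y (.inr 3) + (y (.inl 0) * x (.inr 0) + y (.inl 1) * x (.inr 1) +
    y (.inl 2) * x (.inr 2) + y (.inl 3) * x (.inr 3)) :=
  (ClassicalSimple.bil_apply (Q := N8) x y).trans (Triality.polar_N8 x y)

/-- The common point of the base pair. -/
def u0 : V8 := Pi.single (Sum.inl 0) 1
/-- The first base line's second point. -/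
def v0 : V8 := Pi.single (Sum.inl 1) 1
/-- The second base line's second point. -/
def w0 : V8 := Pi.single (Sum.inr 1) 1

omit [Fintype F] in
theorem base_values : N8 (u0 : V8) = 0 ∧ N8 (v0 : V8) = 0 ∧ N8 (w0 : V8) = 0 ∧
    bil N8 (u0 : V8) v0 = 0 ∧ bil N8 (u0 : V8) w0 = 0 ∧ bil N8 (v0 : V8) w0 = 1 := by
  simp [Triality.N8_apply, bil_apply8, u0, v0, w0]

omit [Fintype F] in
theorem indep_uvw {Q : QuadraticForm F V8} {u v w : V8} (hu0 : u ≠ 0) (hv : Q v = 0) (hw : Q w = 0)
    (huv : bil Q u v = 0) (huw : bil Q u w = 0) (hvw : bil Q v w = 1) :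
    LinearIndependent F ![u, v, w] := by
  rw [Fintype.linearIndependent_iff]
  intro c hc
  simp only [Fin.sum_univ_three, Matrix.cons_val] at hc
  have e1 := congrArg (bil Q w) hc
  simp [ClassicalSimple.bil_self_of_singular hw, ClassicalSimple.bil_comm w u, huw,
    ClassicalSimple.bil_comm w v, hvw] at e1
  have e2 := congrArg (bil Q v) hc
  simp [ClassicalSimple.bil_self_of_singular hv, ClassicalSimple.bil_comm v u, huv, hvw] at e2
  simp [e1, e2, hu0] at hc
  simp [Fin.forall_fin_succ, e1, e2, hc]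

set_option maxHeartbeats 1600000 in
/-- The Siegel group is transitive on non-orthogonal intersecting pairs of lines. -/
theorem exists_omega_triple {u v w : V8} (hu0 : u ≠ 0) (hu : N8 u = 0) (hv : N8 v = 0) (hw : N8 w = 0)
    (huv : bil N8 u v = 0) (huw : bil N8 u w = 0) (hvw : bil N8 v w = 1) :
    ∃ k : siegelGroup (N8 : QuadraticForm F V8), k • (u0 : V8) = u ∧ k • (v0 : V8) = v ∧ k • (w0 : V8) = w := by
  obtain ⟨b1, b2, b3, b4, b5, b6⟩ := base_values (F := F)
  have hu0' : (u0 : V8) ≠ 0 := fun e => one_ne_zero (α := F) (by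
    simpa [u0] using congrFun e (Sum.inl 0))
  obtain ⟨g, hg⟩ := exists_isometry_map (Q := (N8 : QuadraticForm F V8)) nondeg_bil8
    (indep_uvw hu0' b2 b3 b4 b5 b6) (indep_uvw hu0 hv hw huv huw hvw)
    (fun i => by fin_cases i <;> simp [hu, hv, hw, b1, b2, b3])
    (fun i j => by
      fin_cases i <;> fin_cases j <;>
        simp [hu, hv, hw, huv, huw, hvw, b1, b2, b3, b4, b5, b6, ClassicalSimple.bil_self_of_singular,
          ClassicalSimple.bil_comm v u, ClassicalSimple.bil_comm w u, ClassicalSimple.bil_comm w v,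
          ClassicalSimple.bil_comm (Q := (N8 : QuadraticForm F V8)) v0 u0,
          ClassicalSimple.bil_comm (Q := (N8 : QuadraticForm F V8)) w0 u0,
          ClassicalSimple.bil_comm (Q := (N8 : QuadraticForm F V8)) w0 v0])
  have hcls : ∀ a : Cfsg.isometryGroup F ⇑(N8 : QuadraticForm F V8),
      ∃ s : Cfsg.isometryGroup F ⇑(N8 : QuadraticForm F V8),
        (act N8 s u0 = u0 ∧ act N8 s v0 = v0 ∧ act N8 s w0 = w0) ∧
        Abelianization.of s = Abelianization.of a := by
    intro a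
    obtain ⟨vs, hvs, ha⟩ := QForm.exists_list Triality.nondeg8 Triality.hcard8 a
    induction vs generalizing a with
    | nil =>
      obtain rfl : a = 1 := Subtype.ext (Units.ext ha)
      exact ⟨1, by simp [QForm.act_one], rfl⟩
    | cons x xs ih =>
      have hx := hvs x List.mem_cons_self
      obtain ⟨a', ha'⟩ := QForm.exists_prod_refl (N8) xs fun y hy => hvs y (List.mem_cons_of_mem _ hy)
      obtain rfl : a = refl N8 x hx * a' := Subtype.ext (Units.ext (by
        rw [ha, List.map_cons, List.prod_cons, ← ha']; rfl))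
      obtain ⟨s', ⟨t1, t2, t3⟩, hs'⟩ := ih a' (fun y hy => hvs y (List.mem_cons_of_mem _ hy)) ha'
      let z : V8 := Pi.single (Sum.inl 2) 1 + Pi.single (Sum.inr 2) (N8 x)
      have hz : N8 z = N8 x := by simp [z, Triality.N8_apply]
      have hz0 : N8 z ≠ 0 := hz ▸ hx
      have hfix : ∀ y : V8, bil N8 z y = 0 → act N8 (refl N8 z hz0) y = y := fun y hy => by
        rw [QForm.act_refl, show QuadraticMap.polar ⇑(N8) z y = 0 from hy, mul_zero, zero_smul, sub_zero]
      refine ⟨refl N8 z hz0 * s', ⟨?_, ?_, ?_⟩, ?_⟩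
      · rw [QForm.act_mul, t1, hfix _ (by simp [z, bil_apply8, u0])]
      · rw [QForm.act_mul, t2, hfix _ (by simp [z, bil_apply8, v0])]
      · rw [QForm.act_mul, t3, hfix _ (by simp [z, bil_apply8, w0])]
      · rw [map_mul, map_mul, hs', QForm.of_refl_eq Triality.nondeg8 hz0 hx (by rw [hz]; exact ⟨_, rfl⟩)]
  obtain ⟨s, ⟨s1, s2, s3⟩, hs⟩ := hcls g
  have hmem : g * s ∈ Cfsg.Omega F ⇑(N8 : QuadraticForm F V8) := by
    rw [QForm.mem_omega_iff_abelianization, map_mul, hs]
    exact QForm.of_mul_self Triality.nondeg8 Triality.hcard8 g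
  have h5 : 5 ≤ finrank F V8 := le_trans (by norm_num) seven8
  refine ⟨omegaEquiv N8 nondeg_bil8 h5 ⟨_, hmem⟩, ?_, ?_, ?_⟩ <;> rw [omegaEquiv_smul]
  · show act N8 (g * s) u0 = u
    rw [QForm.act_mul, s1]; exact hg 0
  · show act N8 (g * s) v0 = v
    rw [QForm.act_mul, s2]; exact hg 1
  · show act N8 (g * s) w0 = w
    rw [QForm.act_mul, s3]; exact hg 2

omit [Fintype F] in
theorem map_span_pair {R : Type*} [Field R] {V W : Type*} [AddCommGroup V] [AddCommGroup W] [Module R V]
    [Module R W] (f : V →ₗ[R] W) (a b : V) :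
    (Submodule.span R {a, b}).map f = Submodule.span R {f a, f b} := by
  rw [Submodule.map_span, Set.image_pair]

omit [Fintype F] in
theorem base_pairs : IsLinePair N8 (u0 : V8) v0 ∧ IsLinePair N8 (u0 : V8) w0 := by
  obtain ⟨b1, b2, b3, b4, b5, b6⟩ := base_values (F := F)
  refine ⟨⟨?_, b1, b2, b4⟩, ⟨?_, b1, b3, b5⟩⟩ <;> rw [LinearIndependent.pair_iff] <;>
  · intro s t e
    have h0 := congrFun e (Sum.inl 0)
    have h1 := congrFun e (Sum.inl 1)
    have h2 := congrFun e (Sum.inr 1)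
    simp [u0, v0, w0] at h0 h1 h2
    simp_all

/-- The base pair decides. -/
theorem meetPres_of_base {β : MulAut (PS (N8 : QuadraticForm F V8))} {σ : Submodule F V8 → Submodule F V8}
    (hσ : IsLineMap β σ)
    (hb : Meet (σ (Submodule.span F {u0, v0})) (σ (Submodule.span F {u0, w0}))) : MeetPres β := by
  intro σ' hσ' L M hL hM hm
  rw [lineMap_unique nondeg_bil8 seven8 hσ' hσ hL, lineMap_unique nondeg_bil8 seven8 hσ' hσ hM]
  by_cases hp : Perp N8 L M
  · exact ((lineMap_adj nondeg_bil8 seven8 hσ hL hM).2 ⟨hm, hp⟩).1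
  obtain ⟨hne, u, hu0, huL, huM⟩ := hm
  obtain ⟨v, h, rfl⟩ := hL.exists_second hu0 huL
  obtain ⟨w, h', rfl⟩ := hM.exists_second hu0 huM
  have hvw : bil N8 v w ≠ 0 := fun e => hp (perp_span h.pp h'.orth h.orth' e)
  set d := (bil N8 v w)⁻¹
  have hd : d ≠ 0 := inv_ne_zero hvw
  obtain ⟨k, k1, k2, k3⟩ := exists_omega_triple (v := v) (w := d • w) hu0 h.qp h.qr
    (by rw [QuadraticMap.map_smul, h'.qr, smul_zero]) h.orth (by rw [map_smul, h'.orth, smul_zero])
    (by rw [map_smul, smul_eq_mul, inv_mul_cancel₀ hvw])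
  obtain ⟨B1, B2⟩ := base_pairs (F := F)
  have e1 : (Submodule.span F {(u0 : V8), v0}).map
      ((k : ClassicalSimple.OQ (N8 : QuadraticForm F V8)) : V8 ≃ₗ[F] V8).toLinearMap =
      Submodule.span F {u, v} := by
    rw [map_span_pair]; exact congrArg₂ (fun a b => Submodule.span F {a, b}) k1 k2
  have e2 : (Submodule.span F {(u0 : V8), w0}).map
      ((k : ClassicalSimple.OQ (N8 : QuadraticForm F V8)) : V8 ≃ₗ[F] V8).toLinearMap =
      Submodule.span F {u, w} := by
    rw [map_span_pair]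
    refine (congrArg₂ (fun a b => Submodule.span F {a, b}) k1 k3).trans (le_antisymm ?_ ?_) <;>
      rw [Submodule.span_le, Set.insert_subset_iff, Set.singleton_subset_iff]
    · exact ⟨mem_span_left, Submodule.smul_mem _ _ mem_span_right⟩
    · exact ⟨mem_span_left, (Submodule.smul_mem_iff _ hd).1
        (show d • w ∈ Submodule.span F {u, d • w} from mem_span_right)⟩
  obtain ⟨k', hk'⟩ := QuotientGroup.mk_surjective (β (QuotientGroup.mk k))
  rw [← e1, ← e2, lineMap_smul_line nondeg_bil8 seven8 hσ hk' (tsLine_span B1),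
    lineMap_smul_line nondeg_bil8 seven8 hσ hk' (tsLine_span B2)]
  obtain ⟨hne', z, hz0, hz1, hz2⟩ := hb
  exact ⟨fun e => hne' (Submodule.map_injective_of_injective
      (f := ((k' : ClassicalSimple.OQ (N8 : QuadraticForm F V8)) : V8 ≃ₗ[F] V8).toLinearMap)
      ((k' : ClassicalSimple.OQ (N8 : QuadraticForm F V8)) : V8 ≃ₗ[F] V8).injective e),
    k' • z, fun e => hz0 ((smul_eq_zero_iff_eq k').1 e), ⟨z, hz1, rfl⟩, ⟨z, hz2, rfl⟩⟩

/-- Commuting lines that do not meet span a totally singular four-space. -/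
theorem exists_four {β : MulAut (PS (N8 : QuadraticForm F V8))} {σ : Submodule F V8 → Submodule F V8}
    (hσ : IsLineMap β σ)
    (hb : ¬ Meet (σ (Submodule.span F {u0, v0})) (σ (Submodule.span F {u0, w0}))) :
    ∃ c : Fin 4 → V8, LinearIndependent F c ∧ (∀ i, N8 (c i) = 0) ∧ (∀ i j, bil N8 (c i) (c j) = 0) ∧
      σ (Submodule.span F {u0, v0}) = Submodule.span F {c 0, c 1} ∧
      σ (Submodule.span F {u0, w0}) = Submodule.span F {c 2, c 3} := by
  obtain ⟨B1, B2⟩ := base_pairs (F := F)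
  have hL := tsLine_span B1
  have hM := tsLine_span B2
  obtain ⟨-, -, -, -, -, b6⟩ := base_values (F := F)
  have hne : Submodule.span F {(u0 : V8), v0} ≠ Submodule.span F {u0, w0} := fun e =>
    one_ne_zero (α := F) (b6.symm.trans (bil_of_singular hL.2 mem_span_right (e ▸ mem_span_right)))
  have h5 : 5 ≤ finrank F V8 := le_trans (by norm_num) seven8
  have hc := (lineMap_commG hσ hL hM).2 ((commG_iff nondeg_bil8 h5 hL hM).2
    (Or.inr (Or.inl ⟨hne, u0, B1.ne_zero, mem_span_left, mem_span_left⟩)))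
  have hne' : σ (Submodule.span F {(u0 : V8), v0}) ≠ σ (Submodule.span F {u0, w0}) := fun e =>
    hne ((lineMap_inj nondeg_bil8 seven8 hσ hL hM).1 e)
  have hp := (((commG_iff nondeg_bil8 h5 (hσ _ hL).1 (hσ _ hM).1).1 hc).resolve_left hne').resolve_left hb
  obtain ⟨a, b, h, eA⟩ := (hσ _ hL).1.exists_pair
  obtain ⟨c, d, h', eB⟩ := (hσ _ hM).1.exists_pair
  rw [eA, eB] at hp hb hne'
  have q1 := hp a mem_span_left c mem_span_left
  have q2 := hp a mem_span_left d mem_span_right
  have q3 := hp b mem_span_right c mem_span_left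
  have q4 := hp b mem_span_right d mem_span_right
  refine ⟨![a, b, c, d], ?_, fun i => by fin_cases i <;> simp [h.qp, h.qr, h'.qp, h'.qr], fun i j => ?_,
    eA, eB⟩
  · rw [Fintype.linearIndependent_iff]
    intro x hx
    simp only [Fin.sum_univ_four, Matrix.cons_val] at hx
    have h0 : x 0 • a + x 1 • b = 0 := by
      by_contra hne0
      refine hb ⟨hne', _, hne0, Submodule.mem_span_pair.2 ⟨_, _, rfl⟩,
        Submodule.mem_span_pair.2 ⟨-x 2, -x 3, ?_⟩⟩
      linear_combination (norm := module) -hx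
    have e1 := LinearIndependent.pair_iff.1 h.indep _ _ h0
    have e2 := LinearIndependent.pair_iff.1 h'.indep (x 2) (x 3) (by
      linear_combination (norm := module) hx - h0)
    simp [Fin.forall_fin_succ, e1.1, e1.2, e2.1, e2.2]
  · fin_cases i <;> fin_cases j <;>
      simp [h.pp, h.orth, h.orth', h.swap.pp, h'.pp, h'.orth, h'.orth', h'.swap.pp, q1, q2, q3, q4,
        (ClassicalSimple.bil_comm c a).trans q1, (ClassicalSimple.bil_comm d a).trans q2,
        (ClassicalSimple.bil_comm c b).trans q3, (ClassicalSimple.bil_comm d b).trans q4]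

set_option maxHeartbeats 1600000 in
/-- Triality is not induced by a semisimilarity. -/
theorem triality_ne_semi {φ : MulAut (Cfsg.POmega F ⇑(N8 : QuadraticForm F V8))}
    (hr : ∀ g g1 g2 : GO (N8 : QuadraticForm F V8), Rel g g1 g2 → φ * simAut N8 g = simAut N8 g1 * φ)
    {g : GL I8 F} {σ : F ≃+* F} (hp : Semi (N8 : QuadraticForm F V8) g σ) : φ ≠ semiA hp := by
  intro hφ
  set a : V8 := oone + Pi.single (Sum.inl 1) 1 with ha
  have hNa : N8 a = 1 := by simp [ha, Triality.N8_apply, oone]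
  obtain ⟨L, P, M, hL, hP, r⟩ := Triality.rel_lmul (a := a) (hNa ▸ one_ne_zero)
  have e1 := hr _ _ _ r
  rw [hφ, AutPO.semiA_mul_simAut] at e1
  obtain ⟨c, hc⟩ := Triality.simAut_eq_iff8.1 (mul_right_cancel e1)
  set x : V8 := Pi.single (Sum.inl 2) 1 + Pi.single (Sum.inr 2) 1 with hx
  have hNx : N8 x = 1 := by simp [hx, Triality.N8_apply]
  have hPx : ap P x = x := by
    rw [hP, show omul x a = -omul (oconj x) a by
      rw [show oconj x = -x from Triality.ext8 fun i => by fin_cases i <;> simp [oconj, hx],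
        show -x = (-1 : F) • x from (neg_one_smul F x).symm, Triality.omul_smul_left, neg_one_smul, neg_neg],
      show -omul (oconj x) a = (-1 : F) • omul (oconj x) a from (neg_one_smul F _).symm,
      Triality.omul_smul_right, Triality.omul_oconj_omul, hNa,
      show QuadraticMap.polar ⇑(N8) a x = 0 by simp [Triality.polar_N8, ha, hx, oone]]
    simp
  have hcx := congrArg (fun t => ap t x) hc
  simp only [Triality.ap_mul, hPx, Triality.ap_scalar] at hcx
  obtain ⟨v, hv⟩ : ∃ v : V8, g.val *ᵥ (σ ∘ v) = x :=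
    ⟨σ.symm ∘ ((g⁻¹).val *ᵥ x), by
      rw [show σ ∘ σ.symm ∘ ((g⁻¹).val *ᵥ x) = (g⁻¹).val *ᵥ x from funext fun i => σ.apply_symm_apply _,
        ClassicalSimple.mulVec_inv_cancel]⟩
  have e2 : (g * AutPO.gmap σ L.1 * g⁻¹).val *ᵥ x = g.val *ᵥ (σ ∘ omul a v) := by
    rw [← hv, Units.val_mul, ← Matrix.mulVec_mulVec, Matrix.mulVec_mulVec (M := (g⁻¹).val), ← Units.val_mul,
      inv_mul_cancel, Units.val_one, Matrix.one_mulVec, Units.val_mul, ← Matrix.mulVec_mulVec,
      AutPO.gmap_mulVec, ← hL v]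
    rfl
  have e3 : σ ∘ omul a v = (c : F) • (σ ∘ v) := by
    refine Matrix.mulVec_injective_of_isUnit (Units.isUnit g) ?_
    show g.val *ᵥ _ = g.val *ᵥ _
    rw [Matrix.mulVec_smul, hv, ← e2]
    exact hcx
  set c' : F := σ.symm c
  have e4 : omul a v = c' • v := funext fun i => σ.injective (by
    rw [show σ (omul a v i) = ((c : F) • (σ ∘ v)) i from congrFun e3 i]
    simp [c'])
  have hNv : N8 v ≠ 0 := fun e => by
    obtain ⟨d, hd⟩ := hp
    have := hd v
    rw [show g.val *ᵥ (fun i => σ (v i)) = x from hv, hNx, e, map_zero, mul_zero] at this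
    exact one_ne_zero this
  have e5 := congrArg (fun t => omul t (oconj v)) e4
  rw [Triality.omul_omul_oconj_cancel, Triality.omul_smul_left] at e5
  have := congrFun e5 (Sum.inl 1)
  simp [ha, oone, omul, oconj] at this
  exact hNv (by
    rw [show N8 v = N8 v * 1 from (mul_one _).symm]
    linear_combination this)

theorem meetPres_induced {β : MulAut (Cfsg.POmega F ⇑(N8 : QuadraticForm F V8))} (h : MeetPres (tr8 β)) :
    ∃ (g : GL I8 F) (σ : F ≃+* F) (hp : Semi (N8 : QuadraticForm F V8) g σ), β = semiA hp := by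
  obtain ⟨g, σ, hp, hi⟩ := exists_induced_of_meet N8 nondeg_bil8 seven8 β h
  exact ⟨g, σ, hp, AutPO.eq_semiA hp hi⟩

set_option maxHeartbeats 1600000 in
/-- Every automorphism is a semisimilarity, possibly after an isometry and triality. -/
theorem exists_decomp {φ : MulAut (Cfsg.POmega F ⇑(N8 : QuadraticForm F V8))} (hφ : φ * φ = 1)
    (hr : ∀ g g1 g2 : GO (N8 : QuadraticForm F V8), Rel g g1 g2 → φ * simAut N8 g = simAut N8 g1 * φ)
    (β : MulAut (Cfsg.POmega F ⇑(N8 : QuadraticForm F V8))) :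
    (∃ (g : GL I8 F) (σ : F ≃+* F) (hp : Semi (N8 : QuadraticForm F V8) g σ), β = semiA hp) ∨
    ∃ (t : Cfsg.isometryGroup F ⇑(N8 : QuadraticForm F V8)) (g : GL I8 F) (σ : F ≃+* F)
      (hp : Semi (N8 : QuadraticForm F V8) g σ),
      β = simAut N8 ⟨t.1, ClassicalSimple.isometry_le_GO N8 t.2⟩ * φ * semiA hp := by
  classical
  obtain ⟨σ, hσ⟩ := exists_lineMap nondeg_bil8 seven8 (tr8 β)
  by_cases hb : Meet (σ (Submodule.span F {(u0 : V8), v0})) (σ (Submodule.span F {u0, w0}))
  · exact Or.inl (meetPres_induced (meetPres_of_base hσ hb))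
  right
  obtain ⟨τ, hτ⟩ := exists_lineMap nondeg_bil8 seven8 (tr8 φ)
  have hτb : ¬ Meet (τ (Submodule.span F {(u0 : V8), v0})) (τ (Submodule.span F {u0, w0})) := fun h => by
    obtain ⟨g, s, hp, e⟩ := meetPres_induced (meetPres_of_base hτ h)
    exact triality_ne_semi hr hp e
  obtain ⟨c, hci, hcq, hcb, cA, cB⟩ := exists_four hσ hb
  obtain ⟨d, hdi, hdq, hdb, dA, dB⟩ := exists_four hτ hτb
  obtain ⟨t, ht⟩ := exists_isometry_map (Q := (N8 : QuadraticForm F V8)) nondeg_bil8 hdi hci
    (fun i => by rw [hcq, hdq]) (fun i j => by rw [hcb, hdb])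
  set T := simAut N8 ⟨t.1, ClassicalSimple.isometry_le_GO N8 t.2⟩ with hT
  have hti : ∀ i, act N8 t⁻¹ (c i) = d i := fun i => by rw [← ht i, QForm.act_inv_act]
  have hTi : simAut N8 ⟨(t⁻¹).1, ClassicalSimple.isometry_le_GO N8 (t⁻¹).2⟩ = T⁻¹ := by
    rw [hT, ← map_inv]; rfl
  have hinv := lineMap_isometry nondeg_bil8 seven8 t⁻¹
  rw [hTi] at hinv
  have hδ := (hτ.mul hinv).mul hσ
  rw [← map_mul, ← map_mul] at hδ
  obtain ⟨B1, B2⟩ := base_pairs (F := F)
  have hτ2 : ∀ L, TSLine (N8 : QuadraticForm F V8) L → τ (τ L) = L := fun L hL =>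
    lineMap_left_inv nondeg_bil8 seven8 hτ (by
      rw [← map_inv, inv_eq_of_mul_eq_one_right hφ]; exact hτ) hL
  have hbase : Meet ((τ ∘ mapLine (t⁻¹).1 ∘ σ) (Submodule.span F {(u0 : V8), v0}))
      ((τ ∘ mapLine (t⁻¹).1 ∘ σ) (Submodule.span F {u0, w0})) := by
    have e1 : mapLine (t⁻¹).1 (σ (Submodule.span F {(u0 : V8), v0})) = τ (Submodule.span F {u0, v0}) := by
      rw [cA, dA, mapLine, map_span_pair]
      exact congrArg₂ (fun a b => Submodule.span F {a, b}) (hti 0) (hti 1)
    have e2 : mapLine (t⁻¹).1 (σ (Submodule.span F {(u0 : V8), w0})) = τ (Submodule.span F {u0, w0}) := by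
      rw [cB, dB, mapLine, map_span_pair]
      exact congrArg₂ (fun a b => Submodule.span F {a, b}) (hti 2) (hti 3)
    rw [Function.comp_apply, Function.comp_apply, Function.comp_apply, Function.comp_apply, e1, e2,
      hτ2 _ (tsLine_span B1), hτ2 _ (tsLine_span B2)]
    obtain ⟨-, -, -, -, -, b6⟩ := base_values (F := F)
    exact ⟨fun e => one_ne_zero (α := F) (b6.symm.trans (bil_of_singular (tsLine_span B1).2 mem_span_right
      (e ▸ mem_span_right))), u0, B1.ne_zero, mem_span_left, mem_span_left⟩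
  obtain ⟨g, s, hp, e⟩ := meetPres_induced (meetPres_of_base hδ hbase)
  refine ⟨t, g, s, hp, ?_⟩
  rw [← e, ← hT, mul_assoc φ, ← mul_assoc (T * φ), mul_assoc T φ φ, hφ, mul_one, mul_inv_cancel_left]

end Cfsg.Agent.AutPOmega
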