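import Cfsg.Agent.Lib.AutPOmega.Sylow

/-!
The incidence relations of lines read from the root groups; an automorphism of the central quotient acts
on singular points.
-/

set_option autoImplicit false

namespace Cfsg.Agent.AutPOmega

open ClassicalSimple Module

variable {F V : Type*} [Field F] [AddCommGroup V] [Module F V] {Q : QuadraticForm F V}

theorem Meet.symm {L M : Submodule F V} (h : Meet L M) : Meet M L :=
  ⟨h.1.symm, h.2.imp fun _ hz => ⟨hz.1, hz.2.2, hz.2.1⟩⟩

theorem Perp.symm {L M : Submodule F V} (h : Perp Q L M) : Perp Q M L :=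
  fun x hx y hy => (bil_comm x y).trans (h y hy x hx)

theorem meet_sameLine {L M : Submodule F V} (hL : TSLine Q L) (hM : TSLine Q M) (hne : L ≠ M)
    {u z : V} (hu0 : u ≠ 0) (huL : u ∈ L) (huM : u ∈ M) (hzL : z ∈ L) (hzM : z ∈ M) :
    ∃ c : F, c • u = z := by
  by_contra h
  push Not at h
  have hi : LinearIndependent F ![u, z] := (LinearIndependent.pair_iff' hu0).2 h
  exact hne ((hL.pair huL hzL hi).2.trans (hM.pair huM hzM hi).2.symm)

theorem perp_span {p r p' r' : V} (h1 : bil Q p p' = 0) (h2 : bil Q p r' = 0)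
    (h3 : bil Q r p' = 0) (h4 : bil Q r r' = 0) :
    Perp Q (Submodule.span F {p, r}) (Submodule.span F {p', r'}) := by
  intro x hx y hy
  obtain ⟨a, b, rfl⟩ := Submodule.mem_span_pair.1 hx
  obtain ⟨c, d, rfl⟩ := Submodule.mem_span_pair.1 hy
  simp [h1, h2, h3, h4]

theorem mem_span_left {p r : V} : p ∈ Submodule.span F ({p, r} : Set V) :=
  Submodule.subset_span (Or.inl rfl)

theorem mem_span_right {p r : V} : r ∈ Submodule.span F ({p, r} : Set V) :=
  Submodule.subset_span (Or.inr rfl)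

/-- The lines through the common point of two non-orthogonal lines. -/
theorem mem_of_meet_meet {u v w : V} (hv : IsLinePair Q u v) (hw : IsLinePair Q u w)
    (hvw : bil Q v w ≠ 0) {N : Submodule F V} (hN' : TSLine Q N)
    (h1 : Meet N (Submodule.span F {u, v})) (h2 : Meet N (Submodule.span F {u, w})) : u ∈ N := by
  obtain ⟨-, a, ha0, haN, haL⟩ := h1
  obtain ⟨-, b, hb0, hbN, hbM⟩ := h2
  have hab := bil_of_singular hN'.2 haN hbN
  obtain ⟨a1, a2, rfl⟩ := Submodule.mem_span_pair.1 haL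
  obtain ⟨b1, b2, rfl⟩ := Submodule.mem_span_pair.1 hbM
  simp only [map_add, map_smul, LinearMap.add_apply, LinearMap.smul_apply, smul_eq_mul, hv.pp,
    hv.orth', hw.orth, mul_zero, zero_add, mul_eq_zero, hvw, or_false] at hab
  rcases hab with h | h <;>
    · subst h
      simp only [zero_smul, add_zero] at ha0 haN hb0 hbN
      first
      | exact (N.smul_mem_iff (left_ne_zero_of_smul ha0)).1 haN
      | exact (N.smul_mem_iff (left_ne_zero_of_smul hb0)).1 hbN

section Group

/-- Commuting subgroups. -/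
def CommG {G : Type*} [Group G] (X Y : Subgroup G) : Prop := ∀ x ∈ X, ∀ y ∈ Y, Commute x y

variable (Q) in
/-- Adjacency read from the groups. -/
def AdjG (X Y : Subgroup (PS Q)) : Prop :=
  X ≠ Y ∧ CommG X Y ∧ ∀ x ∈ X, ∀ y ∈ Y, ∃ N, TSLine Q N ∧ x * y ∈ rootImg Q N

variable [Finite F] [FiniteDimensional F V] (hN : (bil Q).Nondegenerate)
variable (h5 : 5 ≤ finrank F V)
include hN h5

theorem commG_iff {L M : Submodule F V} (hL : TSLine Q L) (hM : TSLine Q M) :
    CommG (rootImg Q L) (rootImg Q M) ↔ L = M ∨ Meet L M ∨ Perp Q L M := by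
  obtain ⟨p, _⟩ := CharP.exists F
  have := Fact.mk (CharP.char_is_prime F p)
  constructor
  · intro hc
    by_cases hne : L = M
    · exact Or.inl hne
    by_cases hz : ∃ z, z ≠ 0 ∧ z ∈ L ∧ z ∈ M
    · exact Or.inr (Or.inl ⟨hne, hz⟩)
    refine Or.inr (Or.inr fun x hx y hy => ?_)
    obtain ⟨u, v, h, rfl⟩ := hL.exists_pair
    obtain ⟨u', v', h', rfl⟩ := hM.exists_pair
    set g := lineG h' 1 with hg
    have hcomm : Commute g (lineG h 1) := (commute_of_img hN h5 (rootGrp_pow (p := p) hN hM (lineG_mem h' 1))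
      (hc _ (Subgroup.mem_map_of_mem _ (lineG_mem h 1)) _
        (Subgroup.mem_map_of_mem _ (lineG_mem h' 1)))).symm
    have hmem := (conj_mem_rootGrp g).2 (lineG_mem h 1)
    rw [hcomm.eq, mul_inv_cancel_right] at hmem
    have hL' := line_le_of_mem hN (tsLine_span h) (smul_map_line g (tsLine_span h)) (lineG_mem h 1)
      (fun e => one_ne_zero (lineG_inj hN h (e.trans (lineG_zero h).symm))) hmem
    have hfix : ∀ z ∈ Submodule.span F {u, v}, g • z = z := by
      intro z hz'
      have h1 : g • z ∈ Submodule.span F {u, v} := by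
        rw [hL']; exact ⟨z, hz', rfl⟩
      have h2 := rootGrp_sub_mem hN hM (lineG_mem h' 1) z
      rw [← hg] at h2
      by_contra hne'
      exact hz ⟨_, sub_ne_zero.2 hne', Submodule.sub_mem _ h1 hz', h2⟩
    have e := hfix x hx
    rw [hg, lineG_smul, one_mul, one_mul] at e
    have := LinearIndependent.pair_iff.1 h'.indep (-bil Q x v') (bil Q x u')
      (by linear_combination (norm := module) e)
    exact bil_span_pair this.2 (neg_eq_zero.1 this.1) hy
  · intro hLM x hx y hy
    obtain ⟨g, hg, rfl⟩ := mem_rootImg.1 hx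
    obtain ⟨k, hk, rfl⟩ := mem_rootImg.1 hy
    refine Commute.map ?_ (QuotientGroup.mk' _)
    rcases hLM with rfl | ⟨-, z, hz0, hzL, hzM⟩ | hp
    · obtain ⟨u, v, h, rfl⟩ := hL.exists_pair
      obtain ⟨s, rfl⟩ := (mem_rootGrp_span hN h).1 hg
      obtain ⟨t, rfl⟩ := (mem_rootGrp_span hN h).1 hk
      show _ * _ = _ * _
      rw [← lineG_add, ← lineG_add, add_comm]
    · obtain ⟨v, h, rfl⟩ := hL.exists_second hz0 hzL
      obtain ⟨w, h', rfl⟩ := hM.exists_second hz0 hzM
      obtain ⟨s, rfl⟩ := (mem_rootGrp_span hN h).1 hg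
      obtain ⟨t, rfl⟩ := (mem_rootGrp_span hN h').1 hk
      show _ * _ = _ * _
      rw [lineG_eq_siegG, lineG_eq_siegG, siegG_mul, siegG_mul]
      exact siegG_congr _ _ _ _ rfl (add_comm _ _)
    · obtain ⟨u, v, h, rfl⟩ := hL.exists_pair
      obtain ⟨s, rfl⟩ := (mem_rootGrp_span hN h).1 hg
      have hfix : ∀ z ∈ Submodule.span F {u, v}, k • z = z := fun z hz => hk z (hp z hz)
      show _ * _ = _ * _
      rw [← mul_inv_eq_iff_eq_mul.1 (show k * lineG h s * k⁻¹ = lineG h s from
        (Subtype.ext (lineElt_conj (k : OQ Q) h (h.map (k : OQ Q)) s)).trans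
          (lineG_congr (h.map (k : OQ Q)) h (hfix u mem_span_left) (hfix v mem_span_right) s))]

theorem adjG_iff {L M : Submodule F V} (hL : TSLine Q L) (hM : TSLine Q M) :
    AdjG Q (rootImg Q L) (rootImg Q M) ↔ Adj Q L M := by
  obtain ⟨p, _⟩ := CharP.exists F
  have := Fact.mk (CharP.char_is_prime F p)
  constructor
  · rintro ⟨hne, hc, hprod⟩
    have hne' : L ≠ M := fun e => hne (e ▸ rfl)
    have key : ∀ a ∈ rootGrp Q L, ∀ b ∈ rootGrp Q M,
        ∃ N, TSLine Q N ∧ ∀ z : V, (a * b) • z - z ∈ N := by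
      intro a ha b hb
      obtain ⟨N, hN', hmem⟩ :=
        hprod _ (Subgroup.mem_map_of_mem _ ha) _ (Subgroup.mem_map_of_mem _ hb)
      obtain ⟨g, hg, e⟩ := mem_rootImg.1 hmem
      have hab : Commute a b := commute_of_img hN h5 (rootGrp_pow (p := p) hN hM hb)
        (hc _ (Subgroup.mem_map_of_mem _ ha) _ (Subgroup.mem_map_of_mem _ hb))
      have := eq_of_img_eq hN h5 (rootGrp_pow (p := p) hN hN' hg)
        (show (a * b) ^ p = 1 by
          rw [hab.mul_pow, rootGrp_pow hN hL ha, rootGrp_pow hN hM hb, one_mul])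
        e
      exact ⟨N, hN', fun z => this ▸ rootGrp_sub_mem hN hN' hg z⟩
    rcases (commG_iff hN h5 hL hM).1 hc with e | hm | hp
    · exact absurd e hne'
    · refine ⟨hm, ?_⟩
      obtain ⟨-, u, hu0, huL, huM⟩ := hm
      obtain ⟨v, h, rfl⟩ := hL.exists_second hu0 huL
      obtain ⟨w, h', rfl⟩ := hM.exists_second hu0 huM
      refine perp_span h.pp h'.orth h.orth' ?_
      by_contra hvw
      obtain ⟨N, hN', hz⟩ := key _ (lineG_mem h 1) _ (lineG_mem h' 1)
      obtain ⟨y, hy, -⟩ := exists_dual_pair hN h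
      have hq := hN'.2 _ (hz y)
      rw [lineG_eq_siegG, lineG_eq_siegG, siegG_mul, siegG_smul, hy, one_smul, one_smul, one_smul] at hq
      have hsub : ∀ c : F, y + (v + w) - c • u - y = (v + w) - c • u := fun c => by abel
      rw [hsub, quad_sub, quad_smul_vec, h.qp, quad_add, h.qr, h'.qr] at hq
      simp [h.orth', h'.orth'] at hq
      exact hvw hq
    · refine ⟨⟨hne', ?_⟩, hp⟩
      by_contra hz
      obtain ⟨u, v, h, rfl⟩ := hL.exists_pair
      obtain ⟨u', v', h', rfl⟩ := hM.exists_pair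
      have hi : LinearIndependent F ![u, v, u', v'] := by
        rw [Fintype.linearIndependent_iff]
        intro c hc'
        simp only [Fin.sum_univ_four, Matrix.cons_val] at hc'
        have h0 : c 0 • u + c 1 • v = 0 := by
          by_contra hne0
          refine hz ⟨_, hne0, Submodule.mem_span_pair.2 ⟨_, _, rfl⟩,
            Submodule.mem_span_pair.2 ⟨-c 2, -c 3, ?_⟩⟩
          linear_combination (norm := module) -hc'
        have e1 := LinearIndependent.pair_iff.1 h.indep _ _ h0
        have e2 := LinearIndependent.pair_iff.1 h'.indep (c 2) (c 3) (by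
          linear_combination (norm := module) hc' - h0)
        simp [Fin.forall_fin_succ, e1.1, e1.2, e2.1, e2.2]
      obtain ⟨N, hN', hmem⟩ := key _ (lineG_mem h 1) _ (lineG_mem h' 1)
      have all : ∀ c : Fin 4 → F, -c 1 • u + c 0 • v + (-c 3 • u' + c 2 • v') ∈ N := by
        intro c
        obtain ⟨z, hz'⟩ := exists_eval_eq _ (linearIndependent_bil hN hi) c
        have e0 : bil Q z u = c 0 := (bil_comm _ _).trans (hz' 0)
        have e1 : bil Q z v = c 1 := (bil_comm _ _).trans (hz' 1)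
        have e2 : bil Q z u' = c 2 := (bil_comm _ _).trans (hz' 2)
        have e3 : bil Q z v' = c 3 := (bil_comm _ _).trans (hz' 3)
        have hq := hmem z
        rw [mul_smul, lineG_smul h', lineG_smul h] at hq
        simp only [map_add, map_sub, map_smul, LinearMap.add_apply, LinearMap.sub_apply,
          LinearMap.smul_apply, smul_eq_mul, e0, e1, e2, e3, hp.symm u' mem_span_left u mem_span_left,
          hp.symm u' mem_span_left v mem_span_right, hp.symm v' mem_span_right u mem_span_left,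
          hp.symm v' mem_span_right v mem_span_right, one_mul, mul_zero, add_zero, sub_zero] at hq
        convert hq using 1
        module
      have hle : Submodule.span F (Set.range ![u, v, u', v']) ≤ N := by
        rw [Submodule.span_le]
        rintro _ ⟨i, rfl⟩
        fin_cases i
        · simpa using all ![0, -1, 0, 0]
        · simpa using all ![1, 0, 0, 0]
        · simpa using all ![0, 0, 0, -1]
        · simpa using all ![0, 0, 1, 0]
      have hc' := Submodule.finrank_mono hle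
      rw [finrank_span_eq_card hi, hN'.1, Fintype.card_fin] at hc'
      omega
  · rintro ⟨hm, hp⟩
    refine ⟨fun e => hm.1 (rootImg_inj hN h5 hL hM e),
      (commG_iff hN h5 hL hM).2 (Or.inr (Or.inl hm)), fun x hx y hy => ?_⟩
    obtain ⟨g, hg, rfl⟩ := mem_rootImg.1 hx
    obtain ⟨k, hk, rfl⟩ := mem_rootImg.1 hy
    obtain ⟨hne, u, hu0, huL, huM⟩ := hm
    obtain ⟨v, h, rfl⟩ := hL.exists_second hu0 huL
    obtain ⟨w, h', rfl⟩ := hM.exists_second hu0 huM
    obtain ⟨s, rfl⟩ := (mem_rootGrp_span hN h).1 hg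
    obtain ⟨t, rfl⟩ := (mem_rootGrp_span hN h').1 hk
    have hvw : bil Q v w = 0 := hp v mem_span_right w mem_span_right
    by_cases h0 : s = 0 ∧ t = 0
    · refine ⟨_, hL, ?_⟩
      rw [h0.1, h0.2, lineG_zero, lineG_zero, QuotientGroup.mk_one, one_mul]
      exact one_mem _
    have hi : IsLinePair Q u (s • v + t • w) := by
      refine ⟨(LinearIndependent.pair_iff' hu0).2 fun a ha => h0 ?_, h.qp,
        by simp [quad_add, quad_smul_vec, h.qr, h'.qr, hvw], by simp [h.orth, h'.orth]⟩
      have ht : t = 0 := by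
        by_contra ht
        refine hne ((hM.pair huM mem_span_right h'.indep).2.trans ?_).symm
        refine ((tsLine_span h).pair mem_span_left ?_ h'.indep).2.symm
        rw [← Submodule.smul_mem_iff _ ht, show t • w = a • u - s • v by rw [ha]; abel]
        exact Submodule.sub_mem _ (Submodule.smul_mem _ _ mem_span_left)
          (Submodule.smul_mem _ _ mem_span_right)
      subst ht
      rw [zero_smul, add_zero] at ha
      exact ⟨neg_eq_zero.1 (LinearIndependent.pair_iff.1 h.indep a (-s)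
        (by rw [ha]; module)).2, rfl⟩
    refine ⟨_, tsLine_span hi, ?_⟩
    rw [← QuotientGroup.mk_mul, lineG_eq_siegG, lineG_eq_siegG, siegG_mul]
    exact Subgroup.mem_map_of_mem _ (by
      have := lineG_mem hi 1
      rw [lineG_eq_siegG] at this
      convert this using 1
      exact siegG_congr _ _ _ _ rfl (one_smul _ _).symm)

end Group

section Grid

variable (Q) in
/-- The common neighbours of two lines. -/
def CN (L M N : Submodule F V) : Prop := TSLine Q N ∧ Adj Q N L ∧ Adj Q N M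

variable (Q) in
/-- Two common neighbours with exactly two common neighbours among them. -/
def Grid (L M : Submodule F V) : Prop :=
  ∃ N N', CN Q L M N ∧ CN Q L M N' ∧ N ≠ N' ∧ ¬ Adj Q N N' ∧ ∃ A B, A ≠ B ∧
    ∀ C, (CN Q L M C ∧ Adj Q C N ∧ Adj Q C N') ↔ (C = A ∨ C = B)

theorem grid_of_perp {L M : Submodule F V} (hL : TSLine Q L) (hM : TSLine Q M) (hp : Perp Q L M)
    (hd : ∀ z, z ∈ L → z ∈ M → z = 0) : Grid Q L M := by
  obtain ⟨p, r, h, rfl⟩ := hL.exists_pair
  obtain ⟨p', r', h', rfl⟩ := hM.exists_pair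
  have ind : ∀ {a b : V}, a ≠ 0 → b ≠ 0 → a ∈ Submodule.span F {p, r} → b ∈ Submodule.span F {p', r'} →
      IsLinePair Q a b := fun {a b} ha0 hb0 ha hb =>
    ⟨(LinearIndependent.pair_iff' ha0).2 fun c e => hb0 (hd b (e ▸ Submodule.smul_mem _ c ha) hb),
      hL.2 a ha, hM.2 b hb, hp a ha b hb⟩
  have cn : ∀ {a b : V} (ha0 : a ≠ 0) (hb0 : b ≠ 0) (ha : a ∈ Submodule.span F {p, r})
      (hb : b ∈ Submodule.span F {p', r'}), CN Q (Submodule.span F {p, r}) (Submodule.span F {p', r'})
        (Submodule.span F {a, b}) := by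
    intro a b ha0 hb0 ha hb
    refine ⟨tsLine_span (ind ha0 hb0 ha hb),
      ⟨⟨fun e => hb0 (hd b (e ▸ mem_span_right) hb), a, ha0, mem_span_left, ha⟩, ?_⟩,
      ⟨⟨fun e => ha0 (hd a ha (e ▸ mem_span_left)), b, hb0, mem_span_right, hb⟩, ?_⟩⟩
    · exact perp_span (bil_of_singular hL.2 ha mem_span_left) (bil_of_singular hL.2 ha mem_span_right)
        ((bil_comm _ _).trans (hp p mem_span_left b hb)) ((bil_comm _ _).trans (hp r mem_span_right b hb))
    · exact perp_span (hp a ha p' mem_span_left) (hp a ha r' mem_span_right)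
        (bil_of_singular hM.2 hb mem_span_left) (bil_of_singular hM.2 hb mem_span_right)
  have perpAll : ∀ {a b a' b' : V}, a ∈ Submodule.span F {p, r} → b ∈ Submodule.span F {p', r'} →
      a' ∈ Submodule.span F {p, r} → b' ∈ Submodule.span F {p', r'} →
      Perp Q (Submodule.span F {a, b}) (Submodule.span F {a', b'}) :=
    fun {a b a' b'} ha hb ha' hb' => perp_span (bil_of_singular hL.2 ha ha') (hp _ ha _ hb')
      ((bil_comm _ _).trans (hp _ ha' _ hb)) (bil_of_singular hM.2 hb hb')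
  have cut : ∀ {a b z : V}, a ∈ Submodule.span F {p, r} → b ∈ Submodule.span F {p', r'} →
      z ∈ Submodule.span F {a, b} → z ∈ Submodule.span F {p, r} → ∀ c d : F, c • a + d • b = z →
      d • b = 0 := fun {a b z} ha hb _ hz c d e =>
    hd _ (by rw [eq_sub_of_add_eq' e]; exact Submodule.sub_mem _ hz (Submodule.smul_mem _ c ha))
      (Submodule.smul_mem _ d hb)
  have pz := h.ne_zero
  have rz := h.swap.ne_zero
  have pz' := h'.ne_zero
  have rz' := h'.swap.ne_zero
  have nomeet : ∀ z, z ∈ Submodule.span F {p, p'} → z ∈ Submodule.span F {r, r'} → z = 0 := by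
    intro z hz1 hz2
    obtain ⟨c, d, rfl⟩ := Submodule.mem_span_pair.1 hz1
    obtain ⟨c', d', e⟩ := Submodule.mem_span_pair.1 hz2
    have e1 : c • p - c' • r = 0 := hd _
      (Submodule.sub_mem _ (Submodule.smul_mem _ _ mem_span_left) (Submodule.smul_mem _ _ mem_span_right))
      (by rw [show c • p - c' • r = d' • r' - d • p' by linear_combination (norm := module) -e]
          exact Submodule.sub_mem _ (Submodule.smul_mem _ _ mem_span_right) (Submodule.smul_mem _ _ mem_span_left))
    have e2 := LinearIndependent.pair_iff.1 h.indep c (-c') (by rw [neg_smul, ← sub_eq_add_neg, e1])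
    have e3 := LinearIndependent.pair_iff.1 h'.indep d (-d') (by
      linear_combination (norm := module) -e - e1)
    rw [e2.1, e3.1]; simp
  refine ⟨_, _, cn pz pz' mem_span_left mem_span_left, cn rz rz' mem_span_right mem_span_right,
    fun e => pz (nomeet p mem_span_left (e ▸ mem_span_left)),
    fun ha => ha.1.2.elim fun z hz => hz.1 (nomeet z hz.2.1 hz.2.2),
    Submodule.span F {p, r'}, Submodule.span F {r, p'}, ?_, fun C => ⟨?_, ?_⟩⟩
  · intro e
    obtain ⟨c, d, e'⟩ := Submodule.mem_span_pair.1 (e ▸ (mem_span_left : p ∈ Submodule.span F {p, r'}))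
    have hd0 := cut mem_span_right mem_span_left (e ▸ mem_span_left) mem_span_left c d e'
    rw [hd0, add_zero] at e'
    exact one_ne_zero (LinearIndependent.pair_iff.1 h.indep 1 (-c) (by rw [← e']; module)).1
  · rintro ⟨⟨hC, ⟨⟨-, a, ha0, haC, haL⟩, -⟩, ⟨⟨-, b, hb0, hbC, hbM⟩, -⟩⟩,
      ⟨⟨hne1, z, hz0, hzC, hzN⟩, -⟩, ⟨⟨hne2, z', hz0', hzC', hzN'⟩, -⟩⟩
    have hC' := (hC.pair haC hbC (ind ha0 hb0 haL hbM).indep).2
    obtain ⟨a1, a2, ea⟩ := Submodule.mem_span_pair.1 haL
    obtain ⟨b1, b2, eb⟩ := Submodule.mem_span_pair.1 hbM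
    have split : ∀ {l m : V}, l ∈ Submodule.span F {p, r} → m ∈ Submodule.span F {p', r'} →
        ∀ {y : V}, y ∈ C → ∀ {s t : F}, y = s • l + t • m →
        ∃ c d : F, c • a = s • l ∧ d • b = t • m := by
      intro l m hl hm y hy s t ey
      rw [hC'] at hy
      obtain ⟨c, d, e⟩ := Submodule.mem_span_pair.1 hy
      have e0 : c • a - s • l = 0 := hd _
        (Submodule.sub_mem _ (Submodule.smul_mem _ _ haL) (Submodule.smul_mem _ _ hl))
        (by rw [show c • a - s • l = t • m - d • b by linear_combination (norm := module) e + ey]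
            exact Submodule.sub_mem _ (Submodule.smul_mem _ _ hm) (Submodule.smul_mem _ _ hbM))
      exact ⟨c, d, sub_eq_zero.1 e0, by linear_combination (norm := module) e + ey - e0⟩
    obtain ⟨s, t, ez⟩ := Submodule.mem_span_pair.1 hzN
    obtain ⟨s', t', ez'⟩ := Submodule.mem_span_pair.1 hzN'
    obtain ⟨c, d, hc, hd1⟩ := split mem_span_left mem_span_left hzC ez.symm
    obtain ⟨c', d', hc', hd2⟩ := split mem_span_right mem_span_right hzC' ez'.symm
    have inC : ∀ {x y : V} {k l : F}, k • x = l • y → x ∈ C → l ≠ 0 → y ∈ C := fun {x y k l} e hx hl =>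
      (C.smul_mem_iff hl).1 (e ▸ C.smul_mem k hx)
    have kill : ∀ {x y y' : V} {k k' l l' : F}, IsLinePair Q y y' → x ≠ 0 → k • x = l • y →
        k' • x = l' • y' → l = 0 ∨ l' = 0 := by
      intro x y y' k k' l l' hy hx e e'
      have := LinearIndependent.pair_iff.1 hy.indep (k' * l) (-(k * l')) (by
        rw [mul_smul, ← e, neg_smul, mul_smul, ← e', smul_comm]
        module)
      by_contra hll
      push Not at hll
      have hk : k ≠ 0 := fun h0 => hll.1 ((smul_eq_zero.1 (by rw [← e, h0, zero_smul])).resolve_right hy.ne_zero)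
      exact mul_ne_zero hk hll.2 (neg_eq_zero.1 this.2)
    rcases kill h ha0 hc hc' with hs | hs'
    · have ht : t ≠ 0 := fun h0 => hz0 (by rw [← ez, hs, h0]; simp)
      have hd2' : t' = 0 := (kill h' hb0 hd1 hd2).resolve_left ht
      have hs2 : s' ≠ 0 := fun h0 => hz0' (by rw [← ez', h0, hd2']; simp)
      exact Or.inr (hC.pair (inC hc' haC hs2) (inC hd1 hbC ht)
        (ind rz pz' mem_span_right mem_span_left).indep).2
    · have ht' : t' ≠ 0 := fun h0 => hz0' (by rw [← ez', hs', h0]; simp)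
      have hd1' : t = 0 := (kill h' hb0 hd1 hd2).resolve_right ht'
      have hs1 : s ≠ 0 := fun h0 => hz0 (by rw [← ez, h0, hd1']; simp)
      exact Or.inl (hC.pair (inC hc haC hs1) (inC hd2 hbC ht')
        (ind pz rz' mem_span_left mem_span_right).indep).2
  · rintro (rfl | rfl)
    · refine ⟨cn pz rz' mem_span_left mem_span_right, ⟨⟨?_, p, pz, mem_span_left, mem_span_left⟩,
        perpAll mem_span_left mem_span_right mem_span_left mem_span_left⟩,
        ⟨⟨?_, r', rz', mem_span_right, mem_span_right⟩,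
        perpAll mem_span_left mem_span_right mem_span_right mem_span_right⟩⟩
      · intro e
        exact rz' (nomeet r' (e ▸ mem_span_right) mem_span_right)
      · intro e
        exact pz (nomeet p mem_span_left (e ▸ mem_span_left))
    · refine ⟨cn rz pz' mem_span_right mem_span_left, ⟨⟨?_, p', pz', mem_span_right, mem_span_right⟩,
        perpAll mem_span_right mem_span_left mem_span_left mem_span_left⟩,
        ⟨⟨?_, r, rz, mem_span_left, mem_span_left⟩,
        perpAll mem_span_right mem_span_left mem_span_right mem_span_right⟩⟩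
      · intro e
        exact rz (nomeet r (e ▸ mem_span_left) mem_span_left)
      · intro e
        exact pz' (nomeet p' mem_span_right (e ▸ mem_span_right))

variable [Finite F] [FiniteDimensional F V]

theorem not_grid_of_meet (hN : (bil Q).Nondegenerate)
    (hD : 9 ≤ finrank F V ∨ ∀ W : Submodule F V, (∀ x ∈ W, Q x = 0) → finrank F W ≤ 3)
    {L M : Submodule F V} (hL : TSLine Q L) (hM : TSLine Q M) (hm : Meet L M)
    (hnp : ¬ Perp Q L M) : ¬ Grid Q L M := by
  obtain ⟨hne, u, hu0, huL, huM⟩ := hm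
  obtain ⟨v, h, rfl⟩ := hL.exists_second hu0 huL
  obtain ⟨w, h', rfl⟩ := hM.exists_second hu0 huM
  have hvw : bil Q v w ≠ 0 := fun e => hnp (perp_span h.pp h'.orth h.orth' e)
  rintro ⟨N, N', hN1, hN2, hNN, hnadj, A, B, hAB, hiff⟩
  have mem : ∀ {C}, CN Q (Submodule.span F {u, v}) (Submodule.span F {u, w}) C → u ∈ C :=
    fun {C} hC => mem_of_meet_meet h h' hvw hC.1 hC.2.1.1 hC.2.2.1
  have orth : ∀ {C}, CN Q (Submodule.span F {u, v}) (Submodule.span F {u, w}) C → ∀ {c : V}, c ∈ C →
      bil Q c u = 0 ∧ bil Q c v = 0 ∧ bil Q c w = 0 := fun {C} hC {c} hc =>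
    ⟨hC.2.1.2 c hc u mem_span_left, hC.2.1.2 c hc v mem_span_right, hC.2.2.2 c hc w mem_span_right⟩
  obtain ⟨x, hx, rfl⟩ := hN1.1.exists_second hu0 (mem hN1)
  obtain ⟨y, hy, rfl⟩ := hN2.1.exists_second hu0 (mem hN2)
  have hxy : bil Q x y ≠ 0 := fun e => hnadj ⟨⟨hNN, u, hu0, mem_span_left, mem_span_left⟩,
    perp_span hx.pp hy.orth hx.orth' e⟩
  obtain ⟨xu, xv, xw⟩ := orth hN1 (mem_span_right : x ∈ Submodule.span F {u, x})
  obtain ⟨yu, yv, yw⟩ := orth hN2 (mem_span_right : y ∈ Submodule.span F {u, y})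
  obtain ⟨hA, ⟨⟨-, -⟩, hAN⟩, ⟨⟨-, -⟩, hAN'⟩⟩ := (hiff A).2 (Or.inl rfl)
  obtain ⟨z, hz, rfl⟩ := hA.1.exists_second hu0 (mem hA)
  obtain ⟨zu, zv, zw⟩ := orth hA (mem_span_right : z ∈ Submodule.span F {u, z})
  have zx : bil Q z x = 0 := hAN z mem_span_right x mem_span_right
  have zy : bil Q z y = 0 := hAN' z mem_span_right y mem_span_right
  rcases hD with h9 | h4
  swap
  · have hi : LinearIndependent F ![u, v, x, z] := by
      rw [Fintype.linearIndependent_iff]
      intro c hc
      simp only [Fin.sum_univ_four, Matrix.cons_val] at hc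
      have e1 := congrArg (bil Q w) hc
      simp [h'.orth', bil_comm w v, hvw, bil_comm w x, xw, bil_comm w z, zw] at e1
      have e2 := congrArg (bil Q y) hc
      simp [yu, e1, bil_comm y x, hxy, bil_comm y z, zy] at e2
      rw [e1, e2] at hc
      have e3 := LinearIndependent.pair_iff.1 hz.indep (c 0) (c 3) (by rw [← hc]; module)
      simp [Fin.forall_fin_succ, e1, e2, e3.1, e3.2]
    have := h4 (Submodule.span F (Set.range ![u, v, x, z])) (by
      intro s hs
      obtain ⟨c, rfl⟩ := Submodule.mem_span_range_iff_exists_fun F |>.1 hs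
      simp [Fin.sum_univ_four, quad_add, quad_smul_vec, h.qp, h.qr, hx.qr, hz.qr, h.orth, hx.orth,
        hz.orth, bil_comm v x, xv, bil_comm v z, zv, bil_comm x z, zx])
    rw [finrank_span_eq_card hi, Fintype.card_fin] at this
    omega
  obtain ⟨y1, hy1, -⟩ := exists_dual_pair hN h
  obtain ⟨c, hc0, hcQ, hcφ⟩ := exists_singular (Q := Q)
    ![bil Q u, bil Q y1, bil Q v, bil Q w, bil Q x, bil Q y] (by rw [Fintype.card_fin]; omega)
  simp only [Fin.forall_fin_succ, IsEmpty.forall_iff, and_true, Matrix.cons_val_zero,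
    Matrix.cons_val_succ] at hcφ
  obtain ⟨c1, c2, c3, c4, c5, c6⟩ := hcφ
  have hi : LinearIndependent F ![u, y1, v, w, x, y, c] := by
    rw [Fintype.linearIndependent_iff]
    intro a ha
    simp only [Fin.sum_univ_seven, Matrix.cons_val] at ha
    have e1 := congrArg (bil Q u) ha
    simp [h.pp, bil_comm u y1, hy1, h.orth, h'.orth, hx.orth, hy.orth, c1] at e1
    rw [e1] at ha
    have e2 := congrArg (bil Q w) ha
    simp [h'.orth', bil_comm w v, hvw, h'.rr, bil_comm w x, xw, bil_comm w y, yw, c4] at e2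
    have e3 := congrArg (bil Q v) ha
    simp [h.orth', h.rr, hvw, bil_comm v x, xv, bil_comm v y, yv, c3] at e3
    have e4 := congrArg (bil Q y) ha
    simp [yu, e2, e3, bil_comm y x, hxy, hy.rr, c6] at e4
    have e5 := congrArg (bil Q x) ha
    simp [xu, e2, e3, hxy, hx.rr, c5] at e5
    have e6 := congrArg (bil Q y1) ha
    simp [hy1, e2, e3, e4, e5, c2] at e6
    simp [e2, e3, e4, e5, e6, hc0] at ha
    simp [Fin.forall_fin_succ, e1, e2, e3, e4, e5, e6, ha]
  obtain ⟨t, ht⟩ := exists_eval_eq _ (linearIndependent_bil hN hi) ![0, 0, 0, 0, 0, 0, 1]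
  simp only [Fin.forall_fin_succ, IsEmpty.forall_iff, and_true, Matrix.cons_val_zero,
    Matrix.cons_val_succ] at ht
  obtain ⟨t1, t2, t3, t4, t5, t6, tc⟩ := ht
  obtain ⟨d, hdQ, hcd, d1, d2, d3, d4, d5, d6⟩ : ∃ d, Q d = 0 ∧ bil Q c d = 1 ∧ bil Q u d = 0 ∧
      bil Q y1 d = 0 ∧ bil Q v d = 0 ∧ bil Q w d = 0 ∧ bil Q x d = 0 ∧ bil Q y d = 0 := by
    refine ⟨t - Q t • c, ?_, ?_, ?_, ?_, ?_, ?_, ?_, ?_⟩
    · rw [quad_sub, quad_smul_vec, hcQ, map_smul, bil_comm t c, tc, smul_eq_mul]; ring
    all_goals simp [tc, bil_self_of_singular hcQ, t1, t2, t3, t4, t5, t6, c1, c2, c3, c4, c5, c6]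
  obtain ⟨e, he, he0⟩ := exists_forall_eq_zero_notMem
    ![bil Q u, bil Q y1, bil Q v, bil Q w, bil Q x, bil Q y, bil Q c, bil Q d] ⊥
    (by rw [finrank_bot, Fintype.card_fin]; omega)
  simp only [Fin.forall_fin_succ, IsEmpty.forall_iff, and_true, Matrix.cons_val_zero,
    Matrix.cons_val_succ] at he
  obtain ⟨q1, q2, q3, q4, q5, q6, q7, q8⟩ := he
  rw [Submodule.mem_bot] at he0
  obtain ⟨f, hfQ, f1, f2, f3, f4, f5, f6, hfc, hfd⟩ : ∃ f, Q f = 0 ∧ bil Q u f = 0 ∧
      bil Q y1 f = 0 ∧ bil Q v f = 0 ∧ bil Q w f = 0 ∧ bil Q x f = 0 ∧ bil Q y f = 0 ∧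
      (∀ b : F, f ≠ b • c) ∧ (∀ b : F, f ≠ b • d) := by
    by_cases hQe : Q e = 0
    · exact ⟨e, hQe, q1, q2, q3, q4, q5, q6,
        fun b hb => he0 (by have := q8; rw [hb, map_smul, bil_comm d c, hcd] at this; simp at this; simp [hb, this]),
        fun b hb => he0 (by have := q7; rw [hb, map_smul, hcd] at this; simp at this; simp [hb, this])⟩
    · refine ⟨c + e - Q e • d, ?_, ?_, ?_, ?_, ?_, ?_, ?_, fun b hb => ?_, fun b hb => ?_⟩
      · rw [quad_sub, quad_add, quad_smul_vec, hcQ, hdQ, map_smul, map_add, LinearMap.add_apply, q7,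
          hcd, bil_comm e d, q8, smul_eq_mul]
        ring
      iterate 6 simp [q1, q2, q3, q4, q5, q6, c1, c2, c3, c4, c5, c6, d1, d2, d3, d4, d5, d6]
      · have := congrArg (bil Q c) hb
        simp [bil_self_of_singular hcQ, q7, hcd, hQe] at this
      · have := congrArg (bil Q d) hb
        simp [bil_self_of_singular hdQ, q8, bil_comm d c, hcd] at this
  have mk : ∀ s, Q s = 0 → s ≠ 0 → bil Q u s = 0 → bil Q y1 s = 0 → bil Q v s = 0 → bil Q w s = 0 →
      bil Q x s = 0 → bil Q y s = 0 → ∀ {C}, C = Submodule.span F {u, s} →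
      C = Submodule.span F {u, z} ∨ C = B := by
    intro s hs hs0 s1 s2 s3 s4 s5 s6 C hC
    have hus : IsLinePair Q u s := ⟨(LinearIndependent.pair_iff' hu0).2 fun a e => hs0 (by
      have : a = 0 := by rw [← e, map_smul, hy1] at s2; simpa using s2
      rw [← e, this, zero_smul]), h.qp, hs, s1⟩
    have hne : ∀ {k : V}, (∀ m : V, m ∈ Submodule.span F {u, k} → bil Q k m = 0) →
        bil Q k s ≠ 0 → Submodule.span F {u, s} ≠ Submodule.span F {u, k} :=
      fun {k} hk hks e => hks (hk s (e ▸ mem_span_right))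
    have hadj : ∀ {k : V}, IsLinePair Q u k → bil Q k s = 0 →
        (∃ m : V, bil Q m k ≠ 0 ∧ bil Q m s = 0 ∧ bil Q m u = 0) →
        Adj Q (Submodule.span F {u, s}) (Submodule.span F {u, k}) := by
      intro k hk hks ⟨m, m1, m2, m3⟩
      refine ⟨⟨fun e => m1 ?_, u, hu0, mem_span_left, mem_span_left⟩,
        perp_span hus.pp hk.orth hus.orth' ((bil_comm _ _).trans hks)⟩
      exact bil_span_pair m3 m2 (e.symm ▸ (mem_span_right : k ∈ Submodule.span F {u, k}))
    subst hC
    exact (hiff _).1 ⟨⟨tsLine_span hus, hadj h s3 ⟨w, by rwa [bil_comm], s4, h'.orth'⟩,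
      hadj h' s4 ⟨v, hvw, s3, h.orth'⟩⟩, hadj hx s5 ⟨y, by rwa [bil_comm], s6, yu⟩,
      hadj hy s6 ⟨x, hxy, s5, xu⟩⟩
  have distinct : ∀ {s s' : V}, bil Q y1 s = 0 → bil Q y1 s' = 0 →
      (∀ b : F, s' ≠ b • s) → Submodule.span F {u, s} ≠ Submodule.span F {u, s'} := by
    intro s s' e1 e2 hb e
    obtain ⟨a, b, hab⟩ := Submodule.mem_span_pair.1 (e.symm ▸ (mem_span_right : s' ∈ Submodule.span F {u, s'}))
    have := congrArg (bil Q y1) hab
    simp [e1, e2, hy1] at this
    exact hb b (by rw [← hab, this]; simp)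
  have hd0 : d ≠ 0 := fun e => by rw [e, map_zero] at hcd; exact zero_ne_one hcd
  have hdc : ∀ b : F, d ≠ b • c := fun b e => by
    rw [e, map_smul, bil_self_of_singular hcQ] at hcd; simp at hcd
  have hf0 : f ≠ 0 := fun e => hfc 0 (by simp [e])
  rcases mk c hcQ hc0 c1 c2 c3 c4 c5 c6 rfl with ec | ec <;>
    rcases mk d hdQ hd0 d1 d2 d3 d4 d5 d6 rfl with ed | ed <;>
    rcases mk f hfQ hf0 f1 f2 f3 f4 f5 f6 rfl with ef | ef
  all_goals first
    | exact distinct c2 d2 hdc (ec.trans ed.symm)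
    | exact distinct c2 f2 hfc (ec.trans ef.symm)
    | exact distinct d2 f2 hfd (ed.trans ef.symm)

end Grid

end Cfsg.Agent.AutPOmega
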