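import Cfsg.Agent.Lib.AutPOmega.OutEight
import Cfsg.Agent.Lib.AutPO.Singular

/-!
The inner-diagonal group of plus type in dimension eight is normal in the automorphism group.
-/

set_option autoImplicit false

namespace Cfsg.Agent.AutPOmega

open scoped Matrix MatrixGroups
open AutPO (Dg reflG fieldA fixes_plus)
open ClassicalSimple (GO simAut scalarGO)
open QForm (plusForm)
open Triality (ap Rel oconj oone TG omul)

universe u

variable {F : Type u} [Field F] [Fintype F]

local notation "I8" => (Fin 4 ⊕ Fin 4)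
local notation "V8" => (Fin 4 ⊕ Fin 4 → F)
local notation "N8" => plusForm F 4

theorem four_mul_two : Fintype.card (Fin 4 ⊕ Fin 4) = 2 * 4 := by simp

/-- An even product of reflections preserves the families. -/
theorem even_mem_Dg (h : isometryGroup F ⇑(N8 : QuadraticForm F V8)) (vs : List V8) (hvs : ∀ v ∈ vs, N8 v ≠ 0)
    (hh : ((h : GL I8 F) : Matrix I8 I8 F) = (vs.map fun v => reflectionMatrix ⇑(N8) v).prod)
    (he : Even vs.length) : iso2GO N8 h ∈ Dg (N8 : QuadraticForm F V8) 4 := by
  classical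
  by_cases h2 : (2 : F) = 0
  · have := AutPO.charTwo_of h2
    rw [AutPO.Dg_two _ 4 h2]
    exact Subgroup.mem_sup_left ⟨h, QForm.mem_omega_of_even Triality.nondeg8 h vs hvs hh he, rfl⟩
  · rw [AutPO.Dg_odd _ 4 h2]
    refine ⟨1, fun v => ?_, ?_⟩
    · rw [Units.val_one, one_mul]
      exact (ClassicalSimple.mem_isometry_iff _).1 h.2 v
    · rw [Units.val_one, one_pow]
      show ((h : GL I8 F) : Matrix I8 I8 F).det = 1
      rw [(QForm.invariants_of_prod h2 vs hvs h hh).2, he.neg_one_pow]

/-- The diagonal similarities preserve the families. -/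
theorem dGO_mem_Dg (c : Fˣ) : dGO c ∈ Dg (N8 : QuadraticForm F V8) 4 := by
  by_cases h2 : (2 : F) = 0
  · have := AutPO.charTwo_of h2
    obtain ⟨t, ht⟩ := FiniteField.isSquare_of_char_two (ringChar.eq F 2) (c : F)
    have ht0 : t ≠ 0 := fun e => c.ne_zero (by rw [ht, e, mul_zero])
    rw [show c = Units.mk0 t ht0 * Units.mk0 t ht0 from Units.ext ht, ← scalar_mul_levi, AutPO.Dg_two _ 4 h2]
    exact mul_mem (Subgroup.mem_sup_right (ClassicalSimple.scalarGO_mem _)) (Subgroup.mem_sup_left
      ⟨_, (QForm.levi_mem_omega_iff (by norm_num) (Or.inr (by norm_num)) _).2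
        (FiniteField.isSquare_of_char_two (ringChar.eq F 2) _), rfl⟩)
  · rw [AutPO.Dg_odd _ 4 h2]
    refine ⟨c, fun v => ?_, ?_⟩
    · show N8 (ClassicalSimple.diagBlock 4 (c : F) *ᵥ v) = _
      rw [QForm.plusForm_apply, QForm.plusForm_apply, ClassicalSimple.quad_diagBlock]
    · show (ClassicalSimple.diagBlock 4 (c : F)).det = _
      rw [ClassicalSimple.det_diagBlock]

set_option maxHeartbeats 1600000 in
/-- The members of related triples preserve the families. -/
theorem TG_le_Dg : TG (F := F) ≤ Dg (N8 : QuadraticForm F V8) 4 := by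
  intro g hg
  obtain ⟨c, h, rfl⟩ := exists_d_iso g
  refine mul_mem (dGO_mem_Dg c) ?_
  have hdT : dGO c ∈ TG (F := F) := by
    set a : V8 := Pi.single (Sum.inl 0) (c : F) + Pi.single (Sum.inr 0) 1 with ha
    have hNa : N8 a = c := by simp [ha, Triality.N8_apply]
    obtain ⟨L, P, M, hL, -, r⟩ := Triality.rel_lmul (a := a) (hNa ▸ c.ne_zero)
    rw [show dGO c = L from Triality.ap_ext fun x => by
      rw [hL]
      show (dGO c).1.val *ᵥ x = _
      rw [dGO_mulVec]
      exact Triality.ext8 fun i => by fin_cases i <;> simp [omul, ha]]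
    exact ⟨_, _, r⟩
  have hhT : iso2GO N8 h ∈ TG (F := F) := by simpa using mul_mem (inv_mem hdT) hg
  obtain ⟨vs, hvs, hh⟩ := QForm.exists_list Triality.nondeg8 Triality.hcard8 h
  rcases Nat.even_or_odd vs.length with he | ho
  · exact even_mem_Dg h vs hvs hh he
  · exfalso
    obtain ⟨φ, hφ, hr⟩ := Triality.exists_triality (F := F)
    obtain ⟨C, hC⟩ := Triality.exists_conjGO (F := F)
    refine conj_notMem hr hC hφ ?_
    set r : GO (N8 : QuadraticForm F V8) := reflG (oone : V8) Triality.N8_oone_ne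
    have h1 : iso2GO N8 h * r ∈ TG (F := F) := Triality.even_prod_mem_TG (vs ++ [oone])
      (List.forall_mem_append.2 ⟨hvs, by simpa using Triality.N8_oone_ne⟩) (by simpa using ho.add_one) _ (by
        rw [List.map_append, List.prod_append, ← hh, List.map_singleton, List.prod_singleton]
        rfl)
    refine ⟨r, by simpa using mul_mem (inv_mem hhT) h1, ?_⟩
    rw [show r = scalarGO N8 (-1) * C from Triality.ap_ext fun x => by
      rw [Triality.ap_reflG_oone, Triality.ap_mul, Triality.ap_scalar, hC, Units.val_neg, Units.val_one,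
        neg_one_smul], map_mul, clsGO_scalar Triality.nondeg8 Triality.five8, one_mul]

theorem Dg_map_eq_tgCls : (Dg (N8 : QuadraticForm F V8) 4).map (clsGO N8) = tgCls := by
  obtain ⟨C, hC⟩ := Triality.exists_conjGO (F := F)
  refine le_antisymm ?_ (Subgroup.map_mono TG_le_Dg)
  rintro _ ⟨k, hk, rfl⟩
  refine (mem_or_mul_mem hC ⟨k, rfl⟩).resolve_right fun h => ?_
  obtain ⟨g, hg, e⟩ := h
  obtain ⟨ω, hω, hωe⟩ := (clsGO_eq_one_iff N8).1
    (show clsGO N8 (g⁻¹ * (k * C)) = 1 by rw [map_mul, map_mul, map_inv, e, inv_mul_cancel])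
  have hker : ω⁻¹ * (g⁻¹ * (k * C)) ∈ (simAut N8).ker := by
    rw [MonoidHom.mem_ker, map_mul, map_inv, hωe, inv_mul_cancel]
  rw [ClassicalSimple.ker_simAut _ Triality.nondeg8 Triality.five8] at hker
  have h1 := mul_mem (mul_mem (TG_le_Dg hg) (AutPO.omega_le_Dg (k := 4) hω))
    (AutPO.scalar_le_Dg four_mul_two hker)
  rw [mul_assoc, mul_inv_cancel_left, mul_inv_cancel_left] at h1
  have hC' : C ∈ Dg (N8 : QuadraticForm F V8) 4 := by simpa using mul_mem (inv_mem hk) h1
  refine AutPO.reflG_notMem Triality.nondeg8 four_mul_two (by norm_num) (oone : V8) Triality.N8_oone_ne ?_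
  rw [show reflG (oone : V8) Triality.N8_oone_ne = scalarGO N8 (-1) * C from Triality.ap_ext fun x => by
    rw [Triality.ap_reflG_oone, Triality.ap_mul, Triality.ap_scalar, hC, Units.val_neg, Units.val_one,
      neg_one_smul]]
  exact mul_mem (AutPO.scalar_le_Dg four_mul_two (ClassicalSimple.scalarGO_mem _)) hC'

set_option maxHeartbeats 1600000 in
/-- The classes of the triples form a normal subgroup of `Out`. -/
theorem tgCls_normal : (tgCls (F := F)).Normal := by
  classical
  obtain ⟨p, hchar⟩ := CharP.exists F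
  obtain ⟨⟨f, hf⟩, hprime, hF⟩ := FiniteField.card F p
  haveI : Fact p.Prime := ⟨hprime⟩
  replace hf : 1 ≤ f := hf
  replace hF : Fintype.card F = p ^ f := hF
  obtain ⟨φ, hφ, hr⟩ := Triality.exists_triality (F := F)
  obtain ⟨C, hC⟩ := Triality.exists_conjGO (F := F)
  have hsub : Subgroup.closure (((clsGO (N8 : QuadraticForm F V8)).range :
      Set (Out (POmega F ⇑(N8 : QuadraticForm F V8)))) ∪ {(QuotientGroup.mk φ)}) ≤
      Subgroup.normalizer (tgCls (F := F) : Set (Out (POmega F ⇑(N8 : QuadraticForm F V8)))) := by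
    rw [Subgroup.closure_le]
    have haa : clsGO N8 C * clsGO N8 C = 1 := by rw [← map_mul, Triality.conj_mul_self hC, map_one]
    have hbb : (QuotientGroup.mk φ : Out (POmega F ⇑(N8 : QuadraticForm F V8))) * QuotientGroup.mk φ = 1 := by
      rw [← QuotientGroup.mk_mul, hφ, QuotientGroup.mk_one]
    have inv_norm : ∀ {b : Out (POmega F ⇑(N8 : QuadraticForm F V8))}, b * b = 1 →
        (∀ x ∈ tgCls (F := F), b * x * b ∈ tgCls) →
        b ∈ Subgroup.normalizer (tgCls (F := F) : Set (Out (POmega F ⇑(N8 : QuadraticForm F V8)))) := by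
      intro b hb h
      rw [Subgroup.mem_normalizer_iff, inv_eq_of_mul_eq_one_right hb]
      refine fun x => ⟨h x, fun hx => ?_⟩
      have e : b * (b * x * b) * b = (b * b) * x * (b * b) := by simp only [mul_assoc]
      simpa [e, hb] using h _ hx
    have hCn := inv_norm haa (by
      rintro _ ⟨g, ⟨g1, g2, r⟩, rfl⟩
      exact ⟨C * g * C, ⟨_, _, r.conj hC⟩, by rw [map_mul, map_mul]⟩)
    rintro x (hx | rfl)
    · rcases mem_or_mul_mem hC hx with h | h
      · exact Subgroup.le_normalizer h
      · exact ((Subgroup.normalizer _).mul_mem_cancel_right hCn).1 (Subgroup.le_normalizer h)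
    · refine inv_norm hbb ?_
      rintro _ ⟨g, ⟨g1, g2, r⟩, rfl⟩
      refine ⟨g1, TG_first r, ?_⟩
      show clsGO N8 g1 = QuotientGroup.mk φ * QuotientGroup.mk' _ (simAut N8 g) * QuotientGroup.mk φ
      rw [show (QuotientGroup.mk φ : Out (POmega F ⇑(N8 : QuadraticForm F V8))) *
          QuotientGroup.mk' _ (simAut N8 g) = clsGO N8 g1 * QuotientGroup.mk φ from
        congrArg (QuotientGroup.mk' _) (hr g g1 g2 r), mul_assoc, hbb, mul_one]
  refine ⟨fun z hz x => ?_⟩
  obtain ⟨y, hy, n, rfl⟩ := eight_mem p hf hF hφ hr x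
  obtain ⟨k, hk⟩ := tgCls_le hz
  have hY : Commute (frobCls (m := 4) p ^ n) z :=
    hk ▸ ((frobCls_clsGO_even three_le_four p ⟨2, rfl⟩ k).pow_right n).symm
  rw [mul_inv_rev, mul_assoc y, hY.eq, show y * (z * frobCls (m := 4) p ^ n) *
    ((frobCls (m := 4) p ^ n)⁻¹ * y⁻¹) = y * z * y⁻¹ by group]
  exact (Subgroup.mem_normalizer_iff.1 (hsub hy) z).1 hz

set_option maxHeartbeats 1600000 in
/-- The inner-diagonal group of the eight-dimensional plus type is normal in the automorphism group. -/
theorem inndiagPlus_four_normal : (inndiagPOmegaPlus 4 F).Normal := by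
  suffices h : ((Dg (N8 : QuadraticForm F V8) 4).map (simAut N8)).Normal by
    rw [← AutPO.inndiagPlus_eq (by norm_num : 3 ≤ 4)] at h
    exact h
  have e : (Dg (N8 : QuadraticForm F V8) 4).map (simAut N8) =
      (tgCls (F := F)).comap (QuotientGroup.mk' (Inn (POmega F ⇑(N8 : QuadraticForm F V8)))) := by
    rw [← Dg_map_eq_tgCls, clsGO, ← Subgroup.map_map, Subgroup.comap_map_eq, QuotientGroup.ker_mk', left_eq_sup,
      ClassicalSimple.inn_eq]
    exact Subgroup.map_mono AutPO.omega_le_Dg
  rw [e]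
  exact tgCls_normal.comap _

end Cfsg.Agent.AutPOmega
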