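import Cfsg.Agent.Lib.ClassicalSimple.SiegelRoots
import Cfsg.Agent.Lib.QForm.Basis

/-!
Totally singular lines and their root groups inside the Siegel group and its central quotient.
-/

set_option autoImplicit false

namespace Cfsg.Agent.AutPOmega

open ClassicalSimple Module

variable {F V : Type*} [Field F] [AddCommGroup V] [Module F V]
variable (Q : QuadraticForm F V)

/-- A totally singular line. -/
def TSLine (L : Submodule F V) : Prop := finrank F L = 2 ∧ ∀ x ∈ L, Q x = 0

/-- The two lines are orthogonal. -/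
def Perp (L M : Submodule F V) : Prop := ∀ x ∈ L, ∀ y ∈ M, bil Q x y = 0

/-- Distinct lines with a common point. -/
def Meet (L M : Submodule F V) : Prop := L ≠ M ∧ ∃ z, z ≠ 0 ∧ z ∈ L ∧ z ∈ M

/-- Distinct lines in a totally singular plane. -/
def Adj (L M : Submodule F V) : Prop := Meet L M ∧ Perp Q L M

/-- The root group of a line. -/
def rootGrp (L : Submodule F V) : Subgroup (siegelGroup Q) where
  carrier := {g | ∀ x : V, (∀ y ∈ L, bil Q x y = 0) → g • x = x}
  one_mem' x _ := one_smul _ x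
  mul_mem' {a b} ha hb x hx := by rw [mul_smul, hb x hx, ha x hx]
  inv_mem' {a} ha x hx := by rw [inv_smul_eq_iff, ha x hx]

/-- The projective orthogonal group. -/
abbrev PS : Type _ := siegelGroup Q ⧸ Subgroup.center (siegelGroup Q)

/-- The image of a root group in the central quotient. -/
def rootImg (L : Submodule F V) : Subgroup (PS Q) :=
  (rootGrp Q L).map (QuotientGroup.mk' (Subgroup.center (siegelGroup Q)))

variable {Q}

theorem bil_of_singular {L : Submodule F V} (hL : ∀ x ∈ L, Q x = 0) {x y : V} (hx : x ∈ L)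
    (hy : y ∈ L) : bil Q x y = 0 := by
  have e := hL _ (L.add_mem hx hy)
  rwa [quad_add, hL x hx, hL y hy, add_zero, zero_add] at e

theorem TSLine.finite {L : Submodule F V} (hL : TSLine Q L) : FiniteDimensional F L :=
  Module.finite_of_finrank_pos (by rw [hL.1]; omega)

theorem TSLine.exists_pair {L : Submodule F V} (hL : TSLine Q L) :
    ∃ u v, IsLinePair Q u v ∧ L = Submodule.span F {u, v} := by
  have := hL.finite
  let b := Module.finBasisOfFinrankEq F L hL.1
  have hi : LinearIndependent F ![(b 0 : V), (b 1 : V)] := by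
    have h0 := b.linearIndependent.map' L.subtype L.ker_subtype
    have e0 : L.subtype ∘ ⇑b = ![(b 0 : V), (b 1 : V)] := by
      ext i
      fin_cases i <;> rfl
    exact e0 ▸ h0
  refine ⟨b 0, b 1, ⟨hi, hL.2 _ (b 0).2, hL.2 _ (b 1).2, bil_of_singular hL.2 (b 0).2 (b 1).2⟩, ?_⟩
  refine le_antisymm (fun x hx => Submodule.mem_span_pair.2 ?_) ?_
  · refine ⟨b.repr ⟨x, hx⟩ 0, b.repr ⟨x, hx⟩ 1, ?_⟩
    have h1 := congrArg L.subtype (b.sum_repr ⟨x, hx⟩)
    rw [Fin.sum_univ_two, map_add, map_smul, map_smul] at h1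
    exact h1
  · rw [Submodule.span_le]
    rintro x (rfl | rfl)
    · exact (b 0).2
    · exact (b 1).2

theorem tsLine_span {p r : V} (h : IsLinePair Q p r) : TSLine Q (Submodule.span F {p, r}) := by
  refine ⟨?_, fun x hx => ?_⟩
  · have := finrank_span_eq_card h.indep
    rwa [Matrix.range_cons, Matrix.range_cons, Matrix.range_empty, Set.union_empty,
      Set.singleton_union, Fintype.card_fin] at this
  · obtain ⟨a, b, rfl⟩ := Submodule.mem_span_pair.1 hx
    simp [quad_add, quad_smul_vec, h.qp, h.qr, h.orth]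

theorem TSLine.pair {L : Submodule F V} (hL : TSLine Q L) {p r : V} (hp : p ∈ L) (hr : r ∈ L)
    (hi : LinearIndependent F ![p, r]) :
    IsLinePair Q p r ∧ L = Submodule.span F {p, r} := by
  have := hL.finite
  refine ⟨⟨hi, hL.2 p hp, hL.2 r hr, bil_of_singular hL.2 hp hr⟩, ?_⟩
  have h : IsLinePair Q p r := ⟨hi, hL.2 p hp, hL.2 r hr, bil_of_singular hL.2 hp hr⟩
  refine (Submodule.eq_of_le_of_finrank_eq ?_ ((tsLine_span h).1.trans hL.1.symm)).symm
  rw [Submodule.span_le]
  rintro x (rfl | rfl)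
  exacts [hp, hr]

/-- A line through a given point. -/
theorem TSLine.exists_second {L : Submodule F V} (hL : TSLine Q L) {p : V} (hp0 : p ≠ 0)
    (hp : p ∈ L) : ∃ r, IsLinePair Q p r ∧ L = Submodule.span F {p, r} := by
  obtain ⟨a, b, hab, e⟩ := hL.exists_pair
  have ha : a ∈ L := e ▸ Submodule.subset_span (Or.inl rfl)
  have hb : b ∈ L := e ▸ Submodule.subset_span (Or.inr rfl)
  by_cases h : LinearIndependent F ![p, a]
  · exact ⟨a, hL.pair hp ha h⟩
  · refine ⟨b, hL.pair hp hb ((LinearIndependent.pair_iff' hp0).2 fun c hc => h ?_)⟩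
    refine (LinearIndependent.pair_iff' hp0).2 fun d hd => ?_
    by_cases hd0 : d = 0
    · subst hd0
      exact hab.ne_zero (by simpa using hd.symm)
    · have := LinearIndependent.pair_iff.1 hab.indep (c / d) (-1) (by
        rw [← hd, ← hc, smul_smul, div_mul_cancel₀ _ hd0, neg_smul, one_smul, add_neg_cancel])
      exact one_ne_zero (neg_eq_zero.1 this.2)

theorem bil_span_pair {p r x : V} (hp : bil Q x p = 0) (hr : bil Q x r = 0) {y : V}
    (hy : y ∈ Submodule.span F ({p, r} : Set V)) : bil Q x y = 0 := by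
  obtain ⟨a, b, rfl⟩ := Submodule.mem_span_pair.1 hy
  simp [hp, hr]

theorem lineElt_sub_mem {p r : V} (h : IsLinePair Q p r) (t : F) (x : V) :
    lineElt h t • x - x ∈ Submodule.span F ({p, r} : Set V) := by
  refine Submodule.mem_span_pair.2 ⟨-(t * bil Q x r), t * bil Q x p, ?_⟩
  rw [lineElt_smul]
  module

theorem lineElt_mem_siegel {p r : V} (h : IsLinePair Q p r) (t : F) :
    lineElt h t ∈ siegelGroup Q :=
  siegel_mem _ _

/-- The element of the Siegel group attached to a line. -/
def lineG {p r : V} (h : IsLinePair Q p r) (t : F) : siegelGroup Q :=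
  ⟨lineElt h t, lineElt_mem_siegel h t⟩

theorem lineG_smul {p r : V} (h : IsLinePair Q p r) (t : F) (x : V) :
    lineG h t • x = x + (t * bil Q x p) • r - (t * bil Q x r) • p :=
  lineElt_smul h t x

theorem lineG_zero {p r : V} (h : IsLinePair Q p r) : lineG h 0 = 1 :=
  Subtype.ext (lineElt_zero h)

theorem lineG_add {p r : V} (h : IsLinePair Q p r) (s t : F) :
    lineG h (s + t) = lineG h s * lineG h t :=
  Subtype.ext (lineElt_add h s t)

theorem lineG_basis {p r : V} (h : IsLinePair Q p r) {a b c d : F} (hd : a * d - b * c ≠ 0)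
    (t : F) : lineG (h.basis hd) t = lineG h (t * (a * d - b * c)) :=
  Subtype.ext (lineElt_basis h hd t)

theorem lineG_congr {p r p' r' : V} (h : IsLinePair Q p r) (h' : IsLinePair Q p' r') (e : p = p')
    (e' : r = r') (t : F) : lineG h t = lineG h' t := by
  subst e e'; rfl

theorem lineG_mem {p r : V} (h : IsLinePair Q p r) (t : F) :
    lineG h t ∈ rootGrp Q (Submodule.span F {p, r}) := by
  intro x hx
  rw [lineG_smul, hx p (Submodule.subset_span (Or.inl rfl)),
    hx r (Submodule.subset_span (Or.inr rfl))]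
  simp

theorem siegelGroup_ext {g g' : siegelGroup Q} (h : ∀ x : V, g • x = g' • x) : g = g' :=
  Subtype.ext (OQ.ext' h)

theorem gBil (g : siegelGroup Q) (x y : V) : bil Q (g • x) (g • y) = bil Q x y :=
  bil_smul_smul (g : OQ Q) x y

theorem gQuad (g : siegelGroup Q) (x : V) : Q (g • x) = Q x := quad_smul (g : OQ Q) x

section Finite

variable [FiniteDimensional F V] (hN : (bil Q).Nondegenerate)
include hN

theorem mem_rootGrp_span {p r : V} (h : IsLinePair Q p r) {g : siegelGroup Q} :
    g ∈ rootGrp Q (Submodule.span F {p, r}) ↔ ∃ t, g = lineG h t := by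
  refine ⟨fun hg => ?_, fun ⟨t, e⟩ => e ▸ lineG_mem h t⟩
  obtain ⟨t, ht⟩ := exists_lineElt_of_fix hN h (g : OQ Q) fun v hp hr =>
    hg v fun y hy => bil_span_pair hp hr hy
  exact ⟨t, Subtype.ext ht⟩

omit [FiniteDimensional F V] in
theorem exists_dual_pair {p r : V} (h : IsLinePair Q p r) :
    ∃ y, bil Q y p = 1 ∧ bil Q y r = 0 := by
  obtain ⟨y, h1, h2⟩ := exists_bil_pair hN h.indep 1 0
  exact ⟨y, (bil_comm _ _).trans h1, (bil_comm _ _).trans h2⟩

theorem lineG_inj {p r : V} (h : IsLinePair Q p r) {s t : F} (e : lineG h s = lineG h t) :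
    s = t := by
  obtain ⟨y, h1, h2⟩ := exists_dual_pair hN h
  have := congrArg (fun g : siegelGroup Q => g • y) e
  simp only [lineG_smul, h1, h2, mul_one, mul_zero, zero_smul, sub_zero, add_right_inj] at this
  have h3 : (s - t) • r = 0 := by rw [sub_smul, this, sub_self]
  exact sub_eq_zero.1 ((smul_eq_zero.1 h3).resolve_right h.swap.ne_zero)

theorem rootGrp_sub_mem {L : Submodule F V} (hL : TSLine Q L) {g : siegelGroup Q}
    (hg : g ∈ rootGrp Q L) (x : V) : g • x - x ∈ L := by
  obtain ⟨u, v, h, rfl⟩ := hL.exists_pair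
  obtain ⟨t, rfl⟩ := (mem_rootGrp_span hN h).1 hg
  exact lineElt_sub_mem h t x

/-- A nontrivial root element determines its line. -/
theorem line_le_of_mem {L M : Submodule F V} (hL : TSLine Q L) (hM : TSLine Q M) {g : siegelGroup Q}
    (hg : g ∈ rootGrp Q L) (h1 : g ≠ 1) (hgM : g ∈ rootGrp Q M) : L = M := by
  obtain ⟨u, v, h, rfl⟩ := hL.exists_pair
  obtain ⟨t, rfl⟩ := (mem_rootGrp_span hN h).1 hg
  have ht : t ≠ 0 := fun e => h1 (by rw [e, lineG_zero])
  obtain ⟨y, e1, e2⟩ := exists_dual_pair hN h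
  obtain ⟨z, f1, f2⟩ := exists_dual_pair hN h.swap
  have hv : v ∈ M := by
    have := rootGrp_sub_mem hN hM hgM y
    rw [lineG_smul, e1, e2] at this
    simpa [M.smul_mem_iff ht] using this
  have hu : u ∈ M := by
    have := rootGrp_sub_mem hN hM hgM z
    rw [lineG_smul, f1, f2] at this
    simpa [M.smul_mem_iff ht] using this
  exact (hM.pair hu hv h.indep).2.symm

theorem TSLine.exists_ne_one {L : Submodule F V} (hL : TSLine Q L) :
    ∃ g ∈ rootGrp Q L, g ≠ 1 := by
  obtain ⟨u, v, h, rfl⟩ := hL.exists_pair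
  exact ⟨_, lineG_mem h 1, fun e => one_ne_zero (lineG_inj hN h (e.trans (lineG_zero h).symm))⟩

omit hN [FiniteDimensional F V] in
theorem smul_map_line (g : siegelGroup Q) {L : Submodule F V} (hL : TSLine Q L) :
    TSLine Q (L.map ((g : OQ Q) : V ≃ₗ[F] V).toLinearMap) := by
  refine ⟨(LinearEquiv.finrank_map_eq _ L).trans hL.1, ?_⟩
  rintro _ ⟨x, hx, rfl⟩
  exact (gQuad g x).trans (hL.2 x hx)

omit hN [FiniteDimensional F V] in
theorem mem_smul_line {g : siegelGroup Q} {L : Submodule F V} {x : V} :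
    x ∈ L.map ((g : OQ Q) : V ≃ₗ[F] V).toLinearMap ↔ g⁻¹ • x ∈ L := by
  constructor
  · rintro ⟨y, hy, rfl⟩
    show g⁻¹ • g • y ∈ L
    rwa [inv_smul_smul]
  · intro h
    exact ⟨_, h, smul_inv_smul g x⟩

omit hN [FiniteDimensional F V] in
/-- Conjugation moves root groups with the lines. -/
theorem conj_mem_rootGrp (g : siegelGroup Q) {L : Submodule F V} {x : siegelGroup Q} :
    g * x * g⁻¹ ∈ rootGrp Q (L.map ((g : OQ Q) : V ≃ₗ[F] V).toLinearMap) ↔ x ∈ rootGrp Q L := by
  constructor
  · intro h y hy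
    have := h (g • y) fun z hz => by
      rw [← gBil g⁻¹, inv_smul_smul]
      exact hy _ (mem_smul_line.1 hz)
    rwa [mul_smul, mul_smul, inv_smul_smul, smul_left_cancel_iff] at this
  · intro h y hy
    have := h (g⁻¹ • y) fun z hz => by
      rw [← gBil g, smul_inv_smul]
      exact hy _ ⟨z, hz, rfl⟩
    rw [mul_smul, mul_smul, this, smul_inv_smul]

end Finite

section Char

variable [Finite F] [FiniteDimensional F V] (hN : (bil Q).Nondegenerate)
variable (h5 : 5 ≤ finrank F V) {p : ℕ} [Fact p.Prime] [CharP F p]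
include hN

omit hN [Finite F] [FiniteDimensional F V] [Fact p.Prime] in
theorem lineG_pow {u v : V} (h : IsLinePair Q u v) (t : F) (n : ℕ) :
    lineG h t ^ n = lineG h (n * t) := by
  induction n with
  | zero => simp [lineG_zero]
  | succ n ih => rw [pow_succ, ih, ← lineG_add]; congr 1; push_cast; ring

omit [Finite F] [Fact p.Prime] in
theorem rootGrp_pow {L : Submodule F V} (hL : TSLine Q L) {g : siegelGroup Q}
    (hg : g ∈ rootGrp Q L) : g ^ p = 1 := by
  obtain ⟨u, v, h, rfl⟩ := hL.exists_pair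
  obtain ⟨t, rfl⟩ := (mem_rootGrp_span hN h).1 hg
  rw [lineG_pow h, CharP.cast_eq_zero, zero_mul, lineG_zero]

include h5

/-- Central elements of `p`-power order are trivial. -/
theorem center_eq_one {z : siegelGroup Q} (hz : z ∈ Subgroup.center (siegelGroup Q)) {k : ℕ}
    (hk : z ^ p ^ k = 1) : z = 1 := by
  obtain ⟨a, -, ha⟩ := (siegel_mem_center_iff hN h5 z).1 hz
  obtain ⟨s, hs0, hs⟩ := exists_singular' hN h5
  have hpow : ∀ n : ℕ, (z ^ n) • s = a ^ n • s := by
    intro n
    induction n with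
    | zero => simp
    | succ n ih => rw [pow_succ', mul_smul, ih, ha, smul_smul, pow_succ']
  have h1 := hpow (p ^ k)
  rw [hk, one_smul] at h1
  have h2 : (a ^ p ^ k - 1) • s = 0 := by rw [sub_smul, one_smul, ← h1, sub_self]
  have h3 : (a - 1) ^ p ^ k = 0 := by
    rw [sub_pow_char_pow, one_pow]
    exact (smul_eq_zero.1 h2).resolve_right hs0
  refine siegelGroup_ext fun x => ?_
  rw [ha, sub_eq_zero.1 (pow_eq_zero_iff'.1 h3).1, one_smul, one_smul]

/-- Elements of order `p` are determined by their images. -/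
theorem eq_of_img_eq {x y : siegelGroup Q} (hx : x ^ p = 1) (hy : y ^ p = 1)
    (e : (QuotientGroup.mk x : PS Q) = QuotientGroup.mk y) : x = y := by
  have hz := QuotientGroup.eq.1 e
  have hc : Commute x⁻¹ y := by
    have h := Subgroup.mem_center_iff.1 hz x
    show x⁻¹ * y = y * x⁻¹
    calc x⁻¹ * y = x * (x⁻¹ * y) * x⁻¹ * 1 := by rw [h]; group
      _ = y * x⁻¹ := by group
  have h2 : (x⁻¹ * y) ^ p ^ 1 = 1 := by
    rw [pow_one, hc.mul_pow, inv_pow, hx, hy, inv_one, one_mul]
  exact (inv_mul_eq_one.1 (center_eq_one hN h5 hz h2))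

/-- Commuting modulo the centre implies commuting, for elements of order `p`. -/
theorem commute_of_img {x y : siegelGroup Q} (hy : y ^ p = 1)
    (e : Commute (QuotientGroup.mk x : PS Q) (QuotientGroup.mk y)) : Commute x y := by
  have h1 : (x * y * x⁻¹) ^ p = 1 := by
    rw [conj_pow, hy]; group
  have := eq_of_img_eq hN h5 h1 hy (by
    rw [QuotientGroup.mk_mul, QuotientGroup.mk_mul, QuotientGroup.mk_inv, e.eq, mul_inv_cancel_right])
  exact mul_inv_eq_iff_eq_mul.1 this

omit [Finite F] [FiniteDimensional F V] hN h5 in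
theorem mem_rootImg {L : Submodule F V} {x : PS Q} :
    x ∈ rootImg Q L ↔ ∃ g ∈ rootGrp Q L, (QuotientGroup.mk g : PS Q) = x :=
  Subgroup.mem_map

theorem rootImg_inj {L M : Submodule F V} (hL : TSLine Q L) (hM : TSLine Q M)
    (e : rootImg Q L = rootImg Q M) : L = M := by
  obtain ⟨g, hg, h1⟩ := hL.exists_ne_one hN
  obtain ⟨p, _⟩ := CharP.exists F
  have := Fact.mk (CharP.char_is_prime F p)
  obtain ⟨g', hg', e'⟩ : (QuotientGroup.mk g : PS Q) ∈ rootImg Q M :=
    e ▸ Subgroup.mem_map_of_mem _ hg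
  have := eq_of_img_eq (p := p) hN h5 (rootGrp_pow hN hM hg') (rootGrp_pow hN hL hg) e'
  exact line_le_of_mem hN hL hM hg h1 (this ▸ hg')

end Char

end Cfsg.Agent.AutPOmega
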