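import Cfsg.Agent.Lib.ClassicalSimple.OrthSimple
import Cfsg.Agent.Lib.QForm.Basis

/-!
Additive bijections preserving singular points and their orthogonality are semisimilarities.
-/

set_option autoImplicit false

namespace Cfsg.Agent.AutPOmega

open ClassicalSimple Module

variable {F V : Type*} [Field F] [AddCommGroup V] [Module F V] {Q : QuadraticForm F V}

variable (Q) in
/-- The vectors orthogonal to two given ones. -/
def pairPerp (a b : V) : Submodule F V := LinearMap.ker (bil Q a) ⊓ LinearMap.ker (bil Q b)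

theorem mem_pairPerp {a b x : V} : x ∈ pairPerp Q a b ↔ bil Q a x = 0 ∧ bil Q b x = 0 := Iff.rfl

theorem pairPerp_decomp {a b : V} (ha : Q a = 0) (hb : Q b = 0) (hab : bil Q a b = 1) (x : V) :
    x - bil Q b x • a - bil Q a x • b ∈ pairPerp Q a b := by
  rw [mem_pairPerp]
  constructor <;> simp [bil_self_of_singular ha, bil_self_of_singular hb, hab, bil_comm b a]

variable (Q) in
/-- The restricted form. -/
def restrictQ (W : Submodule F V) : QuadraticForm F W := Q.comp W.subtype

theorem restrictQ_apply (W : Submodule F V) (x : W) : restrictQ Q W x = Q x := rfl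

theorem bil_restrictQ (W : Submodule F V) (x y : W) : bil (restrictQ Q W) x y = bil Q x y := by
  simp [bil_apply, QuadraticMap.polar, restrictQ_apply]

theorem pairPerp_nondegenerate (hN : (bil Q).Nondegenerate) {a b : V} (ha : Q a = 0) (hb : Q b = 0)
    (hab : bil Q a b = 1) : (bil (restrictQ Q (pairPerp Q a b))).Nondegenerate := by
  have key : ∀ x : pairPerp Q a b, (∀ y, bil (restrictQ Q (pairPerp Q a b)) x y = 0) → x = 0 := by
    intro x hx
    refine Subtype.ext (hN.1 _ fun y => ?_)
    have := hx ⟨_, pairPerp_decomp ha hb hab y⟩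
    rw [bil_restrictQ] at this
    simpa [bil_comm (x : V) a, bil_comm (x : V) b, x.2.1, x.2.2, (mem_pairPerp.1 x.2).1,
      (mem_pairPerp.1 x.2).2] using this
  exact ⟨key, fun x hx => key x fun y => (bil_comm _ _).trans (hx y)⟩

theorem finrank_pairPerp [FiniteDimensional F V] (a b : V) :
    finrank F V ≤ finrank F (pairPerp Q a b) + 2 := by
  have h1 := LinearMap.finrank_range_add_finrank_ker (bil Q a)
  have h2 := LinearMap.finrank_range_add_finrank_ker (bil Q b)
  have h3 := Submodule.finrank_le (LinearMap.range (bil Q a))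
  have h4 := Submodule.finrank_le (LinearMap.range (bil Q b))
  have h5 := Submodule.finrank_sup_add_finrank_inf_eq (LinearMap.ker (bil Q a)) (LinearMap.ker (bil Q b))
  have h6 := Submodule.finrank_le (LinearMap.ker (bil Q a) ⊔ LinearMap.ker (bil Q b))
  rw [Module.finrank_self] at h3 h4
  unfold pairPerp
  omega

theorem exists_hyp_partner (hN : (bil Q).Nondegenerate) {s : V} (hs0 : s ≠ 0) (hs : Q s = 0) :
    ∃ t, Q t = 0 ∧ bil Q s t = 1 := by
  obtain ⟨y1, h1⟩ := orth_exists_ne_zero hN hs0
  have e1 : bil Q s ((bil Q s y1)⁻¹ • y1) = 1 := by rw [map_smul, smul_eq_mul, inv_mul_cancel₀ h1]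
  generalize (bil Q s y1)⁻¹ • y1 = y at e1
  refine ⟨y - Q y • s, ?_, by simp [bil_self_of_singular hs, e1]⟩
  rw [quad_sub, quad_smul_vec, hs, map_smul, bil_comm y s, e1, smul_eq_mul]
  ring

theorem span_singular_of_exists [FiniteDimensional F V] (hN : (bil Q).Nondegenerate) {s : V}
    (hs0 : s ≠ 0) (hs : Q s = 0) : Submodule.span F {v | Q v = 0} = ⊤ := by
  by_contra hne
  obtain ⟨φ, hφ0, hφ⟩ := Submodule.exists_dual_map_eq_bot_of_lt_top (lt_top_iff_ne_top.2 hne)
    inferInstance
  obtain ⟨b, hb⟩ : ∃ b, bil Q b = φ := by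
    obtain ⟨b, hb⟩ := (LinearMap.injective_iff_surjective_of_finrank_eq_finrank
      Subspace.dual_finrank_eq.symm (f := bil Q)).1
      (LinearMap.ker_eq_bot.1 (LinearMap.ker_eq_bot'.2 fun m hm => hN.1 m fun y => by
        rw [hm]; rfl)) φ
    exact ⟨b, hb⟩
  have hb0 : b ≠ 0 := by rintro rfl; exact hφ0 (by rw [← hb, map_zero])
  obtain ⟨z, hz, hbz⟩ := exists_singular_nonorth hN hs hs0 hb0
  rw [hb] at hbz
  exact hbz ((Submodule.eq_bot_iff _).1 hφ _ ⟨z, Submodule.subset_span hz, rfl⟩)

theorem semisimilarity_of_preserves [Finite F] [FiniteDimensional F V] (hN : (bil Q).Nondegenerate)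
    (h5 : 5 ≤ finrank F V) (g : V →+ V) (hinj : Function.Injective g)
    (hsing : ∀ z, Q z = 0 → Q (g z) = 0)
    (hline : ∀ z, Q z = 0 → ∀ t : F, ∃ c : F, g (t • z) = c • g z)
    (horth : ∀ z z', Q z = 0 → Q z' = 0 → bil Q z z' = 0 → bil Q (g z) (g z') = 0) :
    ∃ (s : F ≃+* F) (c : F), c ≠ 0 ∧ (∀ (t : F) (x : V), g (t • x) = s t • g x) ∧
      ∀ x, Q (g x) = c * s (Q x) := by
  classical
  have : Finite V := Module.finite_of_finite F
  choose l hl using hline
  have g0 : ∀ z : V, z ≠ 0 → g z ≠ 0 := fun z hz e => hz (hinj (e.trans (map_zero g).symm))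
  have linj : ∀ z (hz : Q z = 0), z ≠ 0 → ∀ a b : F, a • g z = b • g z → a = b :=
    fun z _ hz0 a b e => sub_eq_zero.1 ((smul_eq_zero.1 (by rw [sub_smul, e, sub_self])).resolve_right (g0 z hz0))
  have pair : ∀ z z' (hz : Q z = 0) (hz' : Q z' = 0), LinearIndependent F ![z, z'] → bil Q z z' = 0 →
      ∀ t, l z hz t = l z' hz' t := by
    intro z z' hz hz' hi hb t
    have hs : Q (z + z') = 0 := by rw [quad_add, hz, hz', hb]; ring
    have e := hl (z + z') hs t
    rw [smul_add, map_add, map_add, hl z hz, hl z' hz', smul_add] at e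
    have hgi : LinearIndependent F ![g z, g z'] := by
      refine (LinearIndependent.pair_iff' (g0 z (hi.ne_zero 0))).2 fun a ha => ?_
      have hsurj : Function.Surjective (l z hz) := Finite.injective_iff_surjective.1 fun a b hab =>
        sub_eq_zero.1 ((smul_eq_zero.1 (show (a - b) • z = 0 from hinj (by
          rw [map_zero, sub_smul, map_sub, hl z hz, hl z hz, hab, sub_self]))).resolve_right (hi.ne_zero 0))
      obtain ⟨b, hb'⟩ := hsurj a
      rw [← hb', ← hl z hz] at ha
      exact (LinearIndependent.pair_iff' (hi.ne_zero 0)).1 hi b (hinj ha)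
    have := LinearIndependent.pair_iff.1 hgi (l z hz t - l (z + z') hs t) (l z' hz' t - l (z + z') hs t)
      (by linear_combination (norm := module) e)
    rw [sub_eq_zero.1 this.1, sub_eq_zero.1 this.2]
  have between : ∀ z z' (hz : Q z = 0) (hz' : Q z' = 0), z ≠ 0 → z' ≠ 0 →
      ∀ t, l z hz t = l z' hz' t := by
    intro z z' hz hz' z0 z0' t
    by_cases hb : bil Q z z' = 0 ∧ LinearIndependent F ![z, z']
    · exact pair z z' hz hz' hb.2 hb.1 t
    obtain ⟨y, hy, hyz, hyz', hyi, hyi'⟩ : ∃ y, Q y = 0 ∧ bil Q z y = 0 ∧ bil Q z' y = 0 ∧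
        LinearIndependent F ![z, y] ∧ LinearIndependent F ![z', y] := by
      rcases not_and_or.1 hb with hb | hb
      · obtain ⟨y, hy0, hy, hφ⟩ := exists_singular (Q := Q) ![bil Q z, bil Q z']
          (by rw [Fintype.card_fin]; omega)
        rw [forall_vec2 (P := fun φ : Module.Dual F V => φ y = 0)] at hφ
        refine ⟨y, hy, hφ.1, hφ.2, (LinearIndependent.pair_iff' z0).2 fun a e => ?_,
          (LinearIndependent.pair_iff' z0').2 fun a e => ?_⟩
        · have h' := hφ.2
          rw [← e, map_smul, smul_eq_mul, bil_comm z' z, mul_eq_zero, or_iff_left hb] at h'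
          exact hy0 (by rw [← e, h', zero_smul])
        · have h' := hφ.1
          rw [← e, map_smul, smul_eq_mul, mul_eq_zero, or_iff_left hb] at h'
          exact hy0 (by rw [← e, h', zero_smul])
      · obtain ⟨zs, -, hzs⟩ := exists_hyp_partner hN z0 hz
        obtain ⟨y, hy0, hy, hφ⟩ := exists_singular (Q := Q) ![bil Q z, bil Q zs]
          (by rw [Fintype.card_fin]; omega)
        rw [forall_vec2 (P := fun φ : Module.Dual F V => φ y = 0)] at hφ
        obtain ⟨a, rfl⟩ : ∃ a : F, a • z = z' := by
          by_contra hc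
          push Not at hc
          exact hb ((LinearIndependent.pair_iff' z0).2 hc)
        have hi : LinearIndependent F ![z, y] := (LinearIndependent.pair_iff' z0).2 fun b e => by
          have h' := hφ.2
          rw [← e, map_smul, smul_eq_mul, bil_comm zs z, hzs, mul_one] at h'
          exact hy0 (by rw [← e, h', zero_smul])
        refine ⟨y, hy, hφ.1, by simp [hφ.1], hi, (LinearIndependent.pair_iff' z0').2 fun b e => ?_⟩
        exact (LinearIndependent.pair_iff' z0).1 hi (b * a) (by rw [mul_smul, e])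
    exact (pair z y hz hy hyi hyz t).trans (pair z' y hz' hy hyi' hyz' t).symm
  obtain ⟨s0, s00, hs0⟩ := exists_singular' hN h5
  set f := l s0 hs0 with hf
  have hf' : ∀ z, Q z = 0 → ∀ t, g (t • z) = f t • g z := by
    intro z hz t
    by_cases z0 : z = 0
    · simp [z0]
    · rw [hl z hz, between z s0 hz hs0 z0 s00]
  have li := linj s0 hs0 s00
  have fadd : ∀ a b, f (a + b) = f a + f b := fun a b => li _ _ (by
    rw [← hf' _ hs0, add_smul, map_add, hf' _ hs0, hf' _ hs0, add_smul])
  have fmul : ∀ a b, f (a * b) = f a * f b := fun a b => li _ _ (by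
    rw [← hf' _ hs0, mul_smul, hf' (b • s0) (by rw [quad_smul_vec, hs0, mul_zero]), hf' _ hs0, mul_smul])
  have f1 : f 1 = 1 := li _ _ (by rw [← hf' _ hs0, one_smul, one_smul])
  have finj : Function.Injective f := fun a b e => by
    have e' : (a - b) • s0 = 0 := hinj (by
      rw [map_zero, sub_smul, map_sub, hf' _ hs0, hf' _ hs0, e, sub_self])
    exact sub_eq_zero.1 ((smul_eq_zero.1 e').resolve_right s00)
  let s : F ≃+* F := RingEquiv.ofBijective
    ({ toFun := f, map_one' := f1, map_mul' := fmul,
       map_zero' := li _ _ (by rw [← hf' _ hs0, zero_smul, map_zero, zero_smul]),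
       map_add' := fadd } : F →+* F) ⟨finj, Finite.injective_iff_surjective.1 finj⟩
  have hsl : ∀ (t : F) (x : V), g (t • x) = s t • g x := by
    intro t x
    have hx : x ∈ Submodule.span F {v | Q v = 0} := by rw [span_singular hN h5]; trivial
    induction hx using Submodule.span_induction generalizing t with
    | mem y hy => exact hf' y hy t
    | zero => simp
    | add y z _ _ e1 e2 => rw [smul_add, map_add, map_add, e1, e2, smul_add]
    | smul a y _ e => rw [smul_smul, e, e, map_mul, mul_smul]
  obtain ⟨z', hz', hzz'⟩ := exists_hyp_partner hN s00 hs0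
  have hC : ∀ x, Q (g x) = bil Q (g s0) (g z') * s (Q x) := by
    have h3 : 3 ≤ finrank F (pairPerp Q s0 z') := by
      have := finrank_pairPerp (Q := Q) s0 z'
      omega
    obtain ⟨r, r0, hr⟩ := QForm.exists_singular (pairPerp_nondegenerate hN hs0 hz' hzz') h3
    have horth' : ∀ a, Q a = 0 → (∀ y : pairPerp Q s0 z', bil Q a y = 0) →
        ∀ y : pairPerp Q s0 z', bil Q (g a) (g y) = 0 := by
      intro a ha hay y
      have hy : y ∈ Submodule.span F {v | restrictQ Q (pairPerp Q s0 z') v = 0} := by
        rw [span_singular_of_exists (pairPerp_nondegenerate hN hs0 hz' hzz') r0 hr]; trivial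
      induction hy using Submodule.span_induction with
      | mem w hw => exact horth a w ha hw (hay w)
      | zero => simp
      | add w w' _ _ e1 e2 => rw [Submodule.coe_add, map_add, map_add, e1, e2, add_zero]
      | smul c w _ e => rw [Submodule.coe_smul, hsl, map_smul, e, smul_zero]
    intro x
    set w : pairPerp Q s0 z' := ⟨_, pairPerp_decomp hs0 hz' hzz' x⟩ with hw
    have a1 := horth' s0 hs0 (fun y => (mem_pairPerp.1 y.2).1) w
    have a2 := horth' z' hz' (fun y => (mem_pairPerp.1 y.2).2) w
    have hwQ : Q (g w) = bil Q (g s0) (g z') * s (Q w) := by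
      have hy : Q (s0 + (w : V) - Q w • z') = 0 := by
        rw [quad_sub, quad_add, quad_smul_vec, hs0, hz', map_smul, map_add, LinearMap.add_apply,
          (mem_pairPerp.1 w.2).1, bil_comm (w : V) z', (mem_pairPerp.1 w.2).2, hzz', smul_eq_mul]
        ring
      have e := hsing _ hy
      rw [map_sub, map_add, hsl, quad_sub, quad_add, quad_smul_vec, hsing _ hs0, hsing _ hz',
        map_smul, map_add, LinearMap.add_apply, a1, bil_comm (g (w : V)) (g z'), a2, smul_eq_mul] at e
      linear_combination e
    have hx : x = bil Q z' x • s0 + bil Q s0 x • z' + (w : V) := by rw [hw]; module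
    generalize bil Q z' x = a at hx
    generalize bil Q s0 x = b at hx
    have eQ : Q x = a * b + Q w := by
      rw [hx]
      simp only [quad_add, quad_smul_vec, map_add, map_smul, LinearMap.add_apply,
        LinearMap.smul_apply, smul_eq_mul, hs0, hz', hzz', (mem_pairPerp.1 w.2).1,
        (mem_pairPerp.1 w.2).2]
      ring
    rw [eQ, hx, map_add g, map_add g, hsl, hsl]
    simp only [quad_add, quad_smul_vec, map_add, map_smul, map_mul, LinearMap.add_apply,
      LinearMap.smul_apply, smul_eq_mul, hsing _ hs0, hsing _ hz', a1, a2, hwQ]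
    ring
  refine ⟨s, _, fun h0 => ?_, hsl, hC⟩
  have hz0 : ∀ x, Q (g x) = 0 := fun x => by rw [hC, h0, zero_mul]
  have hsurj := Finite.injective_iff_surjective.1 hinj
  have h1 : bil Q s0 z' = 0 := by
    obtain ⟨a, rfl⟩ := hsurj s0
    obtain ⟨b, rfl⟩ := hsurj z'
    have := hz0 (a + b)
    rwa [map_add, quad_add, hz0, hz0, add_zero, zero_add] at this
  exact one_ne_zero (hzz' ▸ h1)

end Cfsg.Agent.AutPOmega
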