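import Cfsg.Agent.Lib.AutPOmega.Points
import Cfsg.Agent.Lib.AutPOmega.Semilinear

/-!
Automorphisms of the projective orthogonal group in dimension at least 7 (other than eight-dimensional
plus type) are induced by semisimilarities.
-/

set_option autoImplicit false

namespace Cfsg.Agent.AutPOmega

open ClassicalSimple Module

variable {F V : Type*} [Field F] [AddCommGroup V] [Module F V] {Q : QuadraticForm F V}

theorem siegG_add_self {v w : V} (hv : Q v = 0) (hw : bil Q v w = 0) (a : F)
    (hw' : bil Q v (w + a • v) = 0) : siegG hv hw' = siegG hv hw := by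
  rw [← siegG_mul hv hw (w' := a • v) (by simp [bil_self_of_singular hv]), siegG_smul_self, mul_one]

variable [Finite F] [FiniteDimensional F V] (hN : (bil Q).Nondegenerate)
variable (h7 : 7 ≤ finrank F V)
include hN h7

theorem semilinear_of_fixed {β : MulAut (PS Q)} (hMP : MeetPres β) {σ : Submodule F V → Submodule F V}
    (hσ : IsLineMap β σ) {u v : V} (hu : Q u = 0) (hv : Q v = 0) (huv : bil Q u v = 1)
    (hpu : PtImg Q σ u u) (hpv : PtImg Q σ v v) :
    ∃ (G : V →+ V) (s : F ≃+* F) (c : F), c ≠ 0 ∧ Function.Injective G ∧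
      (∀ (t : F) (x : V), G (t • x) = s t • G x) ∧ (∀ x, Q (G x) = c * s (Q x)) ∧
      ∀ k k' : siegelGroup Q, (∀ x, k' • G x = G (k • x)) →
        β (QuotientGroup.mk k) = QuotientGroup.mk k' := by
  classical
  obtain ⟨p, _⟩ := CharP.exists F
  have := Fact.mk (CharP.char_is_prime F p)
  have : Finite V := Module.finite_of_finite F
  have h5 : 5 ≤ finrank F V := by omega
  have hu0 : u ≠ 0 := hpu.1.1
  have hv0 : v ≠ 0 := hpv.1.1
  have hvu : bil Q v u = 1 := (bil_comm _ _).trans huv
  let W : Submodule F V := pairPerp Q u v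
  have hWu : ∀ w : W, bil Q u (w : V) = 0 := fun w => (mem_pairPerp.1 w.2).1
  have hWv : ∀ w : W, bil Q v (w : V) = 0 := fun w => (mem_pairPerp.1 w.2).2
  have hW5 : 5 ≤ finrank F W := by
    have := finrank_pairPerp (Q := Q) u v
    show 5 ≤ finrank F (pairPerp Q u v)
    omega
  have hNW : (bil (restrictQ Q W)).Nondegenerate := pairPerp_nondegenerate hN hu hv huv
  let sg : W → siegelGroup Q := fun w => siegG hv (hWv w)
  have sg_add : ∀ a b : W, sg (a + b) = sg a * sg b := fun a b => by
    simp only [sg, siegG_mul]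
  have sg_zero : sg 0 = 1 := by
    have h := sg_add 0 0
    rw [add_zero] at h
    exact mul_left_cancel (h.symm.trans (mul_one _).symm)
  have sg_pow : ∀ w : W, sg w ^ p = 1 := by
    intro w
    have e : ∀ n : ℕ, sg w ^ n = sg (n • w) := by
      intro n
      induction n with
      | zero => rw [pow_zero, zero_smul, sg_zero]
      | succ n ih => rw [pow_succ, ih, succ_nsmul, sg_add]
    rw [e, ← Nat.cast_smul_eq_nsmul F, CharP.cast_eq_zero, zero_smul, sg_zero]
  have sg_inj : ∀ a b : W, (QuotientGroup.mk (sg a) : PS Q) = QuotientGroup.mk (sg b) → a = b := by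
    intro a b e
    have e1 := congrArg (fun g : siegelGroup Q => g • u) (eq_of_img_eq hN h5 (sg_pow a) (sg_pow b) e)
    simp only [sg, siegG_smul, huv, hWu, mul_one, zero_add, one_smul] at e1
    have e2 : Q (a : V) = Q (b : V) := by
      have := congrArg (bil Q u) e1
      simp [hWu, huv] at this
      exact this
    refine Subtype.ext ?_
    rw [e2] at e1
    simpa using e1
  have key : ∀ z : W, z ≠ 0 → restrictQ Q W z = 0 → ∃ r : W, r ≠ 0 ∧ restrictQ Q W r = 0 ∧
      (∃ h : IsLinePair Q v (z : V),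
        σ (Submodule.span F {v, (z : V)}) = Submodule.span F {v, (r : V)}) ∧
      ∀ t : F, ∃ t' : F, β (QuotientGroup.mk (sg (t • z))) = QuotientGroup.mk (sg (t' • r)) := by
    intro z z0 hz
    have hzQ : Q (z : V) = 0 := hz
    have z0' : (z : V) ≠ 0 := fun e => z0 (Subtype.ext e)
    have hp : IsLinePair Q v (z : V) := by
      refine ⟨(LinearIndependent.pair_iff' hv0).2 fun a e => ?_, hv, hzQ, hWv z⟩
      have ha : a = 0 := by
        have := hWu z
        rw [← e, map_smul, huv, smul_eq_mul, mul_one] at this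
        exact this
      exact z0' (by rw [← e, ha, zero_smul])
    obtain ⟨hL', eβ⟩ := hσ _ (tsLine_span hp)
    obtain ⟨r, hr, eL⟩ := hL'.exists_second hv0 ((hpv.2 _ (tsLine_span hp)).1 mem_span_left)
    have hr' : r - bil Q u r • v ∈ W :=
      mem_pairPerp.2 ⟨by simp [huv], by simp [hr.orth, bil_self_of_singular hv]⟩
    have hrQ : Q (r - bil Q u r • v) = 0 := by
      rw [quad_sub, quad_smul_vec, hr.qr, hv, map_smul, hr.orth']; simp
    refine ⟨⟨_, hr'⟩, fun e => ?_, hrQ, ⟨hp, ?_⟩, fun t => ?_⟩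
    · have e' : r - bil Q u r • v = 0 := congrArg Subtype.val e
      exact (LinearIndependent.pair_iff' hv0).1 hr.indep _ (sub_eq_zero.1 e').symm
    · rw [eL]
      apply le_antisymm
      · rw [Submodule.span_le]
        rintro x (rfl | hx)
        · exact mem_span_left
        · exact Submodule.mem_span_pair.2 ⟨bil Q u r, 1, by rw [show x = r from hx]; module⟩
      · rw [Submodule.span_le]
        rintro x (rfl | hx)
        · exact mem_span_left
        · exact Submodule.mem_span_pair.2
            ⟨-bil Q u r, 1, by rw [show x = r - bil Q u r • v from hx]; module⟩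
    have e0 : sg (t • z) = lineG hp t := (lineG_eq_siegG hp t).symm
    have hm : β (QuotientGroup.mk (lineG hp t)) ∈ rootImg Q (σ (Submodule.span F {v, (z : V)})) :=
      eβ ▸ Subgroup.mem_map_of_mem _ (Subgroup.mem_map_of_mem _ (lineG_mem hp t))
    rw [eL] at hm
    obtain ⟨g, hg, eg⟩ := mem_rootImg.1 hm
    obtain ⟨t', rfl⟩ := (mem_rootGrp_span hN hr).1 hg
    refine ⟨t', ?_⟩
    rw [e0, ← eg, lineG_eq_siegG]
    congr 1
    have hw : bil Q v (t' • (r - bil Q u r • v)) = 0 := by
      simp [hr.orth, bil_self_of_singular hv]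
    have hw2 : bil Q v (t' • (r - bil Q u r • v) + (t' * bil Q u r) • v) = 0 := by
      simp [hr.orth, bil_self_of_singular hv]
    rw [← siegG_congr hv hw2 hv (hr.smul_orth t') rfl (by module), siegG_add_self hv hw]
  have hex : ∀ w : W, ∃ w' : W, β (QuotientGroup.mk (sg w)) = QuotientGroup.mk (sg w') := by
    intro w
    obtain ⟨r, r0, hr⟩ := exists_singular' hNW hW5
    have hw : w ∈ Submodule.span F {x | restrictQ Q W x = 0} := by
      rw [span_singular_of_exists hNW r0 hr]; trivial
    suffices ∀ t : F, ∃ w' : W, β (QuotientGroup.mk (sg (t • w))) = QuotientGroup.mk (sg w') by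
      simpa using this 1
    induction hw using Submodule.span_induction with
    | mem z hz =>
      intro t
      by_cases z0 : z = 0
      · exact ⟨0, by rw [z0, smul_zero, sg_zero, QuotientGroup.mk_one, map_one]⟩
      · obtain ⟨r, -, -, -, h⟩ := key z z0 hz
        obtain ⟨t', ht⟩ := h t
        exact ⟨_, ht⟩
    | zero => intro t; exact ⟨0, by rw [smul_zero, sg_zero, QuotientGroup.mk_one, map_one]⟩
    | add a b _ _ ha hb =>
      intro t
      obtain ⟨a', ea⟩ := ha t
      obtain ⟨b', eb⟩ := hb t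
      exact ⟨a' + b', by
        rw [smul_add, sg_add, sg_add, QuotientGroup.mk_mul, map_mul, ea, eb, QuotientGroup.mk_mul]⟩
    | smul a x _ hx => intro t; rw [smul_smul]; exact hx _
  choose g0 hg0 using hex
  let g : W →+ W := AddMonoidHom.mk' g0 fun a b => sg_inj _ _ (by
    rw [← hg0, sg_add, sg_add, QuotientGroup.mk_mul, map_mul, hg0, hg0, QuotientGroup.mk_mul])
  have hg : ∀ w, β (QuotientGroup.mk (sg w)) = QuotientGroup.mk (sg (g w)) := hg0
  have ginj : Function.Injective g := fun a b e => sg_inj _ _ (β.injective (by rw [hg, hg, e]))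
  have gsing : ∀ z : W, restrictQ Q W z = 0 → restrictQ Q W (g z) = 0 ∧
      (∀ t : F, ∃ c : F, g (t • z) = c • g z) := by
    intro z hz
    by_cases z0 : z = 0
    · simp [z0]
    obtain ⟨r, r0, hr, -, h⟩ := key z z0 hz
    have hgt : ∀ t : F, ∃ t', g (t • z) = t' • r := fun t =>
      (h t).imp fun t' ht => sg_inj _ _ ((hg _).symm.trans ht)
    obtain ⟨t₁, ht₁⟩ := hgt 1
    rw [one_smul] at ht₁
    refine ⟨by rw [ht₁, quad_smul_vec, hr, mul_zero], fun t => ?_⟩
    obtain ⟨t', ht⟩ := hgt t
    have : t₁ ≠ 0 := fun e => z0 (ginj (by rw [ht₁, e, zero_smul, map_zero]))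
    exact ⟨t' / t₁, by rw [ht, ht₁, smul_smul, div_mul_cancel₀ _ this]⟩
  have gorth : ∀ z z' : W, restrictQ Q W z = 0 → restrictQ Q W z' = 0 →
      bil (restrictQ Q W) z z' = 0 → bil (restrictQ Q W) (g z) (g z') = 0 := by
    intro z z' hz hz' hb
    by_cases z0 : z = 0
    · simp [z0]
    by_cases z0' : z' = 0
    · simp [z0']
    by_cases hl : ∃ a : F, a • z = z'
    · obtain ⟨a, rfl⟩ := hl
      obtain ⟨c, hc⟩ := (gsing z hz).2 a
      rw [hc, map_smul, bil_self_of_singular (gsing z hz).1, smul_zero]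
    push Not at hl
    obtain ⟨r, r0, hr, ⟨hp, eL⟩, h⟩ := key z z0 hz
    obtain ⟨r', r0', hr', ⟨hp', eL'⟩, h'⟩ := key z' z0' hz'
    rw [bil_restrictQ] at hb
    have hzspan : (z' : V) ∉ Submodule.span F {v, (z : V)} := by
      intro hmem
      obtain ⟨a, b, e⟩ := Submodule.mem_span_pair.1 hmem
      have ha : a = 0 := by
        have := congrArg (bil Q u) e
        simp [huv, hWu] at this
        exact this
      rw [ha, zero_smul, zero_add] at e
      exact hl b (Subtype.ext e)
    have hadj : Adj Q (Submodule.span F {v, (z : V)}) (Submodule.span F {v, (z' : V)}) :=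
      ⟨⟨fun e => hzspan (e ▸ mem_span_right), v, hv0, mem_span_left, mem_span_left⟩,
        perp_span hp.pp hp'.orth hp.orth' hb⟩
    have := ((lineMap_adj hN h7 hσ (tsLine_span hp) (tsLine_span hp')).2 hadj).2
    rw [eL, eL'] at this
    have hrr : bil Q (r : V) (r' : V) = 0 := this _ mem_span_right _ mem_span_right
    obtain ⟨t, ht⟩ := h 1
    obtain ⟨t', ht'⟩ := h' 1
    rw [one_smul] at ht ht'
    rw [sg_inj _ _ ((hg z).symm.trans ht), sg_inj _ _ ((hg z').symm.trans ht'), bil_restrictQ]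
    simp [hrr]
  obtain ⟨s, c, hc, hsl, hQg⟩ := semisimilarity_of_preserves hNW hW5 g ginj (fun z hz => (gsing z hz).1)
    (fun z hz => (gsing z hz).2) gorth
  let pr : V →+ W := AddMonoidHom.mk' (fun x => ⟨_, pairPerp_decomp hu hv huv x⟩) fun x y => by
    refine Subtype.ext ?_
    simp only [map_add, Submodule.coe_add]
    module
  have pr_eq : ∀ x, (pr x : V) = x - bil Q v x • u - bil Q u x • v := fun x => rfl
  let G : V →+ V := AddMonoidHom.mk'
    (fun x => s (bil Q v x) • u + (c * s (bil Q u x)) • v + (g (pr x) : V)) fun x y => by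
      simp only [map_add, Submodule.coe_add]
      module
  have G_eq : ∀ x, G x = s (bil Q v x) • u + (c * s (bil Q u x)) • v + (g (pr x) : V) := fun x => rfl
  have prs : ∀ (t : F) x, pr (t • x) = t • pr x := fun t x => Subtype.ext (by
    rw [Submodule.coe_smul, pr_eq, pr_eq, map_smul, map_smul, smul_eq_mul, smul_eq_mul]; module)
  have Gsl : ∀ (t : F) (x : V), G (t • x) = s t • G x := by
    intro t x
    rw [G_eq, G_eq, map_smul (bil Q v), map_smul (bil Q u), prs, hsl, Submodule.coe_smul, smul_eq_mul, smul_eq_mul,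
      map_mul, map_mul]
    module
  have GQ : ∀ x, Q (G x) = c * s (Q x) := by
    intro x
    have e := hQg (pr x)
    rw [restrictQ_apply, restrictQ_apply] at e
    have hx : x = bil Q v x • u + bil Q u x • v + (pr x : V) := by rw [pr_eq]; module
    have hqx : Q x = bil Q v x * bil Q u x + Q (pr x : V) := by
      conv_lhs => rw [hx]
      generalize bil Q v x = a
      generalize bil Q u x = b
      simp only [quad_add, quad_smul_vec, map_add, map_smul, LinearMap.add_apply,
        LinearMap.smul_apply, smul_eq_mul, hu, hv, huv, hWu, hWv]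
      ring
    rw [G_eq, hqx]
    simp only [quad_add, quad_smul_vec, map_add, map_smul, map_mul, LinearMap.add_apply,
      LinearMap.smul_apply, smul_eq_mul, hu, hv, huv, hWu, hWv, e]
    ring
  have GB : ∀ x y, bil Q (G x) (G y) = c * s (bil Q x y) := by
    intro x y
    have e := GQ (x + y)
    rw [map_add, quad_add, quad_add, map_add, map_add, GQ, GQ] at e
    linear_combination e
  have Ginj : Function.Injective G := (injective_iff_map_eq_zero G).2 fun x hx => hN.1 x fun y => by
    have e := GB x y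
    rw [hx, map_zero, LinearMap.zero_apply, eq_comm, mul_eq_zero, or_iff_right hc,
      map_eq_zero_iff s s.injective] at e
    exact e
  have Gsurj : Function.Surjective G := Finite.injective_iff_surjective.1 Ginj
  have Gu : G u = u := by
    have h0 : pr u = 0 := Subtype.ext (by
      rw [pr_eq, hvu, bil_self_of_singular hu, zero_smul, one_smul, sub_zero, sub_self]; rfl)
    rw [G_eq, hvu, bil_self_of_singular hu, map_one, map_zero, mul_zero, h0, map_zero]
    simp
  have Gv : G v = c • v := by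
    have h0 : pr v = 0 := Subtype.ext (by
      rw [pr_eq, huv, bil_self_of_singular hv, zero_smul, one_smul, sub_zero, sub_self]; rfl)
    rw [G_eq, huv, bil_self_of_singular hv, map_one, map_zero, mul_one, h0, map_zero]
    simp
  have GW : ∀ w : W, G (w : V) = (g w : V) := by
    intro w
    have h0 : pr (w : V) = w := Subtype.ext (by rw [pr_eq, hWu, hWv]; simp)
    rw [G_eq, hWu, hWv, h0]
    simp
  have inter : ∀ (w : W) (x : V), sg (g w) • G x = G (sg w • x) := by
    intro w x
    simp only [sg, siegG_smul]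
    rw [map_sub, map_add, Gsl, Gsl, GW, Gv, map_add, map_mul]
    have b1 : bil Q (G x) v = s (bil Q x v) := by
      have := GB x v
      rw [Gv, map_smul, smul_eq_mul] at this
      exact mul_left_cancel₀ hc this
    have b2 : bil Q (G x) (g w : V) = c * s (bil Q x (w : V)) := by rw [← GW, GB]
    have b3 : Q (g w : V) = c * s (Q (w : V)) := hQg w
    rw [b1, b2, b3]
    module
  have Gsing : ∀ z, Q z = 0 → Q (G z) = 0 := fun z hz => by rw [GQ, hz, map_zero, mul_zero]
  have G0 : ∀ z : V, z ≠ 0 → G z ≠ 0 := fun z hz e => hz (Ginj (e.trans (map_zero G).symm))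
  have aff1 : ∀ a, Q a = 0 → bil Q v a = 1 → PtImg Q σ a (G a) := by
    intro a ha hva
    set w := pr a
    have hQw : bil Q u a = -Q (w : V) := by
      have hx : a = u + bil Q u a • v + (w : V) := by simp only [w, pr_eq, hva, one_smul]; module
      generalize bil Q u a = b at hx ⊢
      rw [hx] at ha
      simp [quad_add, quad_smul_vec, hu, hv, huv, hWu, hWv] at ha
      linear_combination ha
    have e : sg w • u = a := by
      simp only [sg, siegG_smul, huv, hWu, one_smul, mul_one, zero_add]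
      have : (w : V) = a - u - bil Q u a • v := by simp only [w, pr_eq, hva, one_smul]
      rw [hQw] at this
      linear_combination (norm := module) this
    have := ptImg_smul_group hN h7 hσ (hg w).symm hpu
    rw [e] at this
    rw [← e, ← inter, Gu]
    rw [e]
    exact this
  have aff : ∀ a, Q a = 0 → bil Q v a ≠ 0 → PtImg Q σ a (G a) := by
    intro a ha hva
    have h1 := aff1 ((bil Q v a)⁻¹ • a) (by rw [quad_smul_vec, ha, mul_zero])
      (by rw [map_smul, smul_eq_mul, inv_mul_cancel₀ hva])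
    have h2 := ptImg_smul (a := bil Q v a) (b := s (bil Q v a)) h1 hva
      ((map_ne_zero_iff s s.injective).2 hva)
    rwa [← Gsl, smul_inv_smul₀ hva] at h2
  have all : ∀ z, z ≠ 0 → Q z = 0 → PtImg Q σ z (G z) := by
    intro z z0 hz
    by_cases hb : bil Q v z = 0
    swap
    · exact aff z hz hb
    by_cases hl : ∃ a : F, a • v = z
    · obtain ⟨a, rfl⟩ := hl
      have ha := left_ne_zero_of_smul z0
      rw [Gsl, Gv, smul_smul]
      exact ptImg_smul hpv ha (mul_ne_zero ((map_ne_zero_iff s s.injective).2 ha) hc)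
    push Not at hl
    obtain ⟨y1, e1, e2⟩ := exists_bil_pair hN ((LinearIndependent.pair_iff' hv0).2 hl) 1 0
    obtain ⟨a, haQ, hva, hza⟩ : ∃ a, Q a = 0 ∧ bil Q v a = 1 ∧ bil Q z a = 0 := by
      refine ⟨y1 - Q y1 • v, ?_, by simp [e1, bil_self_of_singular hv],
        by simp [e2, (bil_comm z v).trans hb]⟩
      rw [quad_sub, quad_smul_vec, hv, map_smul, bil_comm y1 v, e1, smul_eq_mul]; ring
    have haz : IsLinePair Q a z := by
      refine ⟨(LinearIndependent.pair_iff' (fun e => by simp [e] at hva)).2 fun b e => ?_, haQ, hz,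
        (bil_comm _ _).trans hza⟩
      have hb0 : b = 0 := by
        have := congrArg (bil Q v) e
        simp [hva, hb] at this
        exact this
      exact z0 (by rw [← e, hb0, zero_smul])
    obtain ⟨ya, q1, q2⟩ := exists_dual_pair hN haz
    obtain ⟨yz, q3, q4⟩ := exists_dual_pair hN haz.swap
    obtain ⟨y, hy0, hy, hφ⟩ := exists_singular (Q := Q) ![bil Q a, bil Q z, bil Q ya, bil Q yz]
      (by rw [Fintype.card_fin]; omega)
    rw [forall_vec4 (P := fun φ : Module.Dual F V => φ y = 0)] at hφ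
    have hyspan : y ∉ Submodule.span F {a, z} := by
      intro hm
      obtain ⟨α, γ, e⟩ := Submodule.mem_span_pair.1 hm
      have f1 := hφ.2.2.1
      have f2 := hφ.2.2.2
      rw [← e] at f1 f2
      simp [q1, q2] at f1
      simp [q3, q4] at f2
      exact hy0 (by rw [← e, f1, f2]; simp)
    obtain ⟨a', ha'Q, hva', hza', ha'span⟩ : ∃ a', Q a' = 0 ∧ bil Q v a' ≠ 0 ∧ bil Q z a' = 0 ∧
        a' ∉ Submodule.span F {a, z} := by
      by_cases h : 1 + bil Q v y = 0
      · refine ⟨y, hy, fun e => one_ne_zero (α := F) ?_, hφ.2.1, hyspan⟩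
        rw [e, add_zero] at h
        exact h
      · refine ⟨a + y, by rw [quad_add, haQ, hy, hφ.1]; simp, by rwa [map_add, hva],
          by rw [map_add, hza, hφ.2.1, add_zero], fun hm => hyspan ?_⟩
        simpa using Submodule.sub_mem _ hm (mem_span_left : a ∈ Submodule.span F {a, z})
    have haz' : IsLinePair Q a' z :=
      ⟨(LinearIndependent.pair_iff' (fun e => by simp [e] at hva')).2 fun b e => ha'span (by
          rw [← Submodule.smul_mem_iff _ (show b ≠ 0 from fun b0 => z0 (by rw [← e, b0, zero_smul])), e]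
          exact mem_span_right), ha'Q, hz, (bil_comm _ _).trans hza'⟩
    have inL : ∀ b : V, IsLinePair Q b z → bil Q v b ≠ 0 →
        G z ∈ σ (Submodule.span F {b, z}) := by
      intro b hp hvb
      have h1 := ((aff b hp.qp hvb).2 _ (tsLine_span hp)).1 mem_span_left
      have h2 := ((aff (b + z) (by rw [quad_add, hp.qp, hp.qr, hp.orth]; simp)
        (by rwa [map_add, hb, add_zero])).2 _ (tsLine_span hp)).1
        (Submodule.add_mem _ mem_span_left mem_span_right)
      rw [map_add] at h2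
      simpa using Submodule.sub_mem _ h2 h1
    obtain ⟨z', hz'⟩ := exists_ptImg hN h7 hMP hσ z0 hz
    obtain ⟨d, hd⟩ := meet_sameLine (hσ _ (tsLine_span haz)).1 (hσ _ (tsLine_span haz')).1
      (fun e => ha'span (by
        rw [(lineMap_inj hN h7 hσ (tsLine_span haz) (tsLine_span haz')).1 e]; exact mem_span_left))
      (G0 z z0) (inL a haz (by rw [hva]; exact one_ne_zero)) (inL a' haz' hva')
      ((hz'.2 _ (tsLine_span haz)).1 mem_span_right) ((hz'.2 _ (tsLine_span haz')).1 mem_span_right)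
    have hd0 : d ≠ 0 := fun e => hz'.1.1 (by rw [← hd, e, zero_smul])
    have := ptImg_smul hz' (one_ne_zero : (1 : F) ≠ 0) (inv_ne_zero hd0)
    rwa [one_smul, ← hd, inv_smul_smul₀ hd0] at this
  refine ⟨G, s, c, hc, Ginj, Gsl, GQ, fun k k' hkk => ?_⟩
  obtain ⟨k0, hk0⟩ := QuotientGroup.mk_surjective (β (QuotientGroup.mk k))
  rw [← hk0]
  refine QuotientGroup.eq.2 ((siegel_mem_center_iff hN h5 _).2
    (orth_scalar_of_sameLine hN h5 ((k0⁻¹ * k' : siegelGroup Q) : OQ Q) fun y hy0 hy => ?_))
  obtain ⟨z, rfl⟩ := Gsurj y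
  have z0 : z ≠ 0 := fun e => hy0 (by rw [e, map_zero])
  have hz : Q z = 0 := by
    rw [GQ, mul_eq_zero, or_iff_right hc, map_eq_zero_iff s s.injective] at hy
    exact hy
  have k1 : PtImg Q σ (k • z) (k' • G z) := by
    rw [hkk]
    exact all _ (fun e => z0 ((smul_eq_zero_iff_eq k).1 e)) (by rw [gQuad, hz])
  have k2 := ptImg_smul_group hN h7 hσ hk0 (all z z0 hz)
  obtain ⟨d, hd⟩ := ptImg_unique hN h7 hσ (fun e => z0 ((smul_eq_zero_iff_eq k).1 e))
    (by rw [gQuad, hz]) k2 k1
  refine ⟨d, ?_⟩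
  show d • G z = (k0⁻¹ * k') • G z
  rw [mul_smul, eq_inv_smul_iff, smul_comm, hd]

/-- An automorphism preserving intersection of lines is induced by a semisimilarity. -/
theorem exists_semilinear_of_meet {β : MulAut (PS Q)} (hMP : MeetPres β) :
    ∃ (G : V →+ V) (s : F ≃+* F) (c : F), c ≠ 0 ∧ Function.Injective G ∧
      (∀ (t : F) (x : V), G (t • x) = s t • G x) ∧ (∀ x, Q (G x) = c * s (Q x)) ∧
      ∀ k k' : siegelGroup Q, (∀ x, k' • G x = G (k • x)) →
        β (QuotientGroup.mk k) = QuotientGroup.mk k' := by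
  have h5 : 5 ≤ finrank F V := by omega
  obtain ⟨u, hu0, hu⟩ := exists_singular' hN h5
  obtain ⟨v, hv, huv⟩ := exists_hyp_partner hN hu0 hu
  have hv0 : v ≠ 0 := fun e => by rw [e, map_zero] at huv; exact zero_ne_one huv
  obtain ⟨σ, hσ⟩ := exists_lineMap hN h7 β
  obtain ⟨u', hu'⟩ := exists_ptImg hN h7 hMP hσ hu0 hu
  obtain ⟨v', hv'⟩ := exists_ptImg hN h7 hMP hσ hv0 hv
  have hb : bil Q u' v' ≠ 0 := fun e =>
    one_ne_zero (huv.symm.trans ((ptImg_orth hN h7 hσ hu0 hv0 hu hv hu' hv').1 e))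
  have hv'' : PtImg Q σ v ((bil Q u' v')⁻¹ • v') := by
    simpa using ptImg_smul hv' (one_ne_zero : (1 : F) ≠ 0) (inv_ne_zero hb)
  obtain ⟨g, hg, gu, gv⟩ := siegel_trans_pair hN h5 hu'.1.2 hv''.1.2 hu hv
    (by rw [map_smul, smul_eq_mul, inv_mul_cancel₀ hb]) huv
  set γ : siegelGroup Q := ⟨g, hg⟩
  let σ' : Submodule F V → Submodule F V :=
    fun L => (σ L).map ((γ : OQ Q) : V ≃ₗ[F] V).toLinearMap
  have hσ' : IsLineMap (MulAut.conj (QuotientGroup.mk γ : PS Q) * β) σ' := by
    intro L hL
    refine ⟨smul_map_line γ (hσ L hL).1, ?_⟩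
    ext y
    constructor
    · rintro ⟨x, hx, rfl⟩
      have hx' : β x ∈ rootImg Q (σ L) := (hσ L hL).2 ▸ Subgroup.mem_map_of_mem _ hx
      obtain ⟨r, hr, er⟩ := mem_rootImg.1 hx'
      refine mem_rootImg.2 ⟨γ * r * γ⁻¹, (conj_mem_rootGrp γ).2 hr, ?_⟩
      simp [er]
    · intro hy
      obtain ⟨r, hr, rfl⟩ := mem_rootImg.1 hy
      have hr' : (QuotientGroup.mk (γ⁻¹ * r * γ) : PS Q) ∈ rootImg Q (σ L) :=
        mem_rootImg.2 ⟨_, (conj_mem_rootGrp γ).1 (by simpa [mul_assoc, σ'] using hr), rfl⟩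
      rw [← (hσ L hL).2] at hr'
      obtain ⟨x, hx, ex⟩ := hr'
      refine ⟨x, hx, ?_⟩
      simp only [MulEquiv.coe_toMonoidHom] at ex
      simp [ex, mul_assoc]
  have hpt : ∀ {x x' : V}, PtImg Q σ x x' → PtImg Q σ' x (γ • x') := fun {x x'} h =>
    ⟨⟨fun e => h.1.1 ((smul_eq_zero_iff_eq γ).1 e), by rw [gQuad, h.1.2]⟩, fun L hL => by
      show x ∈ L ↔ γ • x' ∈ Submodule.map _ (σ L)
      rw [mem_smul_line, inv_smul_smul]
      exact h.2 L hL⟩
  have hpu := hpt hu'
  have hpv := hpt hv''
  rw [show γ • u' = u from gu] at hpu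
  rw [show γ • ((bil Q u' v')⁻¹ • v') = v from gv] at hpv
  have hMP' : MeetPres (MulAut.conj (QuotientGroup.mk γ : PS Q) * β) := by
    intro σ'' hσ'' L M hL hM hm
    have e : ∀ L, TSLine Q L → σ'' L = σ' L := fun L hL =>
      rootImg_inj hN h5 (hσ'' L hL).1 (hσ' L hL).1 ((hσ'' L hL).2.symm.trans (hσ' L hL).2)
    obtain ⟨hne, z, hz0, hzL, hzM⟩ := hMP σ hσ L M hL hM hm
    rw [e L hL, e M hM]
    exact ⟨fun e' => hne (Submodule.map_injective_of_injective
        (f := ((γ : OQ Q) : V ≃ₗ[F] V).toLinearMap) ((γ : OQ Q) : V ≃ₗ[F] V).injective e'),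
      γ • z, fun e' => hz0 ((smul_eq_zero_iff_eq γ).1 e'), ⟨z, hzL, rfl⟩, ⟨z, hzM, rfl⟩⟩
  obtain ⟨G, s, c, hc, hinj, hsl, hQ, hG⟩ := semilinear_of_fixed hN h7 hMP' hσ' hu hv huv hpu hpv
  refine ⟨AddMonoidHom.mk' (fun x => γ⁻¹ • G x) (fun x y => by rw [map_add, smul_add]), s, c, hc,
    fun x y e => hinj (MulAction.injective _ e), fun t x => ?_, fun x => ?_, fun k k' h => ?_⟩
  · show γ⁻¹ • G (t • x) = s t • γ⁻¹ • G x
    rw [hsl, smul_comm]
  · show Q (γ⁻¹ • G x) = _
    rw [gQuad, hQ]
  have h1 := hG k (γ * k' * γ⁻¹) fun x => by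
    have hx : k' • γ⁻¹ • G x = γ⁻¹ • G (k • x) := h x
    rw [mul_smul, mul_smul, hx, smul_inv_smul]
  simp only [MulAut.mul_apply, MulAut.conj_apply, QuotientGroup.mk_mul, QuotientGroup.mk_inv] at h1
  exact mul_left_cancel (mul_right_cancel h1)

/-- Every automorphism of the central quotient is induced by a semisimilarity. -/
theorem exists_semilinear (hD : 9 ≤ finrank F V ∨ ∀ W : Submodule F V, (∀ x ∈ W, Q x = 0) → finrank F W ≤ 3)
    (β : MulAut (PS Q)) :
    ∃ (G : V →+ V) (s : F ≃+* F) (c : F), c ≠ 0 ∧ Function.Injective G ∧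
      (∀ (t : F) (x : V), G (t • x) = s t • G x) ∧ (∀ x, Q (G x) = c * s (Q x)) ∧
      ∀ k k' : siegelGroup Q, (∀ x, k' • G x = G (k • x)) →
        β (QuotientGroup.mk k) = QuotientGroup.mk k' :=
  exists_semilinear_of_meet hN h7 (meetPres_of_dim hN h7 hD β)

end Cfsg.Agent.AutPOmega
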