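import Mathlib

/-!
A group `M` extended by two braiding involutions: recognition of the symmetric groups of degree three and four.
-/

set_option autoImplicit false

namespace Cfsg.Agent.AutPOmega

section Core

variable {G : Type*} [Group G]

/-- A core-free subgroup of index `n` in a group of order `n!` identifies the group with the symmetric group. -/
theorem exists_perm_of_core [Finite G] (H : Subgroup G) {n : ℕ} (hi : H.index = n)
    (hG : Nat.card G = n.factorial) (hc : ∀ k ∈ H, (∀ g, g * k * g⁻¹ ∈ H) → k = 1) :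
    Nonempty (G ≃* Equiv.Perm (Fin n)) := by
  let e : G ⧸ H ≃ Fin n := Finite.equivFinOfCardEq (by rw [← Subgroup.index_eq_card, hi])
  let φ : G →* Equiv.Perm (Fin n) := (Equiv.permCongrHom e).toMonoidHom.comp (MulAction.toPermHom G (G ⧸ H))
  have hinj : Function.Injective φ := by
    refine (Equiv.permCongrHom e).injective.comp ((MonoidHom.ker_eq_bot_iff _).1 ?_)
    rw [← Subgroup.normalCore_eq_ker, eq_bot_iff]
    exact fun k hk => Subgroup.mem_bot.2 (hc k (Subgroup.normalCore_le H hk) hk)
  exact ⟨MulEquiv.ofBijective φ ((Nat.bijective_iff_injective_and_card φ).2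
    ⟨hinj, by rw [hG, Nat.card_perm, Nat.card_fin]⟩)⟩

end Core

section Braid

variable {G : Type*} [Group G] {a b : G}

theorem braid_forms (ha : a * a = 1) (hb : b * b = 1) (hab : a * b * a = b * a * b) {x : G}
    (hx : x ∈ Subgroup.closure {a, b}) : x ∈ [1, a, b, a * b, b * a, a * b * a] := by
  have hai : a⁻¹ = a := inv_eq_of_mul_eq_one_right ha
  have hbi : b⁻¹ = b := inv_eq_of_mul_eq_one_right hb
  have e1 : b * (a * b) = a * b * a := by rw [hab, mul_assoc]
  have e2 : b * (a * b * a) = a * b := by rw [hab, ← mul_assoc, ← mul_assoc, hb, one_mul]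
  have step : ∀ s ∈ ({a, b} : Set G), ∀ y ∈ [1, a, b, a * b, b * a, a * b * a],
      s * y ∈ [1, a, b, a * b, b * a, a * b * a] := by
    intro s hs y hy
    simp only [List.mem_cons, List.not_mem_nil, or_false] at hy ⊢
    rcases hs with rfl | hs
    · rcases hy with rfl | rfl | rfl | rfl | rfl | rfl <;> simp [← mul_assoc, ha]
    · obtain rfl : s = b := hs
      rcases hy with rfl | rfl | rfl | rfl | rfl | rfl <;> simp [e1, e2, hb]
      simp [← mul_assoc, hb]
  induction hx using Subgroup.closure_induction_left with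
  | one => simp
  | mul_left s hs y _ ih => exact step s hs y ih
  | inv_mul_cancel s hs y _ ih =>
    refine step _ ?_ y ih
    rcases hs with rfl | hs
    · rw [hai]; exact Set.mem_insert _ _
    · obtain rfl : s = b := hs
      rw [hbi]; exact Set.mem_insert_of_mem _ rfl

variable {M A : Subgroup G} (hMA : M ≤ A) (haA : a ∈ A) (haM : a ∉ M) (hA : ∀ x ∈ A, x ∈ M ∨ x * a ∈ M)
  (ha : a * a = 1) (hb : b * b = 1) (hbA : b ∉ A) (hab : a * b * a = b * a * b)
  (hna : ∀ x ∈ M, a * x * a ∈ M) (hnb : ∀ x ∈ M, b * x * b ∈ M)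
include hMA haA haM hA ha hb hbA hab hna hnb

theorem braid_conj {s : G} (hs : s ∈ Subgroup.closure {a, b}) {x : G} (hx : x ∈ M) : s * x * s⁻¹ ∈ M := by
  induction hs using Subgroup.closure_induction_left generalizing x with
  | one => simpa using hx
  | mul_left t ht y _ ih =>
    have h := ih hx
    rw [show t * y * x * (t * y)⁻¹ = t * (y * x * y⁻¹) * t⁻¹ by group]
    rcases ht with rfl | ht
    · rw [inv_eq_of_mul_eq_one_right ha]; exact hna _ h
    · obtain rfl : t = b := ht
      rw [inv_eq_of_mul_eq_one_right hb]; exact hnb _ h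
  | inv_mul_cancel t ht y _ ih =>
    have h := ih hx
    rw [show t⁻¹ * y * x * (t⁻¹ * y)⁻¹ = t⁻¹ * (y * x * y⁻¹) * t by group]
    rcases ht with rfl | ht
    · rw [inv_eq_of_mul_eq_one_right ha]; exact hna _ h
    · obtain rfl : t = b := ht
      rw [inv_eq_of_mul_eq_one_right hb]; exact hnb _ h

theorem braid_trivial {s : G} (hs : s ∈ Subgroup.closure {a, b}) (hsM : s ∈ M) : s = 1 := by
  have h := braid_forms ha hb hab hs
  simp only [List.mem_cons, List.not_mem_nil, or_false] at h
  have hsA := hMA hsM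
  rcases h with rfl | rfl | rfl | rfl | rfl | rfl
  · rfl
  · exact absurd hsM haM
  · exact absurd hsA hbA
  · exact absurd ((A.mul_mem_cancel_left haA).1 hsA) hbA
  · exact absurd ((A.mul_mem_cancel_right haA).1 hsA) hbA
  · exact absurd ((A.mul_mem_cancel_left haA).1 ((A.mul_mem_cancel_right haA).1 hsA)) hbA

theorem braid_card : Nat.card (Subgroup.closure {a, b}) = 6 := by
  classical
  set l := [1, a, b, a * b, b * a, a * b * a]
  have hba : b ≠ a := fun e => hbA (e ▸ haA)
  have ha1 : a ≠ 1 := fun e => haM (e ▸ one_mem M)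
  have hb1 : b ≠ 1 := fun e => hbA (e ▸ one_mem A)
  have h1 : a * b ≠ 1 := fun e => hbA (by
    rw [← inv_eq_of_mul_eq_one_right e]; exact inv_mem haA)
  have h2 : b * a ≠ 1 := fun e => hbA (by
    rw [← inv_eq_of_mul_eq_one_left e]; exact inv_mem haA)
  have h3 : a * b * a ≠ b := fun e => by
    have e' : b * a * b = b := hab ▸ e
    exact h2 (mul_eq_right.1 e')
  have h4 : a * b ≠ b * a := fun e => h3 (by rw [e, mul_assoc, ha, mul_one])
  have hnd : l.Nodup := by
    have i1 : a * b * a ≠ 1 := fun e => hbA (by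
      have : b = a⁻¹ * (a * b * a) * a⁻¹ := by group
      rw [this, e, mul_one]; exact mul_mem (inv_mem haA) (inv_mem haA))
    have i2 : a * b * a ≠ a := fun e => h1 (mul_eq_right.1 e)
    have i3 : a * b * a ≠ a * b := fun e => ha1 (mul_eq_left.1 e)
    have i4 : a * b * a ≠ b * a := fun e => ha1 (mul_eq_right.1 (mul_right_cancel e))
    simp [l, ha1, hb1, ha1.symm, hb1.symm, hba.symm, h1.symm, h2.symm, h3.symm, h4, i1.symm, i2.symm, i3.symm,
      i4.symm]
  have hset : (Subgroup.closure {a, b} : Set G) = ↑l.toFinset := by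
    ext x
    simp only [SetLike.mem_coe, List.coe_toFinset, Set.mem_ofPred_eq]
    refine ⟨braid_forms ha hb hab, fun hx => ?_⟩
    have hma : a ∈ Subgroup.closure {a, b} := Subgroup.subset_closure (Set.mem_insert _ _)
    have hmb : b ∈ Subgroup.closure {a, b} := Subgroup.subset_closure (Set.mem_insert_of_mem _ rfl)
    simp only [l, List.mem_cons, List.not_mem_nil, or_false] at hx
    rcases hx with rfl | rfl | rfl | rfl | rfl | rfl
    · exact one_mem _
    · exact hma
    · exact hmb
    · exact mul_mem hma hmb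
    · exact mul_mem hmb hma
    · exact mul_mem (mul_mem hma hmb) hma
  rw [← SetLike.coe_sort_coe, hset, Nat.card_coe_set_eq, Set.ncard_coe_finset, List.toFinset_card_of_nodup hnd]
  rfl

theorem braid_mem {x : G} (hx : x ∈ Subgroup.closure ((A : Set G) ∪ {b})) :
    ∃ m ∈ M, ∃ s ∈ Subgroup.closure {a, b}, x = m * s := by
  have hma : a ∈ Subgroup.closure {a, b} := Subgroup.subset_closure (Set.mem_insert _ _)
  have hmb : b ∈ Subgroup.closure {a, b} := Subgroup.subset_closure (Set.mem_insert_of_mem _ rfl)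
  have gen : ∀ y ∈ (A : Set G) ∪ {b}, ∃ m ∈ M, ∃ s ∈ Subgroup.closure {a, b}, y = m * s := by
    rintro y (hy | rfl)
    · rcases hA y hy with h | h
      · exact ⟨y, h, 1, one_mem _, (mul_one y).symm⟩
      · exact ⟨y * a, h, a, hma, by rw [mul_assoc, ha, mul_one]⟩
    · exact ⟨1, one_mem M, _, hmb, (one_mul _).symm⟩
  have conj : ∀ {s : G}, s ∈ Subgroup.closure {a, b} → ∀ {x : G}, x ∈ M → s * x * s⁻¹ ∈ M := fun hs _ hx =>
    braid_conj hMA haA haM hA ha hb hbA hab hna hnb hs hx
  induction hx using Subgroup.closure_induction with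
  | mem y hy => exact gen y hy
  | one => exact ⟨1, one_mem M, 1, one_mem _, (one_mul _).symm⟩
  | mul y z _ _ hy hz =>
    obtain ⟨m, hm, s, hs, rfl⟩ := hy
    obtain ⟨n, hn, t, ht, rfl⟩ := hz
    exact ⟨m * (s * n * s⁻¹), mul_mem hm (conj hs hn), s * t, mul_mem hs ht, by group⟩
  | inv y _ hy =>
    obtain ⟨m, hm, s, hs, rfl⟩ := hy
    exact ⟨s⁻¹ * m⁻¹ * s, by simpa using conj (inv_mem hs) (inv_mem hm), s⁻¹, inv_mem hs, by group⟩

theorem braid_cases {x : G} (hx : x ∈ Subgroup.closure ((A : Set G) ∪ {b})) :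
    x ∈ A ∨ x * b ∈ A ∨ x * a * b ∈ A := by
  obtain ⟨m, hm, s, hs, rfl⟩ := braid_mem hMA haA haM hA ha hb hbA hab hna hnb hx
  have hmA := hMA hm
  have h := braid_forms ha hb hab hs
  simp only [List.mem_cons, List.not_mem_nil, or_false] at h
  rcases h with rfl | rfl | rfl | rfl | rfl | rfl
  · exact Or.inl (by simpa using hmA)
  · exact Or.inl (mul_mem hmA haA)
  · exact Or.inr (Or.inl (by rw [mul_assoc, hb, mul_one]; exact hmA))
  · exact Or.inr (Or.inl (by simpa [mul_assoc, hb] using mul_mem hmA haA))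
  · refine Or.inr (Or.inr ?_)
    rw [show m * (b * a) * a * b = m * (b * (a * a) * b) by simp only [mul_assoc], ha, mul_one, hb, mul_one]
    exact hmA
  · refine Or.inr (Or.inr ?_)
    rw [show m * (a * b * a) * a * b = m * (a * (b * (a * a) * b)) by simp only [mul_assoc], ha, mul_one, hb,
      mul_one]
    exact mul_mem hmA haA

omit hb hbA hab hnb in
theorem braid_card_A : Nat.card A = 2 * Nat.card M := by
  classical
  let φ : Bool × M → A := fun q => ⟨q.2.1 * (if q.1 then a else 1), mul_mem (hMA q.2.2) (by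
    split
    · exact haA
    · exact one_mem A)⟩
  have hinj : Function.Injective φ := by
    rintro ⟨e, m⟩ ⟨e', m'⟩ h
    have h' := congrArg Subtype.val h
    simp only [φ] at h'
    cases e <;> cases e' <;> simp at h'
    · rw [h']
    · exact absurd (by rw [show a = (m' : G)⁻¹ * m by rw [h']; group]; exact mul_mem (inv_mem m'.2) m.2) haM
    · exact absurd (by rw [show a = (m : G)⁻¹ * m' by rw [← h']; group]; exact mul_mem (inv_mem m.2) m'.2) haM
    · rw [h']
  have hsurj : Function.Surjective φ := fun x => by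
    rcases hA x.1 x.2 with h | h
    · exact ⟨(false, ⟨x.1, h⟩), Subtype.ext (by simp [φ])⟩
    · exact ⟨(true, ⟨x.1 * a, h⟩), Subtype.ext (by simp [φ, mul_assoc, ha])⟩
  rw [← Nat.card_congr (Equiv.ofBijective φ ⟨hinj, hsurj⟩), Nat.card_prod]
  simp

theorem braid_card_closure [Finite G] :
    Nat.card (Subgroup.closure ((A : Set G) ∪ {b})) = Nat.card M * 6 := by
  have hsub : Subgroup.closure {a, b} ≤ Subgroup.closure ((A : Set G) ∪ {b}) :=
    Subgroup.closure_mono (Set.insert_subset (Or.inl haA) (Set.singleton_subset_iff.2 (Or.inr rfl)))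
  have hM : M ≤ Subgroup.closure ((A : Set G) ∪ {b}) := fun x hx => Subgroup.subset_closure (Or.inl (hMA hx))
  let φ : M × Subgroup.closure {a, b} → Subgroup.closure ((A : Set G) ∪ {b}) :=
    fun q => ⟨q.1.1 * q.2.1, mul_mem (hM q.1.2) (hsub q.2.2)⟩
  have hinj : Function.Injective φ := by
    rintro ⟨m, s⟩ ⟨m', s'⟩ h
    have h' : m.1 * s.1 = m'.1 * s'.1 := congrArg Subtype.val h
    have e : s.1 * s'.1⁻¹ = m.1⁻¹ * m'.1 := by
      rw [eq_inv_mul_iff_mul_eq, ← mul_assoc, h', mul_inv_cancel_right]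
    have h1 := braid_trivial hMA haA haM hA ha hb hbA hab hna hnb (mul_mem s.2 (inv_mem s'.2))
      (e ▸ mul_mem (inv_mem m.2) m'.2)
    obtain rfl : s = s' := Subtype.ext (mul_inv_eq_one.1 h1)
    obtain rfl : m = m' := Subtype.ext (mul_right_cancel h')
    rfl
  have hsurj : Function.Surjective φ := fun x => by
    obtain ⟨m, hm, s, hs, e⟩ := braid_mem hMA haA haM hA ha hb hbA hab hna hnb x.2
    exact ⟨(⟨m, hm⟩, ⟨s, hs⟩), Subtype.ext e.symm⟩
  rw [← Nat.card_congr (Equiv.ofBijective φ ⟨hinj, hsurj⟩), Nat.card_prod,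
    braid_card hMA haA haM hA ha hb hbA hab hna hnb]

theorem braid_equiv_three [Finite G] (hbot : M = ⊥) :
    Nonempty (Subgroup.closure ((A : Set G) ∪ {b}) ≃* Equiv.Perm (Fin 3)) := by
  set L := Subgroup.closure ((A : Set G) ∪ {b})
  have hL : Nat.card L = 6 := by
    rw [braid_card_closure hMA haA haM hA ha hb hbA hab hna hnb, hbot, Subgroup.card_bot]
  let a' : L := ⟨a, Subgroup.subset_closure (Or.inl haA)⟩
  let b' : L := ⟨b, Subgroup.subset_closure (Or.inr rfl)⟩
  have ha' : orderOf a' = 2 := orderOf_eq_prime (Subtype.ext (by simp [a', pow_two, ha]))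
    fun e => haM (by rw [show a = 1 from congrArg Subtype.val e]; exact one_mem M)
  have hidx : (Subgroup.zpowers a').index = 3 := by
    have h := (Subgroup.zpowers a').card_mul_index
    rw [Nat.card_zpowers, ha', hL] at h
    omega
  refine exists_perm_of_core _ hidx (by rw [hL]; rfl) fun k hk hc => ?_
  have hA' : ∀ x : L, x ∈ Subgroup.zpowers a' → x.1 ∈ A := fun x hx => by
    obtain ⟨i, rfl⟩ := Subgroup.mem_zpowers_iff.1 hx
    exact zpow_mem haA i
  obtain ⟨i, rfl⟩ := Subgroup.mem_zpowers_iff.1 hk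
  rcases Int.even_or_odd i with ⟨j, rfl⟩ | ⟨j, rfl⟩
  · rw [← two_mul, zpow_mul, zpow_two, show a' * a' = 1 from Subtype.ext ha, one_zpow]
  · exfalso
    have h := hA' _ (hc b')
    rw [zpow_add_one, zpow_mul, zpow_two, show a' * a' = 1 from Subtype.ext ha, one_zpow, one_mul] at h
    have h' : b * a * b ∈ A := by
      have h2 : b * a * b⁻¹ ∈ A := h
      rwa [inv_eq_of_mul_eq_one_right hb] at h2
    rw [← hab] at h'
    exact hbA ((A.mul_mem_cancel_left haA).1 ((A.mul_mem_cancel_right haA).1 h'))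

theorem braid_equiv_four [Finite G] (hcard : Nat.card M = 4) (hne : ∃ x ∈ M, a * b * x ≠ x * (a * b)) :
    Nonempty (Subgroup.closure ((A : Set G) ∪ {b}) ≃* Equiv.Perm (Fin 4)) := by
  set L := Subgroup.closure ((A : Set G) ∪ {b})
  set S := Subgroup.closure {a, b}
  have hSL : S ≤ L :=
    Subgroup.closure_mono (Set.insert_subset (Or.inl haA) (Set.singleton_subset_iff.2 (Or.inr rfl)))
  have hL : Nat.card L = 24 := by rw [braid_card_closure hMA haA haM hA ha hb hbA hab hna hnb, hcard]
  have hS : Nat.card (S.subgroupOf L) = 6 := by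
    rw [Nat.card_congr (Subgroup.subgroupOfEquivOfLe hSL).toEquiv]
    exact braid_card hMA haA haM hA ha hb hbA hab hna hnb
  have hidx : (S.subgroupOf L).index = 4 := by
    have h := (S.subgroupOf L).card_mul_index
    rw [hS, hL] at h
    omega
  refine exists_perm_of_core _ hidx (by rw [hL]; rfl) fun k hk hc => ?_
  have hkS : k.1 ∈ S := hk
  have hcS : ∀ g ∈ L, g * k.1 * g⁻¹ ∈ S := fun g hg => hc ⟨g, hg⟩
  -- the core centralises `M` and is normal in `S`
  have hcM : ∀ t ∈ L, ∀ x ∈ M, t * k.1 * t⁻¹ * x = x * (t * k.1 * t⁻¹) := by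
    intro t ht x hx
    set u := t * k.1 * t⁻¹
    have hu : u ∈ S := hcS t ht
    have hxu : x * u * x⁻¹ ∈ S := by
      have := hcS (x * t) (mul_mem (Subgroup.subset_closure (Or.inl (hMA hx))) ht)
      rwa [show x * t * k.1 * (x * t)⁻¹ = x * u * x⁻¹ by simp only [u]; group] at this
    have hM : x * (u * x⁻¹ * u⁻¹) ∈ M :=
      mul_mem hx (braid_conj hMA haA haM hA ha hb hbA hab hna hnb hu (inv_mem hx))
    have h1 := braid_trivial hMA haA haM hA ha hb hbA hab hna hnb
      (show x * u * x⁻¹ * u⁻¹ ∈ S from mul_mem hxu (inv_mem hu)) (by simpa only [mul_assoc] using hM)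
    exact (mul_inv_eq_iff_eq_mul.1 (mul_inv_eq_one.1 h1)).symm
  obtain ⟨x, hx, hxne⟩ := hne
  refine Subtype.ext (by_contra fun hk1 => hxne ?_)
  have haL : a ∈ L := Subgroup.subset_closure (Or.inl haA)
  have hbL : b ∈ L := Subgroup.subset_closure (Or.inr rfl)
  have hkx : ∀ {u}, u * x = x * u → ∀ {w}, w * x = x * w → u * w * x = x * (u * w) := fun hu w hw => by
    rw [mul_assoc, hw, ← mul_assoc, hu, mul_assoc]
  have hself : k.1 * x = x * k.1 := by simpa using hcM 1 (one_mem L) x hx
  have hca : a * k.1 * a * x = x * (a * k.1 * a) := by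
    simpa [inv_eq_of_mul_eq_one_right ha] using hcM a haL x hx
  have hcb : b * k.1 * b * x = x * (b * k.1 * b) := by
    simpa [inv_eq_of_mul_eq_one_right hb] using hcM b hbL x hx
  -- identities of the braid group
  have i1 : a * (b * a * b) = b * a := by rw [← hab, ← mul_assoc, ← mul_assoc, ha, one_mul]
  have i2 : a * b * a * b = b * a := by rw [hab, mul_assoc (b * a), hb, mul_one]
  have i3 : b * a * (b * a) = a * b := by rw [← mul_assoc, ← hab, mul_assoc, ha, mul_one]
  have i4 : a * (a * b * a) * a = b := by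
    simp only [mul_assoc, ha, mul_one]; rw [← mul_assoc, ha, one_mul]
  have i5 : b * (a * b * a) = a * b := by rw [hab, ← mul_assoc, ← mul_assoc, hb, one_mul]
  have h := braid_forms ha hb hab hkS
  simp only [List.mem_cons, List.not_mem_nil, or_false] at h
  rcases h with h | h | h | h | h | h <;> rw [h] at hself hca hcb hk1
  · exact absurd rfl hk1
  · have h2 := hkx hself hcb
    rw [i1] at h2
    simpa only [i3] using hkx h2 h2
  · have h2 := hkx hca hself
    rw [i2] at h2
    simpa only [i3] using hkx h2 h2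
  · exact hself
  · rwa [show a * (b * a) * a = a * b by simp only [mul_assoc, ha, mul_one]] at hca
  · rw [i4] at hca
    simpa only [i5] using hkx hca hself

end Braid

end Cfsg.Agent.AutPOmega
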