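import Cfsg.Agent.Lib.AutPOmega.OutPlus
import Cfsg.Agent.Lib.AutPOmega.Eight
import Cfsg.Agent.Lib.AutPOmega.SymmetricExt

/-!
The outer automorphism group of the plus-type orthogonal groups in dimension eight.
-/

set_option autoImplicit false

namespace Cfsg.Agent.AutPOmega

open scoped Matrix MatrixGroups
open AutPO (Semi semiA fieldA mapGO fixes_plus semi_one)
open ClassicalSimple (GO simAut mult scalarGO)
open QForm (plusForm)
open Triality (ap Rel oconj oone TG omul)

universe u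

section Product

variable {G : Type*} [Group G]

/-- Two commuting, disjoint subgroups whose product is everything. -/
theorem exists_prod_equiv_of_surjective (A B : Subgroup G) (hc : ∀ a ∈ A, ∀ b ∈ B, Commute a b)
    (hd : ∀ x, x ∈ A → x ∈ B → x = 1) (hs : ∀ x, ∃ a ∈ A, ∃ b ∈ B, x = a * b) : Nonempty (G ≃* A × B) := by
  let φ : A × B →* G :=
    MonoidHom.noncommCoprod A.subtype B.subtype fun a b => hc a a.2 b b.2
  have hinj : Function.Injective φ := by
    refine (injective_iff_map_eq_one φ).2 fun x hx => ?_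
    have h : (x.1 : G) * (x.2 : G) = 1 := hx
    have e1 : (x.1 : G) = 1 :=
      hd _ x.1.2 ((eq_inv_of_mul_eq_one_left h) ▸ inv_mem x.2.2)
    rw [e1, one_mul] at h
    exact Prod.ext (Subtype.ext e1) (Subtype.ext h)
  have hsurj : Function.Surjective φ := fun x => by
    obtain ⟨a, ha, b, hb, rfl⟩ := hs x
    exact ⟨(⟨a, ha⟩, ⟨b, hb⟩), rfl⟩
  exact ⟨(MulEquiv.ofBijective φ ⟨hinj, hsurj⟩).symm⟩

/-- The splitting off of a central cyclic factor from the triality extension. -/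
theorem exists_prod_closure (A : Subgroup G) {a b Y : G} {f : ℕ} (hf : 1 ≤ f) (haA : a ∈ A) (ha : a * a = 1)
    (hb : b * b = 1) (cases : ∀ x ∈ Subgroup.closure ((A : Set G) ∪ {b}), x ∈ A ∨ x * b ∈ A ∨ x * a * b ∈ A)
    (hYA : ∀ x ∈ A, Commute x Y) (hYb : Commute b Y) (hYf : Y ^ f = 1) (hfree : ∀ n : ℕ, Y ^ n ∈ A → f ∣ n)
    (hbY : ∀ (n : ℕ), ∀ x ∈ A, b ≠ Y ^ n * x)
    (hs : ∀ g : G, ∃ x ∈ Subgroup.closure ((A : Set G) ∪ {b}), ∃ n : ℕ, g = x * Y ^ n) :
    Nonempty (G ≃* Subgroup.closure ((A : Set G) ∪ {b}) × Multiplicative (ZMod f)) := by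
  have hY : orderOf Y = f := Nat.dvd_antisymm (orderOf_dvd_of_pow_eq_one hYf)
    (hfree _ (by rw [pow_orderOf_eq_one]; exact one_mem A))
  have hYL : ∀ x ∈ Subgroup.closure ((A : Set G) ∪ {b}), Commute x Y := fun x hx =>
    (Subgroup.mem_centralizer_singleton_iff.1 ((Subgroup.closure_le (Subgroup.centralizer {Y})).2 (by
      rintro y (hy | rfl) <;> rw [SetLike.mem_coe, Subgroup.mem_centralizer_singleton_iff]
      · exact (hYA y hy).eq
      · exact hYb.eq) hx) )
  obtain ⟨e⟩ := exists_prod_equiv_of_surjective (Subgroup.closure ((A : Set G) ∪ {b})) (Subgroup.zpowers Y)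
    (fun x hx y hy => by
      obtain ⟨i, rfl⟩ := Subgroup.mem_zpowers_iff.1 hy
      exact (hYL x hx).zpow_right i)
    (fun x hx hy => by
      obtain ⟨n, rfl⟩ := (IsOfFinOrder.mem_powers_iff_mem_zpowers
        (orderOf_pos_iff.1 (by rw [hY]; omega))).2 hy
      obtain ⟨n', hn'⟩ : ∃ n', (Y ^ n)⁻¹ = Y ^ n' := ⟨(f - 1) * n, by
        refine inv_eq_of_mul_eq_one_right ?_
        rw [← pow_add, show n + (f - 1) * n = f * n by
          obtain ⟨f, rfl⟩ := Nat.exists_eq_add_of_le' hf; rw [Nat.add_sub_cancel]; ring, pow_mul, hYf, one_pow]⟩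
      rcases cases _ hx with h | h | h
      · obtain ⟨i, hi⟩ := hfree n h
        show Y ^ n = 1
        rw [hi, pow_mul, hYf, one_pow]
      · refine absurd ?_ (hbY n' _ h)
        show b = _
        rw [← hn', inv_mul_cancel_left]
      · refine absurd ?_ (hbY n' _ (mul_mem haA h))
        show b = _
        rw [← hn']
        show b = (Y ^ n)⁻¹ * (a * (Y ^ n * a * b))
        rw [mul_assoc (Y ^ n), ← mul_assoc a (Y ^ n), ((hYA a haA).pow_right n).eq, mul_assoc (Y ^ n),
          ← mul_assoc a a, ha, one_mul, inv_mul_cancel_left])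
    (fun g => by
      obtain ⟨x, hx, n, e⟩ := hs g
      exact ⟨x, hx, _, Subgroup.pow_mem _ (Subgroup.mem_zpowers _) n, e⟩)
  let e2 : Subgroup.zpowers Y ≃* Multiplicative (ZMod f) := mulEquivOfCyclicCardEq (by
    rw [Nat.card_zpowers, hY, Nat.card_congr Multiplicative.toAdd, Nat.card_zmod])
  exact ⟨e.trans (MulEquiv.prodCongr (MulEquiv.refl _) e2)⟩

end Product

variable {F : Type u} [Field F] [Fintype F]

local notation "I8" => (Fin 4 ⊕ Fin 4)
local notation "V8" => (Fin 4 ⊕ Fin 4 → F)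
local notation "N8" => plusForm F 4

theorem three_le_four : 3 ≤ 4 := by norm_num

/-- Classes of related similarities. -/
noncomputable def tgCls : Subgroup (Out (POmega F ⇑(N8 : QuadraticForm F V8))) := (TG (F := F)).map (clsGO N8)

theorem tgCls_le : tgCls (F := F) ≤ (clsGO N8).range := Subgroup.map_le_range _ _

theorem eq_simAut_of_mem_range {β : MulAut (POmega F ⇑(N8 : QuadraticForm F V8))}
    (h : (QuotientGroup.mk β : Out (POmega F ⇑(N8 : QuadraticForm F V8))) ∈ (clsGO N8).range) :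
    ∃ k, β = simAut N8 k := by
  obtain ⟨k, hk⟩ := h
  obtain ⟨ω, -, hω⟩ : (simAut N8 k)⁻¹ * β ∈ (ClassicalSimple.omegaSub N8).map (simAut N8) := by
    rw [← ClassicalSimple.inn_eq]; exact QuotientGroup.eq.1 hk
  exact ⟨k * ω, by rw [map_mul, hω, mul_inv_cancel_left]⟩

theorem TG_first {g g1 g2 : GO (N8 : QuadraticForm F V8)} (r : Rel g g1 g2) : g1 ∈ TG (F := F) := by
  obtain ⟨C, hC⟩ := Triality.exists_conjGO (F := F)
  obtain ⟨c, s⟩ := r.swap hC
  have h : scalarGO N8 c * g1 ∈ TG (F := F) := ⟨_, _, s⟩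
  simpa using mul_mem (inv_mem (Triality.scalar_mem_TG c)) h

set_option maxHeartbeats 1600000 in
/-- A similarity or its product with the reflection lies in a triple, up to inner automorphisms. -/
theorem mem_or_mul_mem {C : GO (N8 : QuadraticForm F V8)} (hC : ∀ x, ap C x = oconj x)
    {x : Out (POmega F ⇑(N8 : QuadraticForm F V8))} (hx : x ∈ (clsGO N8).range) :
    x ∈ tgCls ∨ x * clsGO N8 C ∈ tgCls := by
  obtain ⟨k, rfl⟩ := hx
  obtain ⟨c, hc⟩ := k.2
  set a : V8 := Pi.single (Sum.inl 0) (c : F) + Pi.single (Sum.inr 0) 1 with ha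
  have hNa : N8 a = c := by simp [ha, Triality.N8_apply]
  obtain ⟨L, P, M, hL, -, r⟩ := Triality.rel_lmul (a := a) (hNa ▸ c.ne_zero)
  have hLq : ∀ v, N8 (ap L v) = c * N8 v := fun v => by rw [hL, Triality.N8_omul, hNa]
  have hh : (L⁻¹ * k).1 ∈ isometryGroup F ⇑(N8 : QuadraticForm F V8) := by
    rw [ClassicalSimple.mem_isometry_iff]
    intro v
    have h1 := hLq (ap (L⁻¹ * k) v)
    rw [← Triality.ap_mul, mul_inv_cancel_left] at h1
    exact (mul_left_cancel₀ c.ne_zero ((hc v).symm.trans h1)).symm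
  have hLT : L ∈ TG (F := F) := ⟨_, _, r⟩
  have hr : clsGO N8 (AutPO.reflG (oone : V8) Triality.N8_oone_ne) = clsGO N8 C := by
    rw [show AutPO.reflG (oone : V8) Triality.N8_oone_ne = scalarGO N8 (-1) * C from Triality.ap_ext fun x => by
      rw [Triality.ap_reflG_oone, Triality.ap_mul, Triality.ap_scalar, hC, Units.val_neg, Units.val_one,
        neg_one_smul], map_mul, clsGO_scalar Triality.nondeg8 Triality.five8, one_mul]
  rcases Triality.isometry_mem_or ⟨_, hh⟩ with h | h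
  · have h' : L⁻¹ * k ∈ TG (F := F) := h
    exact Or.inl ⟨k, by simpa using mul_mem hLT h', rfl⟩
  · have h' : L⁻¹ * k * AutPO.reflG (oone : V8) Triality.N8_oone_ne ∈ TG (F := F) := h
    refine Or.inr ⟨_, mul_mem hLT h', ?_⟩
    rw [← hr, ← map_mul, ← mul_assoc, mul_inv_cancel_left]

section Frobenius

variable (p : ℕ) [Fact p.Prime] [CharP F p]

theorem frobCls_pow_mk {m : ℕ} (k : ℕ) :
    frobCls (F := F) (m := m) p ^ k = QuotientGroup.mk (fieldA (fixes_plus (m := m) (frobeniusEquiv F p ^ k))) := by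
  induction k with
  | zero =>
    rw [pow_zero]
    have h : fieldA (fixes_plus (m := m) (frobeniusEquiv F p ^ 0)) ^ 1 = 1 :=
      AutPO.fieldA_pow_eq_one _ (by simp)
    rw [pow_one] at h
    rw [h, QuotientGroup.mk_one]
  | succ k ih =>
    rw [pow_succ', ih, frobCls, ← QuotientGroup.mk_mul,
      fieldA_mul (fixes_plus (frobeniusEquiv F p)) (fixes_plus (frobeniusEquiv F p ^ k)) (fixes_plus _)]
    refine congrArg QuotientGroup.mk ?_
    exact semiA_eq_of _ _ rfl (pow_succ' _ k).symm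

variable {φ : MulAut (POmega F ⇑(plusForm F 4))}
  (hr : ∀ g g1 g2 : GO (plusForm F 4), Rel g g1 g2 → φ * simAut (plusForm F 4) g = simAut (plusForm F 4) g1 * φ)
include hr

theorem triality_ne_frob (n : ℕ) {x : Out (POmega F ⇑(N8 : QuadraticForm F V8))} (hx : x ∈ (clsGO N8).range) :
    (QuotientGroup.mk φ : Out (POmega F ⇑(N8 : QuadraticForm F V8))) ≠ frobCls (m := 4) p ^ n * x := by
  intro e
  set hσ := fixes_plus (F := F) (m := 4) (frobeniusEquiv F p ^ n)
  rw [frobCls_pow_mk] at e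
  have h : (QuotientGroup.mk ((fieldA hσ)⁻¹ * φ) : Out (POmega F ⇑(N8 : QuadraticForm F V8))) ∈
      (clsGO N8).range := by
    rw [QuotientGroup.mk_mul, QuotientGroup.mk_inv, e, inv_mul_cancel_left]; exact hx
  obtain ⟨k, hk⟩ := eq_simAut_of_mem_range h
  rw [inv_mul_eq_iff_eq_mul, simAut_eq_semiA, fieldA, semiA_mul] at hk
  exact triality_ne_semi hr _ hk

theorem triality_notMem_range :
    (QuotientGroup.mk φ : Out (POmega F ⇑(N8 : QuadraticForm F V8))) ∉ (clsGO N8).range := fun h => by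
  obtain ⟨k, hk⟩ := eq_simAut_of_mem_range h
  exact triality_ne_semi hr (semi_GO k) (hk.trans (simAut_eq_semiA k))

omit hr in
theorem frob_pow_mem_range {n : ℕ} (h : frobCls (F := F) (m := 4) p ^ n ∈ (clsGO N8).range) :
    frobeniusEquiv F p ^ n = 1 := by
  rw [frobCls_pow_mk] at h
  obtain ⟨k, hk⟩ := eq_simAut_of_mem_range h
  rw [simAut_eq_semiA, fieldA] at hk
  exact sigma_unique nondeg_bil8 Triality.five8 (probe_plus three_le_four) _ _ hk

set_option maxHeartbeats 1600000 in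
theorem conj_notMem {C : GO (N8 : QuadraticForm F V8)} (hC : ∀ x, ap C x = oconj x) (hφ : φ * φ = 1) :
    clsGO N8 C ∉ tgCls (F := F) := by
  rintro ⟨g, hg, e⟩
  obtain ⟨ω, hω, hωe⟩ := (clsGO_eq_one_iff N8).1
    (show clsGO N8 (g⁻¹ * C) = 1 by rw [map_mul, map_inv, e, inv_mul_cancel])
  obtain ⟨g1, g2, r⟩ := mul_mem hg (Triality.omegaSub_le_TG hω)
  have hs : simAut N8 (g * ω) = simAut N8 C := by rw [map_mul, hωe, ← map_mul, mul_inv_cancel_left]
  have e1 := hr _ _ _ r
  rw [hs] at e1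
  have e2 : simAut N8 g1 = simAut N8 C * φ * simAut N8 C := by
    rw [← Triality.triality_braid hφ hr hC, e1, mul_assoc, hφ, mul_one]
  refine triality_notMem_range hr ⟨C * g1 * C, ?_⟩
  show QuotientGroup.mk (simAut N8 (C * g1 * C)) = _
  have hcc : simAut N8 C * simAut N8 C = 1 := by rw [← map_mul, Triality.conj_mul_self hC, map_one]
  rw [map_mul, map_mul, e2, ← mul_assoc, ← mul_assoc, hcc, one_mul, mul_assoc, hcc, mul_one]

end Frobenius

variable (p : ℕ) [Fact p.Prime] [CharP F p]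

set_option maxHeartbeats 1600000 in
/-- A semisimilarity class is a similarity class times a power of the Frobenius class. -/
theorem eight_semi {f : ℕ} (hf : 1 ≤ f) (hF : Fintype.card F = p ^ f) (g : GL I8 F) (σ : F ≃+* F)
    (hp : Semi (N8 : QuadraticForm F V8) g σ) :
    ∃ x ∈ (clsGO (N8 : QuadraticForm F V8)).range, ∃ n : ℕ,
      (QuotientGroup.mk (semiA hp) : Out (POmega F ⇑(N8 : QuadraticForm F V8))) = x * frobCls (m := 4) p ^ n := by
  have hord : orderOf (frobeniusEquiv F p) = f := orderOf_frob p hf hF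
  have : Finite (F ≃+* F) := Nat.finite_of_card_ne_zero (by rw [card_gal p hf hF]; omega)
  have htop : Subgroup.zpowers (frobeniusEquiv F p) = ⊤ :=
    Subgroup.eq_top_of_card_eq _ (by rw [Nat.card_zpowers, hord, card_gal p hf hF])
  obtain ⟨n, rfl⟩ : ∃ n : ℕ, frobeniusEquiv F p ^ n = σ :=
    mem_powers_iff_mem_zpowers.2 (htop ▸ Subgroup.mem_top σ)
  obtain ⟨g', hg'⟩ := semi_eq_field (fixes_plus _) hp
  refine ⟨clsGO N8 g', ⟨g', rfl⟩, n, ?_⟩
  rw [hg', QuotientGroup.mk_mul, frobCls_pow_mk]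
  rfl

set_option maxHeartbeats 3200000 in
/-- Every class lies in the extended similarity part times the field part. -/
theorem eight_mem {f : ℕ} (hf : 1 ≤ f) (hF : Fintype.card F = p ^ f)
    {φ : MulAut (POmega F ⇑(N8 : QuadraticForm F V8))} (hφ : φ * φ = 1)
    (hr : ∀ g g1 g2 : GO (N8 : QuadraticForm F V8), Rel g g1 g2 → φ * simAut N8 g = simAut N8 g1 * φ)
    (x : Out (POmega F ⇑(N8 : QuadraticForm F V8))) :
    ∃ y ∈ Subgroup.closure (((clsGO (N8 : QuadraticForm F V8)).range :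
      Set (Out (POmega F ⇑(N8 : QuadraticForm F V8)))) ∪ {(QuotientGroup.mk φ)}),
      ∃ n : ℕ, x = y * frobCls (m := 4) p ^ n := by
  obtain ⟨β, rfl⟩ := QuotientGroup.mk_surjective x
  rcases exists_decomp hφ hr β with ⟨g, σ, hp, rfl⟩ | ⟨t, g, σ, hp, rfl⟩
  · obtain ⟨y, hy, n, e⟩ := eight_semi p hf hF g σ hp
    exact ⟨y, Subgroup.subset_closure (Set.mem_union_left _ hy), n, e⟩
  · obtain ⟨y, hy, n, e⟩ := eight_semi p hf hF g σ hp
    have ht : clsI N8 t ∈ (clsGO (N8 : QuadraticForm F V8)).range := MonoidHom.mem_range.2 ⟨iso2GO N8 t, rfl⟩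
    refine ⟨_ * _ * y, mul_mem (mul_mem (Subgroup.subset_closure (Set.mem_union_left _ ht))
      (Subgroup.subset_closure (Set.mem_union_right _ (Set.mem_singleton _))))
      (Subgroup.subset_closure (Set.mem_union_left _ hy)), n, ?_⟩
    rw [mul_assoc (clsI N8 t * _) y, ← e, QuotientGroup.mk_mul, QuotientGroup.mk_mul]
    rfl

set_option maxHeartbeats 1600000 in
/-- The structure of `Out`, with the finite factor left to be identified. -/
theorem out_eight {f : ℕ} (hf : 1 ≤ f) (hF : Fintype.card F = p ^ f) :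
    ∃ (M A : Subgroup (Out (POmega F ⇑(N8 : QuadraticForm F V8)))) (a b : Out (POmega F ⇑(N8 : QuadraticForm F V8))),
      A = (clsGO N8).range ∧ M = tgCls ∧ M ≤ A ∧ a ∈ A ∧ a ∉ M ∧ (∀ x ∈ A, x ∈ M ∨ x * a ∈ M) ∧
      a * a = 1 ∧ b * b = 1 ∧ b ∉ A ∧ a * b * a = b * a * b ∧ (∀ x ∈ M, a * x * a ∈ M) ∧
      (∀ x ∈ M, b * x * b ∈ M) ∧
      (∀ g g1 g2 : GO (N8 : QuadraticForm F V8), Rel g g1 g2 → b * clsGO N8 g = clsGO N8 g1 * b) ∧
      (∃ C : GO (N8 : QuadraticForm F V8), (∀ x, ap C x = oconj x) ∧ a = clsGO N8 C) ∧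
      Nonempty (Out (POmega F ⇑(N8 : QuadraticForm F V8)) ≃*
        Subgroup.closure ((A : Set (Out (POmega F ⇑(N8 : QuadraticForm F V8)))) ∪ {b}) ×
          Multiplicative (ZMod f)) := by
  classical
  obtain ⟨φ, hφ, hr⟩ := Triality.exists_triality (F := F)
  obtain ⟨C, hC⟩ := Triality.exists_conjGO (F := F)
  set A := (clsGO (N8 : QuadraticForm F V8)).range
  set M := tgCls (F := F)
  set a := clsGO N8 C
  set b : Out (POmega F ⇑(N8 : QuadraticForm F V8)) := QuotientGroup.mk φ with hbdef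
  have hMA : M ≤ A := tgCls_le
  have haA : a ∈ A := ⟨C, rfl⟩
  have haM : a ∉ M := conj_notMem hr hC hφ
  have hA : ∀ x ∈ A, x ∈ M ∨ x * a ∈ M := fun x hx => mem_or_mul_mem hC hx
  have ha : a * a = 1 := by rw [← map_mul, Triality.conj_mul_self hC, map_one]
  have hb : b * b = 1 := by rw [← QuotientGroup.mk_mul, hφ, QuotientGroup.mk_one]
  have hbA : b ∉ A := triality_notMem_range hr
  have hab : a * b * a = b * a * b :=
    (congrArg (QuotientGroup.mk' _) (Triality.triality_braid hφ hr hC)).symm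
  have hb1 : ∀ g g1 g2 : GO (N8 : QuadraticForm F V8), Rel g g1 g2 → b * clsGO N8 g = clsGO N8 g1 * b :=
    fun g g1 g2 r => congrArg (QuotientGroup.mk' _) (hr g g1 g2 r)
  have hna : ∀ x ∈ M, a * x * a ∈ M := by
    rintro _ ⟨g, ⟨g1, g2, r⟩, rfl⟩
    exact ⟨C * g * C, ⟨_, _, r.conj hC⟩, by rw [map_mul, map_mul]⟩
  have hnb : ∀ x ∈ M, b * x * b ∈ M := by
    rintro _ ⟨g, ⟨g1, g2, r⟩, rfl⟩
    exact ⟨g1, TG_first r, by rw [hb1 g g1 g2 r, mul_assoc, hb, mul_one]⟩
  refine ⟨M, A, a, b, rfl, rfl, hMA, haA, haM, hA, ha, hb, hbA, hab, hna, hnb, hb1, ⟨C, hC, rfl⟩, ?_⟩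
  set Y := frobCls (F := F) (m := 4) p
  have hord : orderOf (frobeniusEquiv F p) = f := orderOf_frob p hf hF
  refine exists_prod_closure A hf haA ha hb
    (fun x hx => braid_cases hMA haA haM hA ha hb hbA hab hna hnb hx) (fun x hx => ?_)
    ((Triality.triality_field hφ hr (frobeniusEquiv F p)).map (QuotientGroup.mk' _)) (frobCls_pow p hf hF)
    (fun n hn => hord ▸ orderOf_dvd_of_pow_eq_one (frob_pow_mem_range p hn))
    (fun n x hx => triality_ne_frob p hr n hx) fun g => ?_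
  · obtain ⟨k, rfl⟩ := hx
    exact frobCls_clsGO_even three_le_four p ⟨2, rfl⟩ k
  exact eight_mem p hf hF hφ hr g

theorem out_eight_two [CharP F 2] {f : ℕ} (hf : 1 ≤ f) (hF : Fintype.card F = 2 ^ f) :
    Nonempty (Out (POmega F ⇑(N8 : QuadraticForm F V8)) ≃* Equiv.Perm (Fin 3) × Multiplicative (ZMod f)) := by
  obtain ⟨M, A, a, b, hAe, hMe, hMA, haA, haM, hA, ha, hb, hbA, hab, hna, hnb, -, -, ⟨e⟩⟩ :=
    out_eight (F := F) 2 hf hF
  obtain ⟨-, hcases⟩ := range_plus_two (F := F) (m := 4) three_le_four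
  have har : a = rcls three_le_four :=
    (hcases a (hAe ▸ haA)).resolve_left fun h => haM (h ▸ one_mem M)
  have hbot : M = ⊥ := by
    rw [eq_bot_iff]
    intro x hx
    rcases hcases x (hAe ▸ hMA hx) with h | h
    · exact Subgroup.mem_bot.2 h
    · exact absurd (har.trans h.symm ▸ hx) haM
  have : Finite (Out (POmega F ⇑(N8 : QuadraticForm F V8))) := Quotient.finite _
  obtain ⟨e'⟩ := braid_equiv_three hMA haA haM hA ha hb hbA hab hna hnb hbot
  exact ⟨e.trans (MulEquiv.prodCongr e' (MulEquiv.refl _))⟩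

set_option maxHeartbeats 1600000 in
theorem out_eight_odd (hodd : Odd (Fintype.card F)) {f : ℕ} (hf : 1 ≤ f) (hF : Fintype.card F = p ^ f) :
    Nonempty (Out (POmega F ⇑(N8 : QuadraticForm F V8)) ≃* Equiv.Perm (Fin 4) × Multiplicative (ZMod f)) := by
  classical
  obtain ⟨M, A, a, b, hAe, hMe, hMA, haA, haM, hA, ha, hb, hbA, hab, hna, hnb, hb1, ⟨C, hC, haC⟩, ⟨e⟩⟩ :=
    out_eight (F := F) p hf hF
  obtain ⟨eA⟩ := range_plus_dihedral (F := F) (m := 4) three_le_four hodd fun h => by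
    obtain ⟨i, hi⟩ := h.1; omega
  have hcA := braid_card_A hMA haA haM hA ha hna
  rw [hAe, Nat.card_congr eA.toEquiv, DihedralGroup.nat_card] at hcA
  have hM4 : Nat.card M = 4 := by omega
  have E := ClassicalSimple.evenForm_plus (F := F) (m := 4) hodd three_le_four
  obtain ⟨ν, hν0, hν⟩ := ClassicalSimple.exists_nonsquare' E
  set v : V8 := Pi.single (Sum.inl 0) ν + Pi.single (Sum.inr 0) 1 with hv
  have hNv : N8 v = ν := by simp [hv, Triality.N8_apply]
  obtain ⟨L, P, R, hL, hP, r⟩ := Triality.rel_lmul (a := v) (hNv ▸ hν0)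
  have hne : ∃ x ∈ M, a * b * x ≠ x * (a * b) := by
    refine ⟨clsGO N8 L, hMe ▸ ⟨L, ⟨_, _, r⟩, rfl⟩, fun h => ?_⟩
    rw [mul_assoc a, hb1 _ _ _ r, haC] at h
    have h' : clsGO N8 (C * P * C) = clsGO N8 L := by
      refine mul_right_cancel (b := clsGO N8 C * b) (Eq.trans ?_ h)
      rw [map_mul, map_mul, ← haC]
      simp only [← mul_assoc, mul_assoc (a * clsGO N8 P) a a, ha, mul_one]
    obtain ⟨ω, hω, hωe⟩ := (clsGO_eq_one_iff N8).1
      (show clsGO N8 (L⁻¹ * (C * P * C)) = 1 by rw [map_mul, map_inv, h', inv_mul_cancel])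
    have hsq := ((ClassicalSimple.mem_pso_iff E _).1 (ClassicalSimple.inn_le_pso E
      (show simAut N8 (L⁻¹ * (C * P * C)) ∈ Inn (POmega F ⇑(N8 : QuadraticForm F V8)) by
        rw [ClassicalSimple.inn_eq]; exact ⟨ω, hω, hωe⟩))).1
    refine hν ?_
    have hmC : mult C = 1 := Units.ext (ClassicalSimple.mult_eq E C 1 fun x => by
      show N8 (ap C x) = _
      rw [hC, Triality.N8_oconj, one_mul])
    have hmL : (mult L : F) = ν := ClassicalSimple.mult_eq E L ν fun x => by
      show N8 (ap L x) = _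
      rw [hL, Triality.N8_omul, hNv]
    have hmP : (mult P : F) = ν * ν := ClassicalSimple.mult_eq E P _ fun x => by
      show N8 (ap P x) = _
      rw [hP, Triality.N8_omul, Triality.N8_omul, hNv]; ring
    rw [show mult (L⁻¹ * (C * P * C)) = ClassicalSimple.multHom E _ from rfl, map_mul, map_inv, map_mul,
      map_mul] at hsq
    have e' : ClassicalSimple.multHom E C = 1 := hmC
    rw [e', one_mul, mul_one, Units.val_mul, Units.val_inv_eq_inv_val,
      show (ClassicalSimple.multHom E L : F) = ν from hmL, show (ClassicalSimple.multHom E P : F) = ν * ν from hmP,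
      inv_mul_cancel_left₀ hν0] at hsq
    exact hsq
  have : Finite (Out (POmega F ⇑(N8 : QuadraticForm F V8))) := Quotient.finite _
  obtain ⟨e'⟩ := braid_equiv_four hMA haA haM hA ha hb hbA hab hna hnb hM4 hne
  exact ⟨e.trans (MulEquiv.prodCongr e' (MulEquiv.refl _))⟩

end Cfsg.Agent.AutPOmega
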