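import Cfsg.Agent.Lib.AutPOmega.OutMinus

/-!
The outer automorphism group of the minus-type orthogonal groups: general facts in even dimension and the two
characteristics.
-/

set_option autoImplicit false

namespace Cfsg.Agent.AutPOmega

open scoped Matrix MatrixGroups
open AutPO (Semi semiA)
open ClassicalSimple (GO simAut bil EvenForm NegOneOmega pgoClass mult dsign reflGO pgoAut_eq psoAut_eq
  inn_eq soSub mem_pso_iff pgoClass_eq_one isometry_le_GO)
open QForm (minusForm)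

universe u

section Groups

variable {G K : Type*} [Group G] [Group K] [Finite G]

omit [Finite G] in
theorem surjective_of_orderOf (π : G →* K) [Finite K] {y : G} (h : orderOf (π y) = Nat.card K) :
    Function.Surjective π := by
  intro x
  have htop : Subgroup.zpowers (π y) = ⊤ := Subgroup.eq_top_of_card_eq _ (by rw [Nat.card_zpowers, h])
  obtain ⟨j, hj⟩ : x ∈ Subgroup.zpowers (π y) := htop ▸ Subgroup.mem_top x
  exact ⟨y ^ j, by rw [map_zpow]; exact hj⟩

omit [Finite G] in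
theorem orderOf_lift (π : G →* K) {y r : G} {n : ℕ} (hn : 0 < n) (hπ : orderOf (π y) = n)
    (hy : y ^ n = r) (hr : r ≠ 1) (hr2 : r * r = 1) : orderOf y = 2 * n := by
  have h1 : orderOf y ∣ 2 * n := orderOf_dvd_of_pow_eq_one (by rw [mul_comm, pow_mul, hy, pow_two, hr2])
  have h2 : n ∣ orderOf y := hπ ▸ orderOf_map_dvd π y
  obtain ⟨c, hc⟩ := h2
  rw [hc, mul_comm 2 n, Nat.mul_dvd_mul_iff_left hn] at h1
  rcases (Nat.dvd_prime Nat.prime_two).1 h1 with rfl | rfl
  · exact absurd (by rw [← hy, ← orderOf_dvd_iff_pow_eq_one, hc, mul_one]) hr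
  · rw [hc, mul_comm]

end Groups

variable {ι : Type} [Fintype ι] [DecidableEq ι] {F : Type u} [Field F] [Fintype F]
variable {Q : QuadraticForm F (ι → F)}

omit [Fintype F] in
/-- The similarity part of `Out` read on the automorphism group. -/
theorem ker_equiv [Finite F] {V : Type*} [Group V] (π : Out (POmega F ⇑Q) →* (F ≃+* F))
    (hker : π.ker = (pgoAut F ⇑Q).map (QuotientGroup.mk' (Inn (POmega F ⇑Q))))
    (φ : pgoAut F ⇑Q →* V) (hφ : Function.Surjective φ)
    (hφk : φ.ker = (Inn (POmega F ⇑Q)).subgroupOf (pgoAut F ⇑Q)) : Nonempty (π.ker ≃* V) := by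
  let ψ : pgoAut F ⇑Q →* π.ker :=
    ((QuotientGroup.mk' (Inn (POmega F ⇑Q))).comp (pgoAut F ⇑Q).subtype).codRestrict π.ker
      fun x => hker ▸ Subgroup.mem_map_of_mem _ x.2
  have hψ : Function.Surjective ψ := by
    rintro ⟨x, hx⟩
    rw [hker] at hx
    obtain ⟨β, hβ, rfl⟩ := hx
    exact ⟨⟨β, hβ⟩, rfl⟩
  have hψk : ψ.ker = φ.ker := by
    rw [hφk]
    ext x
    rw [MonoidHom.mem_ker, Subgroup.mem_subgroupOf, Subtype.ext_iff]
    exact QuotientGroup.eq_one_iff _
  exact ⟨((QuotientGroup.quotientKerEquivOfSurjective ψ hψ).symm.trans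
    (QuotientGroup.quotientMulEquivOfEq hψk)).trans (QuotientGroup.quotientKerEquivOfSurjective φ hφ)⟩

section Odd

variable [DecidableEq F] {k : ℕ} (E : EvenForm Q k)

omit [DecidableEq F] in
/-- Semisimilarities fix the classes of similarities. -/
theorem pgoClass_conj {g : GL ι F} {σ : F ≃+* F} (hp : Semi Q g σ) (h : GO Q) :
    pgoClass E h = 1 → pgoClass E ⟨_, AutPO.semi_mul_gmap hp h⟩ = 1 := by
  simp only [pgoClass_eq_one E]
  rintro ⟨⟨r, hr⟩, hd⟩
  set h' : GO Q := ⟨_, AutPO.semi_mul_gmap hp h⟩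
  obtain ⟨c, hc⟩ := hp
  have hm : (mult h' : F) = σ (mult h : F) := by
    refine ClassicalSimple.mult_eq E h' _ fun v => ?_
    obtain ⟨w, hw⟩ : ∃ w, g.val *ᵥ (fun i => σ (w i)) = v :=
      ⟨fun i => σ.symm (((g⁻¹).val *ᵥ v) i), by
        simp only [RingEquiv.apply_symm_apply]
        rw [Matrix.mulVec_mulVec, ← Units.val_mul, mul_inv_cancel, Units.val_one, Matrix.one_mulVec]⟩
    subst hw
    show Q ((g * AutPO.gmap σ h.1 * g⁻¹).val *ᵥ _) = _
    rw [Units.val_mul, ← Matrix.mulVec_mulVec, Matrix.mulVec_mulVec (M := (g⁻¹).val), ← Units.val_mul,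
      inv_mul_cancel, Units.val_one, Matrix.one_mulVec, Units.val_mul, ← Matrix.mulVec_mulVec,
      gmap_mulVec', hc, hc, ClassicalSimple.mult_spec, map_mul]
    ring
  refine ⟨⟨σ r, by rw [hm, hr, map_mul]⟩, ?_⟩
  have hdet : h'.1.val.det = σ h.1.val.det := by
    show (g * AutPO.gmap σ h.1 * g⁻¹).val.det = _
    rw [Units.val_mul, Units.val_mul, Matrix.det_mul, Matrix.det_mul, AutPO.gmap_val,
      mul_right_comm, ← Matrix.det_mul, ← Units.val_mul, mul_inv_cancel, Units.val_one, Matrix.det_one,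
      one_mul]
    exact (RingHom.map_det (σ : F →+* F) _).symm
  unfold dsign at hd ⊢
  rw [Units.val_pow_eq_pow_val, Units.val_inv_eq_inv_val] at hd ⊢
  rw [hdet, hm, ← map_inv₀, ← map_pow, ← map_mul, hd, map_one]

include E in
theorem pgoClass_conj_eq {g : GL ι F} {σ : F ≃+* F} (hp : Semi Q g σ) (h : GO Q) :
    semiA hp * simAut Q h * (semiA hp)⁻¹ * (simAut Q h)⁻¹ ∈ psoAut F ⇑Q := by
  rw [AutPO.semiA_mul_simAut hp h, mul_inv_cancel_right, ← map_inv, ← map_mul, mem_pso_iff E,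
    ← pgoClass_eq_one E, map_mul, map_inv, mul_inv_eq_one]
  set h' : GO Q := ⟨_, AutPO.semi_mul_gmap hp h⟩
  have z2 : ∀ x y : Multiplicative (ZMod 2), (x = 1 ↔ y = 1) → x = y := by decide
  obtain ⟨c, hc⟩ := hp
  have hm : (mult h' : F) = σ (mult h : F) := by
    refine ClassicalSimple.mult_eq E h' _ fun v => ?_
    obtain ⟨w, hw⟩ : ∃ w, g.val *ᵥ (fun i => σ (w i)) = v :=
      ⟨fun i => σ.symm (((g⁻¹).val *ᵥ v) i), by
        simp only [RingEquiv.apply_symm_apply]
        rw [Matrix.mulVec_mulVec, ← Units.val_mul, mul_inv_cancel, Units.val_one, Matrix.one_mulVec]⟩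
    subst hw
    show Q ((g * AutPO.gmap σ h.1 * g⁻¹).val *ᵥ _) = _
    rw [Units.val_mul, ← Matrix.mulVec_mulVec, Matrix.mulVec_mulVec (M := (g⁻¹).val), ← Units.val_mul,
      inv_mul_cancel, Units.val_one, Matrix.one_mulVec, Units.val_mul, ← Matrix.mulVec_mulVec,
      gmap_mulVec', hc, hc, ClassicalSimple.mult_spec, map_mul]
    ring
  have hdet : h'.1.val.det = σ h.1.val.det := by
    show (g * AutPO.gmap σ h.1 * g⁻¹).val.det = _
    rw [Units.val_mul, Units.val_mul, Matrix.det_mul, Matrix.det_mul, AutPO.gmap_val,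
      mul_right_comm, ← Matrix.det_mul, ← Units.val_mul, mul_inv_cancel, Units.val_one, Matrix.det_one,
      one_mul]
    exact (RingHom.map_det (σ : F →+* F) _).symm
  have hds : dsign k h' = σ (dsign k h) := by
    unfold dsign
    rw [Units.val_pow_eq_pow_val, Units.val_inv_eq_inv_val, Units.val_pow_eq_pow_val,
      Units.val_inv_eq_inv_val, hdet, hm, map_mul, map_pow, map_inv₀]
  have e1 : ClassicalSimple.multClass E h' = ClassicalSimple.multClass E h := z2 _ _ (by
    rw [ClassicalSimple.multClass_eq_one, ClassicalSimple.multClass_eq_one, hm]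
    exact ⟨fun ⟨r, hr⟩ => ⟨σ.symm r, by rw [← map_mul, ← hr, RingEquiv.symm_apply_apply]⟩,
      fun ⟨r, hr⟩ => ⟨σ r, by rw [hr, map_mul]⟩⟩)
  have e2 : ClassicalSimple.signClass E h' = ClassicalSimple.signClass E h := z2 _ _ (by
    rw [ClassicalSimple.signClass_eq_one, ClassicalSimple.signClass_eq_one, hds]
    exact map_eq_one_iff σ σ.injective)
  rw [pgoClass, MonoidHom.comp_apply, MonoidHom.comp_apply, MonoidHom.prod_apply, MonoidHom.prod_apply, e1, e2]

variable (π : Out (POmega F ⇑Q) →* (F ≃+* F))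
  (hker : π.ker = (pgoAut F ⇑Q).map (QuotientGroup.mk' (Inn (POmega F ⇑Q))))
include hker E

/-- Without `-1` in `Omega`, every semisimilarity centralises the similarity part of `Out`. -/
theorem commute_of_not_neg (hneg : ¬ NegOneOmega Q) {g : GL ι F} {σ : F ≃+* F} (hp : Semi Q g σ)
    {x : Out (POmega F ⇑Q)} (hx : x ∈ π.ker) : Commute x (QuotientGroup.mk (semiA hp)) := by
  rw [hker] at hx
  obtain ⟨β, hβ, rfl⟩ := hx
  rw [SetLike.mem_coe, pgoAut_eq] at hβ
  obtain ⟨h, rfl⟩ := hβ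
  have h1 := pgoClass_conj_eq E hp h
  rw [ClassicalSimple.pso_eq_inn E hneg, ← QuotientGroup.eq_one_iff, QuotientGroup.mk_mul,
    QuotientGroup.mk_mul, QuotientGroup.mk_mul, QuotientGroup.mk_inv, QuotientGroup.mk_inv,
    mul_inv_eq_one, mul_inv_eq_iff_eq_mul] at h1
  exact h1.symm

omit hker in
set_option maxHeartbeats 800000 in
theorem pso_two (hneg : NegOneOmega Q) {x x' : Out (POmega F ⇑Q)}
    (hx : x ∈ (psoAut F ⇑Q).map (QuotientGroup.mk' (Inn (POmega F ⇑Q))))
    (hx' : x' ∈ (psoAut F ⇑Q).map (QuotientGroup.mk' (Inn (POmega F ⇑Q))))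
    (h1 : x ≠ 1) (h1' : x' ≠ 1) : x * x' = 1 := by
  rw [psoAut_eq] at hx hx'
  obtain ⟨_, ⟨t, ht, rfl⟩, rfl⟩ := hx
  obtain ⟨_, ⟨t', ht', rfl⟩, rfl⟩ := hx'
  have key : ∀ s : ClassicalSimple.soSub Q, (QuotientGroup.mk' (Inn (POmega F ⇑Q))) (simAut Q s.1) = 1 ↔
      ClassicalSimple.spin Q s = 1 := fun s =>
    (QuotientGroup.eq_one_iff _).trans (ClassicalSimple.inn_mem_iff E hneg s)
  set t₁ : ClassicalSimple.soSub Q := ⟨t, ht⟩
  set t₂ : ClassicalSimple.soSub Q := ⟨t', ht'⟩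
  have e1 : ClassicalSimple.spin Q t₁ = -1 := (Int.units_eq_one_or _).resolve_left fun e => h1 ((key t₁).2 e)
  have e2 : ClassicalSimple.spin Q t₂ = -1 := (Int.units_eq_one_or _).resolve_left fun e => h1' ((key t₂).2 e)
  have e3 : ClassicalSimple.spin Q (t₁ * t₂) = 1 := by rw [map_mul, e1, e2, neg_mul_neg, one_mul]
  have e4 := (key (t₁ * t₂)).2 e3
  rw [Subgroup.coe_mul, map_mul, map_mul] at e4
  exact e4

set_option maxHeartbeats 1600000 in
/-- With `-1` in `Omega`, the square of a semisimilarity centralises the similarity part. -/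
theorem commute_sq (hneg : NegOneOmega Q) {g : GL ι F} {σ : F ≃+* F} (hp : Semi Q g σ)
    {x : Out (POmega F ⇑Q)} (hx : x ∈ π.ker) :
    Commute x ((QuotientGroup.mk (semiA hp) : Out (POmega F ⇑Q)) ^ 2) := by
  set y : Out (POmega F ⇑Q) := QuotientGroup.mk (semiA hp)
  rw [hker] at hx
  obtain ⟨β, hβ, rfl⟩ := hx
  rw [SetLike.mem_coe, pgoAut_eq] at hβ
  obtain ⟨h, rfl⟩ := hβ
  set x : Out (POmega F ⇑Q) := QuotientGroup.mk' (Inn (POmega F ⇑Q)) (simAut Q h)
  set δ := y * x * y⁻¹ * x⁻¹ with hδ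
  have hδm : δ ∈ (psoAut F ⇑Q).map (QuotientGroup.mk' (Inn (POmega F ⇑Q))) :=
    ⟨_, pgoClass_conj_eq E hp h, rfl⟩
  have hδm' : y * δ * y⁻¹ ∈ (psoAut F ⇑Q).map (QuotientGroup.mk' (Inn (POmega F ⇑Q))) := by
    obtain ⟨β, hβ, hβe⟩ := hδm
    have hβ' : semiA hp * β * (semiA hp)⁻¹ ∈ psoAut F ⇑Q := by
      rw [psoAut_eq] at hβ
      obtain ⟨t, ht, rfl⟩ := hβ
      rw [AutPO.semiA_mul_simAut hp t, mul_inv_cancel_right, mem_pso_iff E, ← pgoClass_eq_one E]
      exact pgoClass_conj E hp t ((pgoClass_eq_one E).2 ⟨((ClassicalSimple.mem_soSub E t).1 ht).1 ▸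
        IsSquare.one, ((ClassicalSimple.mem_soSub E t).1 ht).2⟩)
    refine ⟨_, hβ', ?_⟩
    rw [map_mul, map_mul, map_inv, hβe]
    rfl
  have key : y * y * x = x * (y * y) := by
    have hyx : y * x = δ * x * y := by rw [hδ]; group
    by_cases h0 : δ = 1
    · rw [h0, one_mul] at hyx
      rw [mul_assoc, hyx, ← mul_assoc, hyx, mul_assoc]
    · have hδ2 := pso_two E hneg hδm hδm h0 h0
      have hδ' : y * δ * y⁻¹ = δ :=
        mul_right_cancel ((pso_two E hneg hδm' hδm (fun e => h0 (conj_eq_one_iff.1 e)) h0).trans hδ2.symm)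
      calc y * y * x = y * (δ * x * y) := by rw [← hyx, mul_assoc]
        _ = (y * δ * y⁻¹) * (y * x) * y := by group
        _ = δ * δ * x * (y * y) := by rw [hδ', hyx]; group
        _ = x * (y * y) := by rw [hδ2, one_mul]
  rw [pow_two]
  exact key.symm

end Odd

section Minus

variable {m : ℕ} {a b : F}

local notation "Im" => (Fin m ⊕ Fin m) ⊕ Fin 2
local notation "QM" => minusForm F m a b

variable (hm : 3 ≤ m) (hab : ∀ z₁ z₂ : F, z₁ ^ 2 + a * z₁ * z₂ + b * z₂ ^ 2 = 0 → z₁ = 0 ∧ z₂ = 0)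
variable (p : ℕ) [hprime : Fact p.Prime] [hchar : CharP F p] {f : ℕ} (hf : 1 ≤ f) (hF : Fintype.card F = p ^ f)
include hm hab hprime hchar hf hF

/-- The generator of the field part. -/
theorem exists_outFrob : ∃ (π : Out (POmega F ⇑QM) →* (F ≃+* F)) (g : GL Im F)
    (hp : Semi QM g (frobeniusEquiv F p)) (v : Im → F) (hv : QM v ≠ 0),
      π.ker = (pgoAut F ⇑QM).map (QuotientGroup.mk' (Inn (POmega F ⇑QM))) ∧
      orderOf (π (QuotientGroup.mk (semiA hp))) = f ∧ Nat.card (F ≃+* F) = f ∧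
      (QuotientGroup.mk (semiA hp) : Out (POmega F ⇑QM)) ^ f = QuotientGroup.mk (simAut QM (reflGO v hv)) ∧
      Function.Surjective π := by
  obtain ⟨π, hker, hπ⟩ := exists_outGal (autData_minus hm hab)
  obtain ⟨g, hp, v, hv, he⟩ := exists_frob (m := m) hab p hf hF
  have hord : orderOf (π (QuotientGroup.mk (semiA hp))) = f := by
    rw [hπ _ _ hp, orderOf_frob p hf hF]
  have hcard := card_gal p hf hF
  have : Finite (F ≃+* F) := Nat.finite_of_card_ne_zero (by omega)
  refine ⟨π, g, hp, v, hv, hker, hord, hcard, ?_, surjective_of_orderOf π (hord.trans hcard.symm)⟩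
  rw [← QuotientGroup.mk_pow, he]

set_option maxHeartbeats 1600000 in
theorem out_minus_two [CharP F 2] :
    IsCyclic (Out (POmega F ⇑QM)) ∧ Nat.card (Out (POmega F ⇑QM)) = 2 * f := by
  classical
  obtain ⟨π, g, hp, v, hv, hker, hord, hcard, hpow, hsurj⟩ := exists_outFrob (hchar := hchar) hm hab p hf hF
  set y : Out (POmega F ⇑QM) := QuotientGroup.mk (semiA hp)
  set r : Out (POmega F ⇑QM) := QuotientGroup.mk (simAut QM (reflGO v hv))
  have hQ := minus_nondeg (m := m) hab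
  have hcardI : Fintype.card F ≠ 2 ∨ Fintype.card Im ≠ 4 := Or.inr (by simp; omega)
  have h5 : 5 ≤ Fintype.card Im := by simp; omega
  have h20 : (2 : F) = 0 := CharTwo.two_eq_zero
  have hrO : QForm.refl QM v hv ∉ Omega F ⇑QM := by
    rw [QForm.mem_omega_iff_even hQ hcardI (QForm.refl QM v hv) [v] (by simpa using hv) (by simp; rfl)]
    simp
  have hrn : r ≠ 1 := by
    intro e
    rw [QuotientGroup.eq_one_iff, inn_eq] at e
    obtain ⟨ω, ⟨ω', hω', hωe⟩, he'⟩ := e
    obtain ⟨c, hc⟩ := (AutPO.simAut_eq_iff hQ h5).1 he'.symm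
    have hre : (QForm.refl QM v hv).1 = ω'.1 * AutPO.scl c := by
      rw [show ω'.1 = ω.1 from hωe]; exact hc
    have hc2 : (c : F) * c = 1 := by
      have e1 := (ClassicalSimple.mem_isometry_iff QM).1 (QForm.refl QM v hv).2 v
      have e2 := (ClassicalSimple.mem_isometry_iff QM).1 ω'.2 v
      rw [hre, Units.val_mul, ← Matrix.mulVec_mulVec, AutPO.scl_mulVec, Matrix.mulVec_smul,
        QuadraticMap.map_smul, e2, smul_eq_mul, mul_eq_right₀ hv] at e1
      exact e1
    have hc1 : c = 1 := Units.ext (by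
      have : ((c : F) - 1) * ((c : F) - 1) = 0 := by linear_combination hc2 + (1 - (c : F)) * h20
      exact sub_eq_zero.1 (mul_self_eq_zero.1 this))
    rw [hc1, map_one, mul_one] at hre
    exact hrO (by rw [show QForm.refl QM v hv = ω' from Subtype.ext hre]; exact hω')
  have hr2 : r * r = 1 := by
    rw [← QuotientGroup.mk_mul, ← map_mul, ClassicalSimple.reflGO_mul_self, map_one, QuotientGroup.mk_one]
  have hy : orderOf y = 2 * f := orderOf_lift π hf hord hpow hrn hr2
  have mkO : ∀ h : isometryGroup F ⇑QM, h ∈ Omega F ⇑QM →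
      (QuotientGroup.mk (simAut QM ⟨h.1, isometry_le_GO QM h.2⟩) : Out (POmega F ⇑QM)) = 1 := by
    intro h hh
    rw [QuotientGroup.eq_one_iff, inn_eq]
    exact ⟨_, ⟨h, hh, rfl⟩, rfl⟩
  have hcases : ∀ x ∈ π.ker, x = 1 ∨ x = r := by
    rw [hker]
    rintro _ ⟨β, hβ, rfl⟩
    rw [SetLike.mem_coe, pgoAut_eq] at hβ
    obtain ⟨k, rfl⟩ := hβ
    obtain ⟨c, hc⟩ := k.2
    obtain ⟨t, ht⟩ := FiniteField.isSquare_of_char_two (ringChar.eq F 2) (c : F)
    have ht0 : t ≠ 0 := fun e => c.ne_zero (by rw [ht, e, mul_zero])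
    set a' := Units.mk0 t ht0
    have hh : (AutPO.scl a')⁻¹ * k.1 ∈ isometryGroup F ⇑QM := by
      rw [ClassicalSimple.mem_isometry_iff]
      intro w
      rw [← map_inv, Units.val_mul, ← Matrix.mulVec_mulVec, AutPO.scl_mulVec, QuadraticMap.map_smul, hc,
        smul_eq_mul, Units.val_inv_eq_inv_val, Units.val_mk0, ht]
      field_simp
    set h : isometryGroup F ⇑QM := ⟨_, hh⟩
    have hkh : simAut QM k = simAut QM ⟨h.1, isometry_le_GO QM h.2⟩ :=
      (AutPO.simAut_eq_iff hQ h5).2 ⟨a', by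
        show k.1 = (AutPO.scl a')⁻¹ * k.1 * AutPO.scl a'
        rw [mul_assoc, ← AutPO.scl_commute, inv_mul_cancel_left]⟩
    rw [QuotientGroup.mk'_apply, hkh]
    obtain ⟨vs, hvs, hh'⟩ := QForm.exists_list hQ hcardI h
    rcases Nat.even_or_odd vs.length with he | ho
    · exact Or.inl (mkO h ((QForm.mem_omega_iff_even hQ hcardI h vs hvs hh').2 he))
    · refine Or.inr ?_
      have hmem : h * QForm.refl QM v hv ∈ Omega F ⇑QM := by
        refine (QForm.mem_omega_iff_even hQ hcardI _ (vs ++ [v])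
          (List.forall_mem_append.2 ⟨hvs, by simpa using hv⟩) ?_).2 (by simpa using ho.add_one)
        rw [List.map_append, List.prod_append, ← hh', List.map_singleton, List.prod_singleton]; rfl
      have e1 := mkO _ hmem
      rw [show (⟨(h * QForm.refl QM v hv).1, isometry_le_GO QM (h * QForm.refl QM v hv).2⟩ : GO QM) =
        ⟨h.1, isometry_le_GO QM h.2⟩ * reflGO v hv from rfl, map_mul, QuotientGroup.mk_mul] at e1
      exact mul_right_cancel (e1.trans hr2.symm)
  have hkc : Nat.card π.ker = 2 := by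
    rw [Nat.card_eq_two_iff' (1 : π.ker)]
    have hrk : r ∈ π.ker := hker ▸ Subgroup.mem_map_of_mem _ (by rw [pgoAut_eq]; exact ⟨_, rfl⟩)
    exact ⟨⟨r, hrk⟩, fun e => hrn (congrArg Subtype.val e),
      fun x hx => Subtype.ext ((hcases x x.2).resolve_left fun e => hx (Subtype.ext e))⟩
  have hn : Nat.card (Out (POmega F ⇑QM)) = 2 * f := by
    rw [← Subgroup.card_mul_index π.ker, Subgroup.index_ker, MonoidHom.range_eq_top.2 hsurj,
      Subgroup.card_top, hkc, hcard]
  exact ⟨isCyclic_of_orderOf_eq_card y (hy.trans hn.symm), hn⟩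

variable (hodd : Odd (Fintype.card F))
include hodd

set_option maxHeartbeats 1600000 in
theorem out_minus_neg (hneg : Even m ∧ Fintype.card F % 4 = 3) :
    Nonempty (Out (POmega F ⇑QM) ≃* DihedralGroup 4 × Multiplicative (ZMod f)) := by
  classical
  obtain ⟨π, g, hp, v, hv, hker, hord, hcard, hpow, hsurj⟩ := exists_outFrob hm hab p hf hF
  have E := ClassicalSimple.evenForm_minus (a := a) (b := b) (m := m) hodd (by omega) hab
  obtain ⟨T⟩ := ClassicalSimple.twist_minus E hab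
  have hN : NegOneOmega QM := (ClassicalSimple.negOne_minus (m := m) hodd hab).2 hneg
  obtain ⟨φ, hφ, hφk⟩ := ClassicalSimple.pgo_inn_dihedral E T hN
  obtain ⟨eA⟩ := ker_equiv π hker φ hφ hφk
  have hfodd : Odd f := by
    rw [← Nat.not_even_iff_odd]
    rintro ⟨j, rfl⟩
    have h := hneg.2
    rw [hF, pow_add, Nat.mul_mod] at h
    have h4 : p ^ j % 4 = 0 ∨ p ^ j % 4 = 1 ∨ p ^ j % 4 = 2 ∨ p ^ j % 4 = 3 := by omega
    rcases h4 with e | e | e | e <;> rw [e] at h <;> norm_num at h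
  set y : Out (POmega F ⇑QM) := QuotientGroup.mk (semiA hp)
  have hy2 : orderOf (π (y ^ 2)) = f := by
    rw [map_pow, orderOf_pow' _ two_ne_zero, hord, Nat.Coprime.gcd_eq_one (Nat.coprime_two_right.2 hfodd),
      Nat.div_one]
  have hy : orderOf (y ^ 2) = f := by
    refine Nat.dvd_antisymm (orderOf_dvd_of_pow_eq_one ?_) ?_
    · rw [← pow_mul, mul_comm, pow_mul, hpow, pow_two, ← QuotientGroup.mk_mul, ← map_mul,
        ClassicalSimple.reflGO_mul_self, map_one, QuotientGroup.mk_one]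
    · exact hy2 ▸ orderOf_map_dvd π (y ^ 2)
  obtain ⟨e⟩ := exists_split π hsurj (y ^ 2) (hy.trans hcard.symm) (hy2.trans hcard.symm)
    fun x hx => commute_sq E π hker hN hp hx
  rw [hcard] at e
  exact ⟨e.trans (MulEquiv.prodCongr eA (MulEquiv.refl _))⟩

set_option maxHeartbeats 1600000 in
theorem out_minus_pos (hneg : ¬ (Even m ∧ Fintype.card F % 4 = 3)) :
    Nonempty (Out (POmega F ⇑QM) ≃* Multiplicative (ZMod 2 × ZMod (2 * f))) := by
  classical
  obtain ⟨π, g, hp, v, hv, hker, hord, hcard, hpow, hsurj⟩ := exists_outFrob hm hab p hf hF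
  have E := ClassicalSimple.evenForm_minus (a := a) (b := b) (m := m) hodd (by omega) hab
  obtain ⟨T⟩ := ClassicalSimple.twist_minus E hab
  have hN : ¬ NegOneOmega QM := fun h => hneg ((ClassicalSimple.negOne_minus (m := m) hodd hab).1 h)
  obtain ⟨φ, hφ, hφk⟩ := ClassicalSimple.pgo_inn_four E T hN
  obtain ⟨eA⟩ := ker_equiv π hker φ hφ hφk
  set y : Out (POmega F ⇑QM) := QuotientGroup.mk (semiA hp)
  set r : Out (POmega F ⇑QM) := QuotientGroup.mk (simAut QM (reflGO v hv))
  set μ : Out (POmega F ⇑QM) := QuotientGroup.mk (simAut QM T.g)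
  have hr2 : r * r = 1 := by
    rw [← QuotientGroup.mk_mul, ← map_mul, ClassicalSimple.reflGO_mul_self, map_one, QuotientGroup.mk_one]
  have hne : (-1 : F) ≠ 1 := fun e => E.two (by linear_combination -e)
  have hout : ∀ k : GO QM, (QuotientGroup.mk (simAut QM k) : Out (POmega F ⇑QM)) = 1 →
      IsSquare (mult k : F) ∧ dsign (m + 1) k = 1 := fun k hk => by
    rw [QuotientGroup.eq_one_iff, ← ClassicalSimple.pso_eq_inn E hN, mem_pso_iff E] at hk
    exact hk
  have hrn : r ≠ 1 := fun e => hne ((ClassicalSimple.dsign_refl E v hv).symm.trans (hout _ e).2)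
  have hμn : μ ≠ 1 := fun e => T.nonsquare (hout _ e).1
  have hμr : μ ≠ r := fun e => T.nonsquare (by
    have h := (hout (T.g * reflGO v hv) (by
      rw [map_mul, QuotientGroup.mk_mul]; show μ * r = 1; rw [e, hr2])).1
    rwa [show mult (T.g * reflGO v hv) = mult T.g * mult (reflGO v hv) from
      map_mul (ClassicalSimple.multHom E) _ _, Units.val_mul, ClassicalSimple.mult_refl E, mul_one] at h)
  have hμk : μ ∈ π.ker := hker ▸ Subgroup.mem_map_of_mem _ (by rw [pgoAut_eq]; exact ⟨_, rfl⟩)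
  have hμ2 : μ * μ = 1 := by
    have h2 : ∀ z : Multiplicative (ZMod 2 × ZMod 2), z * z = 1 := by decide
    exact congrArg Subtype.val (eA.injective (show eA (⟨μ, hμk⟩ * ⟨μ, hμk⟩) = eA 1 by
      rw [map_mul, h2, map_one]))
  have hμo : orderOf μ = 2 := orderOf_eq_prime (by rw [pow_two, hμ2]) hμn
  have hy : orderOf y = 2 * f := orderOf_lift π hf hord hpow hrn hr2
  obtain ⟨e⟩ := exists_prod_equiv (Subgroup.zpowers μ) (Subgroup.zpowers y)
    (fun x hx z hz => by
      obtain ⟨i, rfl⟩ := Subgroup.mem_zpowers_iff.1 hx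
      obtain ⟨j, rfl⟩ := Subgroup.mem_zpowers_iff.1 hz
      exact ((commute_of_not_neg E π hker hN hp hμk).zpow_left i).zpow_right j)
    (fun x hx hxy => by
      obtain ⟨i, rfl⟩ := Subgroup.mem_zpowers_iff.1 hx
      obtain ⟨j, hj⟩ := Subgroup.mem_zpowers_iff.1 hxy
      have hπ : π (μ ^ i) = 1 := by rw [map_zpow, MonoidHom.mem_ker.1 hμk, one_zpow]
      rw [← hj, map_zpow, ← orderOf_dvd_iff_zpow_eq_one, hord] at hπ
      obtain ⟨l, rfl⟩ := hπ
      have hyr : y ^ ((f : ℤ) * l) = r ^ l := by rw [zpow_mul, zpow_natCast, hpow]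
      rcases Int.even_or_odd i with ⟨i', rfl⟩ | ⟨i', rfl⟩
      · rw [zpow_add, ← (Commute.refl μ).mul_zpow, hμ2, one_zpow]
      · exfalso
        rw [hyr] at hj
        have hμ' : μ ^ (2 * i' + 1) = μ := by
          rw [zpow_add_one, zpow_mul, show μ ^ (2 : ℤ) = 1 by rw [zpow_two, hμ2], one_zpow, one_mul]
        rw [hμ'] at hj
        rcases Int.even_or_odd l with ⟨l', rfl⟩ | ⟨l', rfl⟩
        · rw [zpow_add, ← (Commute.refl r).mul_zpow, hr2, one_zpow] at hj
          exact hμn hj.symm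
        · rw [zpow_add_one, zpow_mul, show r ^ (2 : ℤ) = 1 by rw [zpow_two, hr2], one_zpow, one_mul] at hj
          exact hμr hj.symm)
    (by
      rw [Nat.card_zpowers, Nat.card_zpowers, hμo, hy, ← Subgroup.card_mul_index π.ker, Subgroup.index_ker,
        MonoidHom.range_eq_top.2 hsurj, Subgroup.card_top, hcard, Nat.card_congr eA.toEquiv,
        Nat.card_congr Multiplicative.toAdd, Nat.card_prod, Nat.card_zmod]
      ring)
  let e1 : Subgroup.zpowers μ ≃* Multiplicative (ZMod 2) := mulEquivOfCyclicCardEq (by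
    rw [Nat.card_zpowers, hμo, Nat.card_congr Multiplicative.toAdd, Nat.card_zmod])
  let e2 : Subgroup.zpowers y ≃* Multiplicative (ZMod (2 * f)) := mulEquivOfCyclicCardEq (by
    rw [Nat.card_zpowers, hy, Nat.card_congr Multiplicative.toAdd, Nat.card_zmod])
  exact ⟨(e.trans (MulEquiv.prodCongr e1 e2)).trans
    (MulEquiv.prodMultiplicative (ZMod 2) (ZMod (2 * f))).symm⟩

end Minus

end Cfsg.Agent.AutPOmega
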