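import Cfsg.Agent.Lib.AutPOmega.Out
import Cfsg.Agent.Lib.AutPO.Odd

/-!
The outer automorphism group of the odd-dimensional orthogonal groups.
-/

set_option autoImplicit false

namespace Cfsg.Agent.AutPOmega

open scoped Matrix MatrixGroups
open AutPO (Semi semiA fieldA semi_one fixes_odd orderOf_fieldA_odd coe_quadOdd)
open ClassicalSimple (GO simAut bil pgoAut_eq inn_eq omegaSub isometry_le_GO ker_simAut)
open Module (finrank)

variable {F : Type*} [Field F] [Fintype F] {m : ℕ}

local notation "Io" => Unit ⊕ (Fin m ⊕ Fin m)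
local notation "QO" => Forms.quadOdd m F

omit [Fintype F] in
theorem quadOdd_single_x (i : Fin m) :
    QO (Pi.single (Sum.inr (Sum.inl i)) 1) = 0 ∧
      ∀ x, bil QO (Pi.single (Sum.inr (Sum.inl i)) 1) x = x (Sum.inr (Sum.inr i)) := by
  have h0 : QO (Pi.single (Sum.inr (Sum.inl i)) 1) = 0 := by
    simp [Forms.quadOdd_apply, quadFormOdd, Pi.single_apply]
  refine ⟨h0, fun x => ?_⟩
  rw [ClassicalSimple.bil_apply, QuadraticMap.polar, h0, Forms.quadOdd_apply, Forms.quadOdd_apply]
  simp [quadFormOdd, Pi.single_apply, add_mul, Finset.sum_add_distrib]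

omit [Fintype F] in
theorem autData_odd [Finite F] (h2 : (2 : F) ≠ 0) (hm : 3 ≤ m) : AutData QO where
  nondeg := Forms.quadOdd_nondegenerate h2 m
  five := AutPO.card_odd hm
  pair β := by
    have hd : finrank F (Io → F) = 2 * m + 1 := by
      rw [Module.finrank_fintype_fun_eq_card]; simp; omega
    obtain ⟨g, σ, hp, hi⟩ := exists_induced QO (Forms.quadOdd_nondegenerate h2 m) (by omega) (by
      by_cases h4 : 4 ≤ m
      · exact Or.inl (by omega)
      · refine Or.inr fun W hW => ?_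
        have := finrank_singular_le (Forms.quadOdd_nondegenerate h2 m) W hW
        omega) β
    exact ⟨g, σ, hp, AutPO.eq_semiA hp hi⟩
  probe := by
    let i : Fin m := ⟨0, by omega⟩
    let j : Fin m := ⟨1, by omega⟩
    have hij : i ≠ j := by simp [i, j, Fin.ext_iff]
    obtain ⟨hu, bu⟩ := quadOdd_single_x (F := F) i
    obtain ⟨hv, bv⟩ := quadOdd_single_x (F := F) j
    have pu : ∀ k, polarVec ⇑QO (Pi.single (Sum.inr (Sum.inl i)) 1) k =
        (Pi.single k 1 : Io → F) (Sum.inr (Sum.inr i)) := fun k => bu _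
    have pv : ∀ k, polarVec ⇑QO (Pi.single (Sum.inr (Sum.inl j)) 1) k =
        (Pi.single k 1 : Io → F) (Sum.inr (Sum.inr j)) := fun k => bv _
    refine probe_of_line (Forms.quadOdd_nondegenerate h2 m) (AutPO.card_odd hm) _ _ hu hv
      (by rw [bu]; simp) (fun σ k => ?_) fun h => ?_
    · simp only [pu, pv, Pi.single_apply]
      refine ⟨?_, ?_, ?_, ?_⟩ <;> split_ifs <;> simp
    · have := congrFun (congrFun h (Sum.inr (Sum.inl j))) (Sum.inr (Sum.inr i))
      simp [Matrix.vecMulVec_apply, pu, pv, hij.symm] at this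

omit [Fintype F] in
/-- A similarity in odd dimension is a scalar times an isometry of determinant one. -/
theorem exists_so (h2 : (2 : F) ≠ 0) (g : GO QO) :
    ∃ (a : Fˣ) (h : isometryGroup F ⇑QO),
      g.1 = AutPO.scl a * h.1 ∧ (h.1.val : Matrix Io Io F).det = 1 := by
  obtain ⟨c, hc⟩ := g.2
  set M : Matrix Io Io F := g.1.val
  set B := LinearMap.BilinForm.toMatrix' (QuadraticMap.polarBilin QO)
  have hB : B.det ≠ 0 := by
    have := (LinearMap.BilinForm.nondegenerate_iff_det_ne_zero (Pi.basisFun F Io)).1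
      (Forms.quadOdd_nondegenerate h2 m)
    rwa [LinearMap.BilinForm.toMatrix_basisFun] at this
  have e : Mᵀ * B * M = (c : F) • B := by
    have h1 : LinearMap.BilinForm.comp (QuadraticMap.polarBilin QO) (Matrix.toLin' M) (Matrix.toLin' M) =
        (c : F) • QuadraticMap.polarBilin QO := LinearMap.ext fun x => LinearMap.ext fun y => by
      simp only [LinearMap.BilinForm.comp_apply, LinearMap.smul_apply,
        QuadraticMap.polarBilin_apply_apply, QuadraticMap.polar, Matrix.toLin'_apply,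
        ← Matrix.mulVec_add, M, hc, smul_eq_mul]
      ring
    have h2 := congrArg LinearMap.BilinForm.toMatrix' h1
    rwa [LinearMap.BilinForm.toMatrix'_comp, LinearMap.toMatrix'_toLin', map_smul] at h2
  have hcard : Fintype.card Io = 2 * m + 1 := by simp; omega
  have e2 := congrArg Matrix.det e
  rw [Matrix.det_mul, Matrix.det_mul, Matrix.det_transpose, Matrix.det_smul, hcard] at e2
  have e3 : M.det * M.det = (c : F) ^ (2 * m + 1) := mul_right_cancel₀ hB (by linear_combination e2)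
  set d := M.det / (c : F) ^ m with hd
  have hM : M.det ≠ 0 := fun h0 => pow_ne_zero (2 * m + 1) c.ne_zero (by rw [← e3, h0, zero_mul])
  have hdc : d * d = (c : F) := by
    rw [hd, div_mul_div_comm, e3, ← pow_add, ← two_mul, pow_succ', mul_div_assoc,
      div_self (pow_ne_zero _ c.ne_zero), mul_one]
  set a := Units.mk0 d (div_ne_zero hM (pow_ne_zero _ c.ne_zero))
  have hh : (AutPO.scl a)⁻¹ * g.1 ∈ isometryGroup F ⇑QO := by
    rw [ClassicalSimple.mem_isometry_iff]
    intro v
    rw [← map_inv, Units.val_mul, ← Matrix.mulVec_mulVec, AutPO.scl_mulVec, QuadraticMap.map_smul, hc,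
      smul_eq_mul, Units.val_inv_eq_inv_val, Units.val_mk0, ← hdc]
    field_simp
    rw [mul_div_cancel_left₀ _ (div_ne_zero hM (pow_ne_zero _ c.ne_zero) : d ≠ 0)]
  refine ⟨a, ⟨_, hh⟩, (mul_inv_cancel_left _ _).symm, ?_⟩
  show ((AutPO.scl a)⁻¹ * g.1).val.det = 1
  rw [← map_inv, Units.val_mul, AutPO.scl_val, Matrix.smul_mul, Matrix.one_mul, Matrix.det_smul, hcard,
    Units.val_inv_eq_inv_val, Units.val_mk0, inv_pow, pow_succ', pow_mul, sq, hdc,
    ← mul_right_inj' (mul_ne_zero (div_ne_zero hM (pow_ne_zero _ c.ne_zero)) (pow_ne_zero m c.ne_zero)),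
    mul_inv_cancel_left₀ (mul_ne_zero (div_ne_zero hM (pow_ne_zero _ c.ne_zero)) (pow_ne_zero m c.ne_zero)),
    mul_one]
  show M.det = _
  rw [div_mul_cancel₀ _ (pow_ne_zero _ c.ne_zero)]

set_option maxHeartbeats 1600000 in
theorem out_odd {p f : ℕ} [Fact p.Prime] (hf : 1 ≤ f) (hF : Fintype.card F = p ^ f) (h2 : (2 : F) ≠ 0)
    (hm : 3 ≤ m) :
    Nonempty (Out (POmega F ⇑QO) ≃* Multiplicative (ZMod 2 × ZMod f)) := by
  classical
  have : CharP F p := charP_of_card_eq_prime_pow hF
  have D := autData_odd h2 hm (m := m) (F := F)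
  have h5 : 5 ≤ Fintype.card Io := AutPO.card_odd hm
  obtain ⟨π, hker, hπ⟩ := exists_outGal D
  set σ₀ := frobeniusEquiv F p
  set τ : MulAut (POmega F ⇑QO) := fieldA (fixes_odd σ₀)
  set y : Out (POmega F ⇑QO) := QuotientGroup.mk τ
  have hπy : π y = σ₀ := hπ _ _ (semi_one (fixes_odd σ₀))
  have hord : orderOf σ₀ = f := orderOf_frob p hf hF
  have hcard := card_gal p hf hF
  have : Finite (F ≃+* F) := Nat.finite_of_card_ne_zero (by omega)
  have hy : orderOf y = f := by
    refine Nat.dvd_antisymm ?_ ?_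
    · rw [orderOf_dvd_iff_pow_eq_one, ← QuotientGroup.mk_pow,
        show τ ^ f = 1 from orderOf_dvd_iff_pow_eq_one.1 (by rw [orderOf_fieldA_odd h2 hm, hord]),
        QuotientGroup.mk_one]
    · have := orderOf_map_dvd π y
      rwa [hπy, hord] at this
  have hsurj : Function.Surjective π := by
    intro σ
    exact ⟨QuotientGroup.mk (fieldA (fixes_odd σ)), hπ _ _ (semi_one (fixes_odd σ))⟩
  have hQ : (QuadraticMap.polarBilin QO).Nondegenerate := Forms.quadOdd_nondegenerate h2 m
  obtain ⟨v, hv⟩ := QForm.exists_apply_eq h2 hQ (by omega) (1 : F) one_ne_zero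
  obtain ⟨ν, hν⟩ := FiniteField.exists_nonsquare (F := F) (fun hc => h2 (by
    have : CharP F 2 := ringChar.of_eq hc
    exact CharTwo.two_eq_zero))
  have hν0 : ν ≠ 0 := fun e => hν (e ▸ IsSquare.zero)
  obtain ⟨w, hw⟩ := QForm.exists_apply_eq h2 hQ (by omega) ν hν0
  have hvs : ∀ x ∈ [v, w], QO x ≠ 0 := by simp [hv, hw, hν0]
  obtain ⟨s, hs⟩ := QForm.exists_prod_refl QO [v, w] hvs
  have hsO : s ∉ Omega F ⇑QO := fun h => hν (by
    simpa [hv, hw] using ((QForm.mem_omega_iff_of_prod hQ h2 s _ hvs hs).1 h).2)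
  have hsdet : s.1.val.det = 1 := by
    rw [hs]
    simp [QForm.det_reflectionMatrix _ (hvs v (by simp)), QForm.det_reflectionMatrix _ (hvs w (by simp))]
  let S : GO QO := ⟨s.1, isometry_le_GO QO s.2⟩
  set z : Out (POmega F ⇑QO) := QuotientGroup.mk (simAut QO S)
  have mkO : ∀ h : isometryGroup F ⇑QO, h ∈ Omega F ⇑QO →
      (QuotientGroup.mk (simAut QO ⟨h.1, isometry_le_GO QO h.2⟩) : Out (POmega F ⇑QO)) = 1 := by
    intro h hh
    rw [QuotientGroup.eq_one_iff, inn_eq]
    exact ⟨_, ⟨h, hh, rfl⟩, rfl⟩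
  have hz : z ≠ 1 := by
    intro e
    rw [QuotientGroup.eq_one_iff, inn_eq] at e
    obtain ⟨ω, ⟨ω', hω', hωe⟩, he⟩ := e
    obtain ⟨c, hc⟩ := (AutPO.simAut_eq_iff hQ h5).1 he.symm
    have hc2 : (c : F) * c = 1 := by
      have e1 := (ClassicalSimple.mem_isometry_iff QO).1 s.2 v
      have e2 := (ClassicalSimple.mem_isometry_iff QO).1 ω'.2 v
      rw [show s.1 = ω.1 * AutPO.scl c from hc, ← show ω'.1 = ω.1 from hωe, Units.val_mul,
        ← Matrix.mulVec_mulVec, AutPO.scl_mulVec, Matrix.mulVec_smul, QuadraticMap.map_smul, e2, hv,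
        smul_eq_mul, mul_one] at e1
      exact e1
    have hω1 : ω'.1.val.det = 1 := by
      obtain ⟨vs, hvs', hg'⟩ := QForm.exists_list hQ (Or.inr (by omega)) ω'
      have := ((QForm.mem_omega_iff_of_prod hQ h2 ω' vs hvs' hg').1 hω').1
      rw [(QForm.invariants_of_prod h2 vs hvs' ω' hg').2, this.neg_one_pow]
    have hd := hsdet
    rw [show s.1 = ω.1 * AutPO.scl c from hc, ← show ω'.1 = ω.1 from hωe, Units.val_mul, Matrix.det_mul,
      hω1, one_mul, AutPO.scl_val, Matrix.det_smul, Matrix.det_one, mul_one,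
      show Fintype.card Io = 2 * m + 1 by simp; omega, pow_succ, pow_mul, sq, hc2, one_pow, one_mul] at hd
    refine hsO ?_
    have : s = ω' := Subtype.ext (by
      rw [show s.1 = ω.1 * AutPO.scl c from hc, show c = 1 from Units.ext hd, map_one, mul_one]
      exact hωe.symm)
    rw [this]; exact hω'
  have hcases : ∀ x ∈ π.ker, x = 1 ∨ x = z := by
    rw [hker]
    rintro _ ⟨β, hβ, rfl⟩
    rw [SetLike.mem_coe, pgoAut_eq] at hβ
    obtain ⟨g, rfl⟩ := hβ
    obtain ⟨a, h, hg, hdet⟩ := exists_so h2 g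
    have hgh : simAut QO g = simAut QO ⟨h.1, isometry_le_GO QO h.2⟩ :=
      (AutPO.simAut_eq_iff hQ h5).2 ⟨a, hg.trans (AutPO.scl_commute a h.1)⟩
    rw [QuotientGroup.mk'_apply, hgh]
    obtain ⟨vs, hvs', hh'⟩ := QForm.exists_list hQ (Or.inr (by omega)) h
    have hev : Even vs.length := by
      have := (QForm.invariants_of_prod h2 vs hvs' h hh').2
      rw [hdet] at this
      exact (neg_one_pow_eq_one_iff_even (fun e => h2 (by linear_combination -e))).1 this.symm
    by_cases hsq : IsSquare (vs.map fun x => QO x).prod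
    · exact Or.inl (mkO h ((QForm.mem_omega_iff_of_prod hQ h2 h vs hvs' hh').2 ⟨hev, hsq⟩))
    · refine Or.inr ?_
      have hmem : h * s ∈ Omega F ⇑QO := by
        refine (QForm.mem_omega_iff_of_prod hQ h2 _ (vs ++ [v, w])
          (List.forall_mem_append.2 ⟨hvs', hvs⟩) ?_).2 ⟨by simpa [Nat.even_add] using hev, ?_⟩
        · rw [List.map_append, List.prod_append, ← hh', ← hs]; rfl
        · have hP : (vs.map fun x => QO x).prod ≠ 0 := List.prod_ne_zero fun h0 => by
            obtain ⟨x, hx, hx0⟩ := List.mem_map.1 h0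
            exact hvs' x hx hx0
          simpa [hv, hw] using (QForm.isSquare_mul_nonsquare_iff hP hν).2 hsq
      have e1 := mkO _ hmem
      rw [show (⟨(h * s).1, isometry_le_GO QO (h * s).2⟩ : GO QO) = ⟨h.1, isometry_le_GO QO h.2⟩ * S
        from rfl, map_mul, QuotientGroup.mk_mul] at e1
      have hs2 := mkO (s * s) (by
        rw [QForm.mem_omega_iff_abelianization, map_mul]
        exact QForm.of_mul_self hQ (Or.inr (by omega)) s)
      rw [show (⟨(s * s).1, isometry_le_GO QO (s * s).2⟩ : GO QO) = S * S from rfl, map_mul,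
        QuotientGroup.mk_mul] at hs2
      exact mul_right_cancel (e1.trans hs2.symm)
  have hzk : z ∈ π.ker := hker ▸ Subgroup.mem_map_of_mem _ (by rw [pgoAut_eq]; exact ⟨S, rfl⟩)
  have hkc : Nat.card π.ker = 2 := by
    rw [Nat.card_eq_two_iff' (1 : π.ker)]
    exact ⟨⟨z, hzk⟩, fun e => hz (congrArg Subtype.val e),
      fun x hx => Subtype.ext ((hcases x x.2).resolve_left fun e => hx (Subtype.ext e))⟩
  obtain ⟨e⟩ := exists_split π hsurj y (hy.trans hcard.symm) (by rw [hπy, hord, hcard]) fun a ha => by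
    rcases hcases a ha with rfl | rfl
    · exact Commute.one_left y
    · have hmem : y * z * y⁻¹ ∈ π.ker := (MonoidHom.normal_ker π).conj_mem z hzk y
      rcases hcases _ hmem with h | h
      · exact absurd (conj_eq_one_iff.1 h) hz
      · exact (mul_inv_eq_iff_eq_mul.1 h).symm
  have : Fact (Nat.Prime 2) := ⟨Nat.prime_two⟩
  have : IsCyclic π.ker := isCyclic_of_prime_card hkc
  let e2 : π.ker ≃* Multiplicative (ZMod 2) :=
    mulEquivOfCyclicCardEq (by rw [hkc, Nat.card_congr Multiplicative.toAdd, Nat.card_zmod])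
  rw [hcard] at e
  exact ⟨(e.trans (MulEquiv.prodCongr e2 (MulEquiv.refl _))).trans
    (MulEquiv.prodMultiplicative (ZMod 2) (ZMod f)).symm⟩

end Cfsg.Agent.AutPOmega
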