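import Cfsg.Agent.Lib.AutPOmega.PlusClasses
import Cfsg.Agent.Lib.ClassicalSimple.PGOModels
import Cfsg.Agent.Lib.ClassicalSimple.PGOOmega

/-!
The outer automorphism group of the plus-type orthogonal groups: the similarity part, and the whole group in
rank at least five.
-/

set_option autoImplicit false

namespace Cfsg.Agent.AutPOmega

open scoped Matrix MatrixGroups
open AutPO (Semi semiA fieldA mapGO fixes_plus semi_one)
open ClassicalSimple (GO simAut bil NegOneOmega pgoAut_eq)
open QForm (plusForm refl)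
open Module (finrank)

universe u

section Range

variable {ι : Type} [Fintype ι] [DecidableEq ι] {F : Type u} [Field F] [Fintype F]
variable {Q : QuadraticForm F (ι → F)}

omit [Fintype F] in
/-- The similarity classes read on the automorphism group. -/
theorem range_equiv [Fintype F] {V : Type*} [Group V] (φ : pgoAut F ⇑Q →* V) (hφ : Function.Surjective φ)
    (hφk : φ.ker = (Inn (POmega F ⇑Q)).subgroupOf (pgoAut F ⇑Q)) : Nonempty ((clsGO Q).range ≃* V) := by
  let ψ : pgoAut F ⇑Q →* (clsGO Q).range :=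
    ((QuotientGroup.mk' (Inn (POmega F ⇑Q))).comp (pgoAut F ⇑Q).subtype).codRestrict _
      fun x => by rw [clsGO_range]; exact Subgroup.mem_map_of_mem _ x.2
  have hψ : Function.Surjective ψ := by
    rintro ⟨x, hx⟩
    rw [clsGO_range] at hx
    obtain ⟨β, hβ, rfl⟩ := hx
    exact ⟨⟨β, hβ⟩, rfl⟩
  have hψk : ψ.ker = φ.ker := by
    rw [hφk]
    ext x
    rw [MonoidHom.mem_ker, Subgroup.mem_subgroupOf, Subtype.ext_iff]
    exact QuotientGroup.eq_one_iff _
  exact ⟨((QuotientGroup.quotientKerEquivOfSurjective ψ hψ).symm.trans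
    (QuotientGroup.quotientMulEquivOfEq hψk)).trans (QuotientGroup.quotientKerEquivOfSurjective φ hφ)⟩

end Range

variable {F : Type u} [Field F] [Fintype F] {m : ℕ}

local notation "Ip" => (Fin m ⊕ Fin m)
local notation "QP" => plusForm F m

omit [Fintype F] in
theorem plus_single_x (i : Fin m) :
    QP (Pi.single (Sum.inl i) 1) = 0 ∧ ∀ x, bil QP (Pi.single (Sum.inl i) 1) x = x (Sum.inr i) := by
  have h0 : QP (Pi.single (Sum.inl i) 1) = 0 := by
    simp [QForm.plusForm_apply, quadFormPlus, Pi.single_apply]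
  refine ⟨h0, fun x => ?_⟩
  rw [ClassicalSimple.bil_apply, QuadraticMap.polar, h0, QForm.plusForm_apply, QForm.plusForm_apply]
  simp [quadFormPlus, Pi.single_apply, add_mul, Finset.sum_add_distrib]

variable (hm : 3 ≤ m)
include hm

omit [Fintype F] in
theorem nondeg_bil_plus : (bil QP).Nondegenerate :=
  ClassicalSimple.bil_nondegenerate _ (QForm.plusForm_nondegenerate F m)

theorem probe_plus : Probe QP := by
  let i : Fin m := ⟨0, by omega⟩
  let j : Fin m := ⟨1, by omega⟩
  have hij : i ≠ j := by simp [i, j, Fin.ext_iff]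
  obtain ⟨hu, bu⟩ := plus_single_x (F := F) i
  obtain ⟨hv, bv⟩ := plus_single_x (F := F) j
  have pu : ∀ k, polarVec ⇑QP (Pi.single (Sum.inl i) 1) k = (Pi.single k 1 : Ip → F) (Sum.inr i) :=
    fun k => bu _
  have pv : ∀ k, polarVec ⇑QP (Pi.single (Sum.inl j) 1) k = (Pi.single k 1 : Ip → F) (Sum.inr j) :=
    fun k => bv _
  refine probe_of_line (nondeg_bil_plus hm) (five_plus hm) _ _ hu hv (by rw [bu]; simp)
    (fun σ k => ?_) fun h => ?_
  · simp only [pu, pv, Pi.single_apply]
    refine ⟨?_, ?_, ?_, ?_⟩ <;> split_ifs <;> simp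
  · have := congrFun (congrFun h (Sum.inl j)) (Sum.inr i)
    simp [Matrix.vecMulVec_apply, pu, pv, hij.symm] at this

/-- In rank at least five semisimilarities give all automorphisms. -/
theorem autData_plus (h5 : 5 ≤ m) : AutData QP where
  nondeg := nondeg_bil_plus hm
  five := five_plus hm
  probe := probe_plus hm
  pair β := by
    have hd : finrank F (Ip → F) = m + m := by rw [Module.finrank_fintype_fun_eq_card]; simp
    obtain ⟨g, σ, hp, hi⟩ := exists_induced QP (nondeg_bil_plus hm) (by omega) (Or.inl (by omega)) β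
    exact ⟨g, σ, hp, AutPO.eq_semiA hp hi⟩

variable (p : ℕ) [Fact p.Prime] [CharP F p]

set_option maxHeartbeats 1600000 in
/-- In rank at least five `Out` is the similarity part times the field automorphisms. -/
theorem out_plus_split (h5 : 5 ≤ m) {f : ℕ} (hf : 1 ≤ f) (hF : Fintype.card F = p ^ f) :
    Nonempty (Out (POmega F ⇑QP) ≃* (clsGO QP).range × Multiplicative (ZMod f)) := by
  obtain ⟨π, hker, hπ⟩ := exists_outGal (autData_plus (F := F) hm h5)
  have hker' : π.ker = (clsGO QP).range := hker.trans (clsGO_range QP).symm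
  obtain ⟨g, hg, hc⟩ := exists_central hm p hf hF
  set y := clsGO QP g * frobCls p
  have hπy : π y = frobeniusEquiv F p := by
    rw [map_mul, MonoidHom.mem_ker.1 (show clsGO QP g ∈ π.ker from hker' ▸ ⟨g, rfl⟩), one_mul]
    exact hπ _ _ (semi_one (fixes_plus (frobeniusEquiv F p)))
  have hord : orderOf (π y) = f := by rw [hπy, orderOf_frob p hf hF]
  have hcard := card_gal p hf hF
  have : Finite (F ≃+* F) := Nat.finite_of_card_ne_zero (by omega)
  have hy : orderOf y = f := Nat.dvd_antisymm (orderOf_dvd_of_pow_eq_one hg) (hord ▸ orderOf_map_dvd π y)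
  obtain ⟨e⟩ := exists_split π (surjective_of_orderOf π (hord.trans hcard.symm)) y (hy.trans hcard.symm)
    (hord.trans hcard.symm) fun a ha => by
      obtain ⟨k, rfl⟩ := hker' ▸ ha
      exact hc k
  rw [hcard] at e
  exact ⟨e.trans (MulEquiv.prodCongr (MulEquiv.subgroupCongr hker') (MulEquiv.refl _))⟩

omit p in
/-- In characteristic two the similarity part has order two. -/
theorem range_plus_two [CharP F 2] :
    rcls (F := F) hm ≠ 1 ∧ ∀ x ∈ (clsGO QP).range, x = 1 ∨ x = rcls hm := by
  classical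
  have hQ := QForm.plusForm_nondegenerate F m
  have hcardI : Fintype.card F ≠ 2 ∨ Fintype.card Ip ≠ 4 := Or.inr (by have := five_plus hm; omega)
  have h20 : (2 : F) = 0 := CharTwo.two_eq_zero
  refine ⟨fun e => ?_, ?_⟩
  · obtain ⟨ω, ⟨ω', hω', hωe⟩, he'⟩ := (clsGO_eq_one_iff QP).1 e
    obtain ⟨c, hc⟩ := (AutPO.simAut_eq_iff hQ (five_plus hm)).1 he'.symm
    set v : Ip → F := rvec hm
    have hv : QP v ≠ 0 := rvec_ne hm
    have hre : (refl QP v hv).1 = ω'.1 * AutPO.scl c := by
      rw [show ω'.1 = ω.1 from hωe]; exact hc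
    have hc2 : (c : F) * c = 1 := by
      have e1 := (ClassicalSimple.mem_isometry_iff QP).1 (refl QP v hv).2 v
      have e2 := (ClassicalSimple.mem_isometry_iff QP).1 ω'.2 v
      rw [hre, Units.val_mul, ← Matrix.mulVec_mulVec, AutPO.scl_mulVec, Matrix.mulVec_smul,
        QuadraticMap.map_smul, e2, smul_eq_mul, mul_eq_right₀ hv] at e1
      exact e1
    have hc1 : c = 1 := Units.ext (by
      have : ((c : F) - 1) * ((c : F) - 1) = 0 := by linear_combination hc2 + (1 - (c : F)) * h20
      exact sub_eq_zero.1 (mul_self_eq_zero.1 this))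
    rw [hc1, map_one, mul_one] at hre
    have hr : refl QP v hv ∈ Omega F ⇑QP := by
      rw [show refl QP v hv = ω' from Subtype.ext hre]; exact hω'
    rw [QForm.mem_omega_iff_even hQ hcardI (refl QP v hv) [v] (by simpa using hv) (by simp; rfl)] at hr
    simp at hr
  · rintro _ ⟨k, rfl⟩
    obtain ⟨c, h, rfl⟩ := exists_d_iso k
    obtain ⟨t, ht⟩ := FiniteField.isSquare_of_char_two (ringChar.eq F 2) (c : F)
    have ht0 : t ≠ 0 := fun e => c.ne_zero (by rw [ht, e, mul_zero])
    rw [map_mul, show c = Units.mk0 t ht0 * Units.mk0 t ht0 from Units.ext ht, cls_dGO_sq hm,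
      dlt_of_isSquare hm (FiniteField.isSquare_of_char_two (ringChar.eq F 2) _), one_pow, one_mul]
    obtain ⟨vs, hvs, hh⟩ := QForm.exists_list hQ hcardI h
    rcases Nat.even_or_odd vs.length with he | ho
    · exact Or.inl (clsI_eq_one ((QForm.mem_omega_iff_even hQ hcardI h vs hvs hh).2 he))
    · refine Or.inr ?_
      have hmem : h * refl QP (rvec hm) (rvec_ne hm) ∈ Omega F ⇑QP := by
        refine (QForm.mem_omega_iff_even hQ hcardI _ (vs ++ [rvec hm])
          (List.forall_mem_append.2 ⟨hvs, by simpa using rvec_ne hm⟩) ?_).2 (by simpa using ho.add_one)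
        rw [List.map_append, List.prod_append, ← hh, List.map_singleton, List.prod_singleton]; rfl
      have e1 := clsI_eq_one hmem
      rw [map_mul] at e1
      exact (eq_inv_of_mul_eq_one_left e1).trans (inv_eq_of_mul_eq_one_right (rcls_mul_self hm))

theorem out_plus_two (h5 : 5 ≤ m) [CharP F 2] {f : ℕ} (hf : 1 ≤ f) (hF : Fintype.card F = 2 ^ f) :
    Nonempty (Out (POmega F ⇑QP) ≃* Multiplicative (ZMod 2 × ZMod f)) := by
  obtain ⟨e⟩ := out_plus_split hm 2 h5 hf hF
  obtain ⟨hrn, hcases⟩ := range_plus_two (F := F) hm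
  have hrk : rcls hm ∈ (clsGO QP).range := ⟨_, rfl⟩
  have hkc : Nat.card (clsGO QP).range = 2 := by
    rw [Nat.card_eq_two_iff' (1 : (clsGO QP).range)]
    exact ⟨⟨_, hrk⟩, fun e => hrn (congrArg Subtype.val e),
      fun x hx => Subtype.ext ((hcases x x.2).resolve_left fun e => hx (Subtype.ext e))⟩
  have : Fact (Nat.Prime 2) := ⟨Nat.prime_two⟩
  have : IsCyclic (clsGO QP).range := isCyclic_of_prime_card hkc
  let e2 : (clsGO QP).range ≃* Multiplicative (ZMod 2) :=
    mulEquivOfCyclicCardEq (by rw [hkc, Nat.card_congr Multiplicative.toAdd, Nat.card_zmod])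
  exact ⟨(e.trans (MulEquiv.prodCongr e2 (MulEquiv.refl _))).trans
    (MulEquiv.prodMultiplicative (ZMod 2) (ZMod f)).symm⟩

omit p in
/-- The similarity part in odd characteristic with `-1` in `Omega`. -/
theorem range_plus_dihedral (hodd : Odd (Fintype.card F)) (hn : ¬ (Odd m ∧ Fintype.card F % 4 = 3)) :
    Nonempty ((clsGO QP).range ≃* DihedralGroup 4) := by
  classical
  have E := ClassicalSimple.evenForm_plus (F := F) hodd hm
  obtain ⟨T⟩ := ClassicalSimple.twist_plus E
  obtain ⟨φ, hφ, hφk⟩ := ClassicalSimple.pgo_inn_dihedral E T ((ClassicalSimple.negOne_plus hodd).2 hn)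
  exact range_equiv φ hφ hφk

omit p in
theorem range_plus_four (hodd : Odd (Fintype.card F)) (hn : Odd m ∧ Fintype.card F % 4 = 3) :
    Nonempty ((clsGO QP).range ≃* Multiplicative (ZMod 2 × ZMod 2)) := by
  classical
  have E := ClassicalSimple.evenForm_plus (F := F) hodd hm
  obtain ⟨T⟩ := ClassicalSimple.twist_plus E
  obtain ⟨φ, hφ, hφk⟩ := ClassicalSimple.pgo_inn_four E T fun h =>
    ((ClassicalSimple.negOne_plus hodd).1 h) hn
  exact range_equiv φ hφ hφk

theorem out_plus_neg (h5 : 5 ≤ m) (hodd : Odd (Fintype.card F)) {f : ℕ} (hf : 1 ≤ f)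
    (hF : Fintype.card F = p ^ f) (hn : ¬ (Odd m ∧ Fintype.card F % 4 = 3)) :
    Nonempty (Out (POmega F ⇑QP) ≃* DihedralGroup 4 × Multiplicative (ZMod f)) := by
  obtain ⟨e⟩ := out_plus_split hm p h5 hf hF
  obtain ⟨e2⟩ := range_plus_dihedral hm hodd hn
  exact ⟨e.trans (MulEquiv.prodCongr e2 (MulEquiv.refl _))⟩

theorem out_plus_pos (h5 : 5 ≤ m) (hodd : Odd (Fintype.card F)) {f : ℕ} (hf : 1 ≤ f)
    (hF : Fintype.card F = p ^ f) (hn : Odd m ∧ Fintype.card F % 4 = 3) :
    Nonempty (Out (POmega F ⇑QP) ≃* Multiplicative (ZMod 2 × ZMod 2 × ZMod f)) := by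
  obtain ⟨e⟩ := out_plus_split hm p h5 hf hF
  obtain ⟨e2⟩ := range_plus_four hm hodd hn
  exact ⟨((e.trans (MulEquiv.prodCongr e2 (MulEquiv.refl _))).trans
    (MulEquiv.prodMultiplicative (ZMod 2 × ZMod 2) (ZMod f)).symm).trans
    (AddEquiv.toMultiplicative AddEquiv.prodAssoc)⟩

end Cfsg.Agent.AutPOmega
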