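import Cfsg.Agent.Lib.AutPOmega.OutEven
import Cfsg.Agent.Lib.AutPO.PlusOrder
import Cfsg.Agent.Lib.AutPO.Reflect
import Cfsg.Agent.Lib.QForm.Levi

/-!
The classes of similarities and of the Frobenius map in the outer automorphism group of the plus-type
orthogonal groups.
-/

set_option autoImplicit false

namespace Cfsg.Agent.AutPOmega

open scoped Matrix MatrixGroups
open AutPO (Semi semiA semiI fieldA mapGO fixes_plus semi_one)
open ClassicalSimple (GO simAut scalarGO isometry_le_GO inn_eq pgoAut_eq diagBlock)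
open QForm (plusForm refl levi)

universe u

section General

variable {ι : Type} [Fintype ι] [DecidableEq ι] {F : Type u} [Field F] [Fintype F]
variable (Q : QuadraticForm F (ι → F))

/-- The class of a similarity. -/
noncomputable def clsGO : GO Q →* Out (POmega F ⇑Q) :=
  (QuotientGroup.mk' (Inn (POmega F ⇑Q))).comp (simAut Q)

/-- An isometry as a similarity. -/
def iso2GO : isometryGroup F ⇑Q →* GO Q := Subgroup.inclusion (isometry_le_GO Q)

/-- The class of an isometry. -/
noncomputable def clsI : isometryGroup F ⇑Q →* Out (POmega F ⇑Q) := (clsGO Q).comp (iso2GO Q)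

theorem clsGO_range : (clsGO Q).range = (pgoAut F ⇑Q).map (QuotientGroup.mk' (Inn (POmega F ⇑Q))) := by
  rw [clsGO, MonoidHom.range_comp, pgoAut_eq]

theorem clsGO_eq_one_iff {g : GO Q} :
    clsGO Q g = 1 ↔ ∃ ω ∈ ClassicalSimple.omegaSub Q, simAut Q ω = simAut Q g := by
  rw [show clsGO Q g = QuotientGroup.mk (simAut Q g) from rfl, QuotientGroup.eq_one_iff, inn_eq]
  rfl

variable {Q}

theorem clsI_eq_one {h : isometryGroup F ⇑Q} (hh : h ∈ Omega F ⇑Q) : clsI Q h = 1 := by
  show clsGO Q (iso2GO Q h) = 1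
  exact (clsGO_eq_one_iff Q).2 ⟨_, ⟨h, hh, rfl⟩, rfl⟩

theorem clsI_congr {a b : isometryGroup F ⇑Q} (h : Abelianization.of a = Abelianization.of b) :
    clsI Q a = clsI Q b := by
  have := clsI_eq_one (Q := Q) (h := a⁻¹ * b) (by
    rw [QForm.mem_omega_iff_abelianization, map_mul, map_inv, h, inv_mul_cancel])
  rw [map_mul, map_inv, inv_mul_eq_one] at this
  exact this

theorem clsI_comm (a b : isometryGroup F ⇑Q) : Commute (clsI Q a) (clsI Q b) := by
  show clsI Q a * clsI Q b = clsI Q b * clsI Q a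
  rw [← map_mul, ← map_mul]
  exact clsI_congr (by rw [map_mul, map_mul, mul_comm])

theorem clsI_mul_self (hQ : (QuadraticMap.polarBilin Q).Nondegenerate) (h5 : 5 ≤ Fintype.card ι)
    (a : isometryGroup F ⇑Q) : clsI Q a * clsI Q a = 1 := by
  rw [← map_mul]
  exact clsI_eq_one ((QForm.mem_omega_iff_abelianization Q _).2 (by
    rw [map_mul]; exact QForm.of_mul_self hQ (Or.inr (by omega)) a))

theorem clsGO_scalar (hQ : (QuadraticMap.polarBilin Q).Nondegenerate) (h5 : 5 ≤ Fintype.card ι) (c : Fˣ) :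
    clsGO Q (scalarGO Q c) = 1 := by
  have h : scalarGO Q c ∈ (simAut Q).ker := by
    rw [ClassicalSimple.ker_simAut Q hQ h5]
    exact ClassicalSimple.scalarGO_mem c
  show QuotientGroup.mk (simAut Q (scalarGO Q c)) = _
  rw [MonoidHom.mem_ker.1 h, QuotientGroup.mk_one]

theorem semiA_eq_of {g g' : GL ι F} {σ σ' : F ≃+* F} (hp : Semi Q g σ) (hp' : Semi Q g' σ') (e : g = g')
    (e' : σ = σ') : semiA hp = semiA hp' := by
  subst e e'; rfl

theorem fieldA_mul {σ τ : F ≃+* F} (hσ : AutPO.Fixes Q σ) (hτ : AutPO.Fixes Q τ)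
    (hστ : AutPO.Fixes Q (σ * τ)) : fieldA hσ * fieldA hτ = fieldA hστ := by
  rw [fieldA, fieldA, semiA_mul]
  exact semiA_eq_of _ _ (by rw [map_one, mul_one]) rfl

/-- The class of a standard field automorphism moves similarities by the field map. -/
theorem field_mul_clsGO {σ : F ≃+* F} (hσ : AutPO.Fixes Q σ) (g : GO Q) :
    (QuotientGroup.mk (fieldA hσ) : Out (POmega F ⇑Q)) * clsGO Q g =
      clsGO Q (mapGO hσ g) * QuotientGroup.mk (fieldA hσ) := by
  show QuotientGroup.mk' (Inn (POmega F ⇑Q)) _ * QuotientGroup.mk' _ (simAut Q g) =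
    QuotientGroup.mk' _ (simAut Q (mapGO hσ g)) * QuotientGroup.mk' _ _
  rw [← map_mul, ← map_mul, AutPO.fieldA_mul_simAut]

/-- A semisimilarity of a form defined over the prime field is a similarity and a field automorphism. -/
theorem semi_eq_field {g : GL ι F} {σ : F ≃+* F} (hσ : AutPO.Fixes Q σ) (hp : Semi Q g σ) :
    ∃ g' : GO Q, semiA hp = simAut Q g' * fieldA hσ := by
  obtain ⟨c, hc⟩ := hp
  have hg : g ∈ GO Q := ⟨c, fun v => by
    have e : (fun i => σ (σ.symm (v i))) = v := funext fun i => σ.apply_symm_apply _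
    have h1 := hc fun i => σ.symm (v i)
    rw [← hσ, e] at h1
    rw [h1]
    exact congrArg (fun w => (c : F) * Q w) e⟩
  exact ⟨⟨g, hg⟩, (AutPO.simAut_mul_fieldA hσ ⟨g, hg⟩).symm⟩

end General

section Plus

variable {F : Type u} [Field F] [Fintype F] {m : ℕ}

local notation "QP" => plusForm F m

/-- `(x, y) ↦ (c x, y)`. -/
noncomputable def dGO : Fˣ →* GO (plusForm F m) where
  toFun c := ⟨Matrix.GeneralLinearGroup.mkOfDetNeZero (diagBlock m (c : F))
      (by rw [ClassicalSimple.det_diagBlock]; exact pow_ne_zero _ c.ne_zero),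
    c, fun v => by
      show QP (diagBlock m (c : F) *ᵥ v) = _
      rw [QForm.plusForm_apply, QForm.plusForm_apply, ClassicalSimple.quad_diagBlock]⟩
  map_one' := Subtype.ext (Units.ext (by
    show diagBlock m ((1 : Fˣ) : F) = 1
    simp [diagBlock, Matrix.fromBlocks_one]))
  map_mul' a b := Subtype.ext (Units.ext (by
    show diagBlock m ((a * b : Fˣ) : F) = diagBlock m (a : F) * diagBlock m (b : F)
    simp [diagBlock, Matrix.fromBlocks_multiply, smul_smul, mul_comm]))

theorem dGO_mulVec (c : Fˣ) (v : Fin m ⊕ Fin m → F) :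
    (dGO c).1.val *ᵥ v = Sum.elim (fun i => (c : F) * v (.inl i)) (fun i => v (.inr i)) := by
  show diagBlock m (c : F) *ᵥ v = _
  funext i
  rcases i with i | i <;> simp [diagBlock, Matrix.fromBlocks_mulVec, Matrix.smul_mulVec]

theorem mapGO_dGO (σ : F ≃+* F) (c : Fˣ) :
    mapGO (fixes_plus σ) (dGO (m := m) c) = dGO (Units.map (σ : F →* F) c) := by
  refine Subtype.ext (Units.ext ?_)
  show (diagBlock m (c : F)).map σ = diagBlock m (σ c)
  ext i j
  rcases i with i | i <;> rcases j with j | j <;>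
    simp [diagBlock, Matrix.one_apply, apply_ite σ]

/-- Every similarity is a diagonal one times an isometry. -/
theorem exists_d_iso (k : GO (plusForm F m)) :
    ∃ (c : Fˣ) (h : isometryGroup F ⇑QP), k = dGO c * iso2GO QP h := by
  obtain ⟨c, hc⟩ := k.2
  have hh : ((dGO c)⁻¹ * k).1 ∈ isometryGroup F ⇑QP := by
    rw [ClassicalSimple.mem_isometry_iff]
    intro v
    set w := ((dGO c)⁻¹ * k).1.val *ᵥ v
    have e : (dGO c).1.val *ᵥ w = k.1.val *ᵥ v := by
      rw [Matrix.mulVec_mulVec, ← Units.val_mul, ← Subgroup.coe_mul, mul_inv_cancel_left]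
    have h1 : QP ((dGO c).1.val *ᵥ w) = (c : F) * QP w := by
      show QP (diagBlock m (c : F) *ᵥ w) = _
      rw [QForm.plusForm_apply, QForm.plusForm_apply, ClassicalSimple.quad_diagBlock]
    rw [e, hc] at h1
    exact (mul_left_cancel₀ c.ne_zero h1).symm
  exact ⟨c, ⟨_, hh⟩, (mul_inv_cancel_left _ _).symm⟩

variable (hm : 3 ≤ m)
include hm

omit [Field F] [Fintype F] in
theorem five_plus : 5 ≤ Fintype.card (Fin m ⊕ Fin m) := by simp; omega

/-- The vector of the standard reflection. -/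
def rvec : Fin m ⊕ Fin m → F :=
  Pi.single (.inl ⟨0, by omega⟩) 1 + Pi.single (.inr ⟨0, by omega⟩) 1

theorem plus_rvec : QP (rvec hm) = 1 := by
  rw [QForm.plusForm_apply, quadFormPlus, Finset.sum_eq_single ⟨0, by omega⟩ (fun j _ hj => by
    simp [rvec, hj]) (by simp)]
  simp [rvec]

theorem rvec_ne : QP (rvec hm) ≠ 0 := by rw [plus_rvec]; exact one_ne_zero

/-- The standard reflection's class. -/
noncomputable def rcls : Out (POmega F ⇑QP) := clsI QP (refl QP (rvec hm) (rvec_ne hm))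

/-- The class of the Levi element with determinant `c`. -/
noncomputable def dlt : Fˣ →* Out (POmega F ⇑QP) :=
  (clsI QP).comp ((levi (F := F) (m := m)).comp
    ((Cfsg.Agent.GL.diagHom (R := F) (ι := Fin m)).comp (MonoidHom.mulSingle (fun _ : Fin m => Fˣ) ⟨0, by omega⟩)))

theorem clsI_levi (A : GL (Fin m) F) : clsI QP (levi A) = dlt hm (Matrix.GeneralLinearGroup.det A) := by
  classical
  set D : GL (Fin m) F := Cfsg.Agent.GL.diagHom (Pi.mulSingle ⟨0, by omega⟩ (Matrix.GeneralLinearGroup.det A))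
  show clsI QP (levi A) = clsI QP (levi D)
  have h : clsI QP (levi (A⁻¹ * D)) = 1 := clsI_eq_one ((QForm.levi_mem_omega_iff (by omega)
    (Or.inr (by omega)) _).2 (by
      rw [← Matrix.GeneralLinearGroup.val_det_apply, map_mul, map_inv, Cfsg.Agent.GL.det_diagHom,
        Fintype.prod_pi_mulSingle', inv_mul_cancel]
      exact IsSquare.one))
  rwa [map_mul, map_inv, map_mul, map_inv, inv_mul_eq_one] at h

theorem dlt_mul_self (c : Fˣ) : dlt hm c * dlt hm c = 1 :=
  clsI_mul_self AutPO.nondeg_plus (five_plus hm) _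

theorem dlt_square (t : Fˣ) : dlt hm (t * t) = 1 := by rw [map_mul, dlt_mul_self]

theorem dlt_of_isSquare {c : Fˣ} (h : IsSquare (c : F)) : dlt hm c = 1 := by
  obtain ⟨t, ht⟩ := h
  have : t ≠ 0 := fun e => c.ne_zero (by rw [ht, e, mul_zero])
  rw [show c = Units.mk0 t this * Units.mk0 t this from Units.ext ht, dlt_square]

theorem dlt_pow_even {n : ℕ} (hn : Even n) (c : Fˣ) : dlt hm c ^ n = 1 := by
  obtain ⟨k, rfl⟩ := hn
  rw [← two_mul, pow_mul, pow_two, dlt_mul_self, one_pow]

omit hm in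
theorem scalar_mul_levi (x : Fˣ) : scalarGO QP x * iso2GO QP (levi (Cfsg.Agent.GL.diagHom fun _ => x)) = dGO (x * x) := by
  refine Subtype.ext (Units.ext (Matrix.ext_iff_mulVec.2 fun v => ?_))
  have hinv : ((Cfsg.Agent.GL.diagHom (fun _ => x) : GL (Fin m) F) : Matrix (Fin m) (Fin m) F)⁻¹ =
      Matrix.diagonal fun _ => (↑x⁻¹ : F) := by
    rw [← Matrix.coe_units_inv, ← map_inv, Cfsg.Agent.GL.coe_diagHom]
    rfl
  show ((AutPO.scl x).val * (levi (Cfsg.Agent.GL.diagHom fun _ => x)).1.val) *ᵥ v = _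
  rw [← Matrix.mulVec_mulVec, AutPO.scl_mulVec, dGO_mulVec, QForm.coe_levi, hinv, Cfsg.Agent.GL.coe_diagHom]
  funext i
  rcases i with i | i <;>
    simp [Matrix.fromBlocks_mulVec, Matrix.diagonal_transpose, Matrix.mulVec_diagonal, mul_assoc]

/-- Diagonal similarities with square multiplier. -/
theorem cls_dGO_sq (x : Fˣ) : clsGO QP (dGO (x * x)) = dlt hm x ^ m := by
  rw [← scalar_mul_levi, map_mul, clsGO_scalar AutPO.nondeg_plus (five_plus hm), one_mul,
    show clsGO QP (iso2GO QP (levi (Cfsg.Agent.GL.diagHom fun _ => x))) = _ from clsI_levi hm _, Cfsg.Agent.GL.det_diagHom,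
    Fin.prod_const, map_pow]

theorem refl_dGO (c : Fˣ) :
    iso2GO QP (refl QP (rvec hm) (rvec_ne hm)) * dGO c * iso2GO QP (refl QP (rvec hm) (rvec_ne hm)) =
      dGO c * iso2GO QP (levi (Cfsg.Agent.GL.diagHom (Pi.mulSingle ⟨0, by omega⟩ c⁻¹))) := by
  classical
  refine Subtype.ext (Units.ext (Matrix.ext_iff_mulVec.2 fun v => ?_))
  set i₀ : Fin m := ⟨0, by omega⟩ with hi
  have hinv : ((Cfsg.Agent.GL.diagHom (Pi.mulSingle i₀ c⁻¹) : GL (Fin m) F) : Matrix (Fin m) (Fin m) F)⁻¹ =
      Matrix.diagonal fun j => ((Pi.mulSingle i₀ c : Fin m → Fˣ) j : F) := by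
    rw [← Matrix.coe_units_inv, ← map_inv, ← Pi.mulSingle_inv, inv_inv, Cfsg.Agent.GL.coe_diagHom]
  have hr : ∀ w : Fin m ⊕ Fin m → F, (refl QP (rvec hm) (rvec_ne hm)).1.val *ᵥ w =
      w - (w (.inr i₀) + w (.inl i₀)) • rvec hm := fun w => by
    show QForm.act QP _ w = _
    rw [QForm.act_refl, plus_rvec, inv_one, one_mul, QForm.coe_plusForm, QForm.polar_plus,
      Finset.sum_eq_single i₀ (fun j _ hj => by simp [rvec, hi ▸ hj]) (by simp)]
    simp [rvec, ← hi]
  show ((refl QP (rvec hm) (rvec_ne hm)).1.val * (dGO c).1.val * (refl QP (rvec hm) (rvec_ne hm)).1.val) *ᵥ v =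
    ((dGO c).1.val * (levi (Cfsg.Agent.GL.diagHom (Pi.mulSingle i₀ c⁻¹))).1.val) *ᵥ v
  rw [← Matrix.mulVec_mulVec, ← Matrix.mulVec_mulVec, ← Matrix.mulVec_mulVec, hr, hr, dGO_mulVec, dGO_mulVec,
    QForm.coe_levi, hinv, Cfsg.Agent.GL.coe_diagHom]
  funext j
  rcases j with j | j <;> by_cases hj : j = i₀ <;>
    simp [rvec, ← hi, hj, Matrix.fromBlocks_mulVec, Matrix.diagonal_transpose, Matrix.mulVec_diagonal]

/-- The standard reflection moves diagonal similarities by a Levi class. -/
theorem rcls_dGO (c : Fˣ) : rcls hm * clsGO QP (dGO c) * rcls hm = clsGO QP (dGO c) * dlt hm c := by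
  have h := congrArg (clsGO QP) (refl_dGO hm c)
  rw [map_mul, map_mul, map_mul] at h
  refine h.trans (congrArg _ ?_)
  have : dlt hm c⁻¹ = dlt hm c := by rw [map_inv]; exact inv_eq_of_mul_eq_one_right (dlt_mul_self hm c)
  exact this

theorem rcls_mul_self : rcls (F := F) hm * rcls hm = 1 :=
  clsI_mul_self AutPO.nondeg_plus (five_plus hm) _

variable (p : ℕ) [Fact p.Prime] [CharP F p]

omit hm in
theorem isSquare_mul_frob (x : F) : IsSquare (x * frobeniusEquiv F p x) := by
  show IsSquare (x * x ^ p)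
  rcases (Fact.out : p.Prime).eq_two_or_odd' with h | h
  · subst h
    exact FiniteField.isSquare_of_char_two (ringChar.eq F 2) _
  · rw [← pow_succ']
    exact (h.add_one).isSquare_pow x

/-- Frobenius fixes the classes of isometries. -/
theorem frob_clsI (h : isometryGroup F ⇑QP) :
    clsGO QP (mapGO (fixes_plus (frobeniusEquiv F p)) (iso2GO QP h)) = clsI QP h := by
  classical
  set σ := frobeniusEquiv F p
  have hQ := AutPO.nondeg_plus (F := F) (m := m)
  obtain ⟨vs, hvs, hg⟩ := QForm.exists_list hQ (Or.inr (by have := five_plus hm; omega)) h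
  induction vs generalizing h with
  | nil =>
    obtain rfl : h = 1 := Subtype.ext (Units.ext hg)
    simp
  | cons v vs ih =>
    have hv := hvs v List.mem_cons_self
    obtain ⟨h', hh'⟩ := QForm.exists_prod_refl QP vs fun w hw => hvs w (List.mem_cons_of_mem _ hw)
    obtain rfl : h = refl QP v hv * h' := Subtype.ext (Units.ext (by
      rw [hg, List.map_cons, List.prod_cons, ← hh']; rfl))
    have hσv : QP (σ ∘ v) ≠ 0 := by
      rw [fixes_plus σ v]; exact (map_ne_zero σ).2 hv
    have e : mapGO (fixes_plus σ) (iso2GO QP (refl QP v hv)) = iso2GO QP (refl QP (σ ∘ v) hσv) := by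
      refine Subtype.ext (Units.ext ?_)
      show (reflectionMatrix ⇑QP v).map σ = reflectionMatrix ⇑QP (σ ∘ v)
      exact AutPO.reflectionMatrix_map σ.toRingHom (Q := QP) (Q₀ := QP)
        (fun w => AutPO.plusForm_map σ.toRingHom w) v
    rw [map_mul, map_mul, map_mul, map_mul, e, ih h' (fun w hw => hvs w (List.mem_cons_of_mem _ hw)) hh']
    congr 1
    exact clsI_congr (QForm.of_refl_eq hQ hσv hv (by
      rw [fixes_plus σ v, mul_comm]; exact isSquare_mul_frob p _))

/-- Frobenius on diagonal similarities. -/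
theorem frob_dGO (c : Fˣ) :
    clsGO QP (mapGO (fixes_plus (frobeniusEquiv F p)) (dGO c)) =
      clsGO QP (dGO c) * dlt hm c ^ (p / 2 * m) := by
  rw [mapGO_dGO, show Units.map (frobeniusEquiv F p : F →* F) c = c ^ p from Units.ext (by rw [Units.val_pow_eq_pow_val]; rfl)]
  rcases (Fact.out : p.Prime).eq_two_or_odd' with h | h
  · subst h
    obtain ⟨t, ht⟩ := FiniteField.isSquare_of_char_two (ringChar.eq F 2) (c : F)
    have h1 : ∀ x : Fˣ, dlt hm x = 1 := fun x =>
      dlt_of_isSquare hm (FiniteField.isSquare_of_char_two (ringChar.eq F 2) _)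
    have ht0 : t ≠ 0 := fun e => c.ne_zero (by rw [ht, e, mul_zero])
    rw [sq, cls_dGO_sq hm, show c = Units.mk0 t ht0 * Units.mk0 t ht0 from Units.ext ht, cls_dGO_sq hm]
    simp [h1]
  · obtain ⟨j, rfl⟩ := h
    rw [show (2 * j + 1) / 2 = j by omega,
      show c ^ (2 * j + 1) = c * (c ^ j * c ^ j) by rw [← pow_add, ← two_mul, ← pow_succ'], map_mul, map_mul,
      cls_dGO_sq hm, map_pow, ← pow_mul]

/-- The class of the Frobenius automorphism. -/
noncomputable def frobCls : Out (POmega F ⇑QP) :=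
  QuotientGroup.mk (fieldA (fixes_plus (m := m) (frobeniusEquiv F p)))

theorem frobCls_clsI (h : isometryGroup F ⇑QP) : Commute (clsI QP h) (frobCls p) := by
  refine Commute.symm ?_
  show frobCls p * clsI QP h = _
  rw [show clsI QP h = clsGO QP (iso2GO QP h) from rfl, frobCls, field_mul_clsGO, frob_clsI hm]
  rfl

theorem frobCls_clsGO (hd : ∀ c : Fˣ, dlt (F := F) hm c ^ (p / 2 * m) = 1) (k : GO (plusForm F m)) :
    Commute (clsGO QP k) (frobCls p) := by
  obtain ⟨c, h, rfl⟩ := exists_d_iso k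
  rw [map_mul]
  refine Commute.mul_left (Commute.symm ?_) (frobCls_clsI hm p h)
  show frobCls p * clsGO QP (dGO c) = _
  rw [frobCls, field_mul_clsGO, frob_dGO hm, hd, mul_one]

theorem frobCls_clsGO_even (he : Even m) (k : GO (plusForm F m)) : Commute (clsGO QP k) (frobCls p) :=
  frobCls_clsGO hm p (fun c => dlt_pow_even hm (he.mul_left _) c) k

omit hm in
theorem frobCls_pow {f : ℕ} (hf : 1 ≤ f) (hF : Fintype.card F = p ^ f) :
    (frobCls (m := m) (F := F) p) ^ f = 1 := by
  rw [frobCls, ← QuotientGroup.mk_pow, AutPO.fieldA_pow_eq_one _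
    (orderOf_dvd_iff_pow_eq_one.1 (dvd_of_eq (orderOf_frob p hf hF))), QuotientGroup.mk_one]

set_option maxHeartbeats 1600000 in
/-- A lift of Frobenius centralising the similarity classes. -/
theorem exists_central {f : ℕ} (hf : 1 ≤ f) (hF : Fintype.card F = p ^ f) :
    ∃ g : GO (plusForm F m), (clsGO QP g * frobCls p) ^ f = 1 ∧
      ∀ k : GO (plusForm F m), Commute (clsGO QP k) (clsGO QP g * frobCls p) := by
  classical
  by_cases hd : ∀ c : Fˣ, dlt (F := F) hm c ^ (p / 2 * m) = 1
  · refine ⟨1, ?_, fun k => ?_⟩ <;> rw [map_one, one_mul]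
    · exact frobCls_pow p hf hF
    · exact frobCls_clsGO hm p hd k
  have hjm : Odd (p / 2 * m) := by
    by_contra h
    exact hd fun c => dlt_pow_even hm (Nat.not_odd_iff_even.1 h) c
  have hp : Odd p := by
    rcases (Fact.out : p.Prime).eq_two_or_odd' with h | h
    · subst h
      refine (hd fun c => ?_).elim
      rw [dlt_of_isSquare hm (FiniteField.isSquare_of_char_two (ringChar.eq F 2) _), one_pow]
    · exact h
  have hfe : Even f := by
    by_contra hfo
    rw [Nat.not_even_iff_odd] at hfo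
    refine hd fun c => ?_
    have hp4 : p % 4 = 3 := by
      obtain ⟨j, hj⟩ := (Nat.odd_mul.1 hjm).1
      obtain ⟨i, hi⟩ := hp
      omega
    have hq : Fintype.card F % 4 = 3 := by
      obtain ⟨i, hi⟩ := hfo
      rw [hF, hi, pow_succ, pow_mul, Nat.mul_mod, Nat.pow_mod, Nat.pow_mod p 2, hp4]
      norm_num
    have hn1 : ¬ IsSquare (-1 : F) := by rw [FiniteField.isSquare_neg_one_iff]; simp [hq]
    have hneg : dlt hm (-1 : Fˣ) = 1 := by
      have h1 : dlt hm (-1 : Fˣ) ^ m = 1 := by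
        rw [← cls_dGO_sq hm, neg_mul_neg, one_mul, map_one, map_one]
      obtain ⟨i, hi⟩ := (Nat.odd_mul.1 hjm).2
      rwa [congrArg (fun n : ℕ => dlt (F := F) hm (-1) ^ n) hi, pow_succ, dlt_pow_even hm ⟨i, two_mul i⟩,
        one_mul] at h1
    have h1 : dlt hm c = 1 := by
      by_cases hc : IsSquare (c : F)
      · exact dlt_of_isSquare hm hc
      · have hsq := (QForm.isSquare_mul_nonsquare_iff c.ne_zero hn1).2 hc
        rw [show c = -1 * -c by simp, map_mul, hneg, one_mul]
        exact dlt_of_isSquare hm (by simpa using hsq)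
    rw [h1, one_pow]
  have hrY : Commute (rcls (F := F) hm) (frobCls p) := frobCls_clsI hm p _
  refine ⟨iso2GO QP (refl QP (rvec hm) (rvec_ne hm)), ?_, fun k => ?_⟩
  · show (rcls hm * frobCls p) ^ f = 1
    obtain ⟨i, hi⟩ := hfe
    rw [hrY.mul_pow, frobCls_pow p hf hF, mul_one, hi, ← two_mul, pow_mul, pow_two, rcls_mul_self, one_pow]
  · show Commute (clsGO QP k) (rcls hm * frobCls p)
    obtain ⟨c, h, rfl⟩ := exists_d_iso k
    rw [map_mul]
    refine Commute.mul_left (Commute.symm ?_) ((clsI_comm _ _).mul_right (frobCls_clsI hm p h))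
    show rcls hm * frobCls p * clsGO QP (dGO c) = _
    have hodd : dlt hm c ^ (p / 2 * m) = dlt hm c := by
      obtain ⟨i, hi⟩ := hjm
      rw [hi, pow_succ, dlt_pow_even hm ⟨i, two_mul i⟩, one_mul]
    rw [mul_assoc, frobCls, field_mul_clsGO, frob_dGO hm, hodd, ← rcls_dGO hm, ← mul_assoc, ← mul_assoc,
      ← mul_assoc, rcls_mul_self, one_mul]
    simp only [mul_assoc]

end Plus

end Cfsg.Agent.AutPOmega
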