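import Cfsg.Agent.Lib.AutPOmega.Incidence

/-!
An automorphism of the central quotient induces a bijection of lines preserving incidence, hence a map
on singular points.
-/

set_option autoImplicit false

namespace Cfsg.Agent.AutPOmega

open ClassicalSimple Module

variable {F V : Type*} [Field F] [AddCommGroup V] [Module F V] {Q : QuadraticForm F V}

/-- The map of lines belonging to an automorphism. -/
def IsLineMap (β : MulAut (PS Q)) (σ : Submodule F V → Submodule F V) : Prop :=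
  ∀ L, TSLine Q L → TSLine Q (σ L) ∧ (rootImg Q L).map β.toMonoidHom = rootImg Q (σ L)

/-- The map of lines keeps intersecting lines intersecting. -/
def MeetPres (β : MulAut (PS Q)) : Prop :=
  ∀ σ, IsLineMap β σ → ∀ L M, TSLine Q L → TSLine Q M → Meet L M → Meet (σ L) (σ M)

/-- `u'` is the image of the singular point `u`. -/
def PtImg (Q : QuadraticForm F V) (σ : Submodule F V → Submodule F V) (u u' : V) : Prop :=
  (u' ≠ 0 ∧ Q u' = 0) ∧ ∀ L, TSLine Q L → (u ∈ L ↔ u' ∈ σ L)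

variable [Finite F] [FiniteDimensional F V] (hN : (bil Q).Nondegenerate)
variable (h7 : 7 ≤ finrank F V)
variable (hD : 9 ≤ finrank F V ∨ ∀ W : Submodule F V, (∀ x ∈ W, Q x = 0) → finrank F W ≤ 3)
variable {β : MulAut (PS Q)} {σ τ : Submodule F V → Submodule F V}
include hN h7

theorem exists_lineMap (β : MulAut (PS Q)) : ∃ σ, IsLineMap β σ := by
  classical
  refine ⟨fun L => if h : TSLine Q L then Classical.choose (exists_line_image hN (by omega) β h) else L,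
    fun L hL => ?_⟩
  simp only [dif_pos hL]
  exact Classical.choose_spec (exists_line_image hN (by omega) β hL)

theorem lineMap_left_inv (hσ : IsLineMap β σ) (hτ : IsLineMap β⁻¹ τ) {L : Submodule F V}
    (hL : TSLine Q L) : τ (σ L) = L := by
  obtain ⟨h1, e1⟩ := hσ L hL
  obtain ⟨h2, e2⟩ := hτ _ h1
  refine rootImg_inj hN (by omega) h2 hL ?_
  rw [← e2, ← e1, Subgroup.map_map]
  convert Subgroup.map_id (rootImg Q L) using 2
  ext x
  simp

theorem lineMap_inj (hσ : IsLineMap β σ) {L M : Submodule F V} (hL : TSLine Q L) (hM : TSLine Q M) :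
    σ L = σ M ↔ L = M := by
  refine ⟨fun e => ?_, fun e => e ▸ rfl⟩
  refine rootImg_inj hN (by omega) hL hM ?_
  have := (hσ L hL).2.trans ((congrArg (rootImg Q) e).trans (hσ M hM).2.symm)
  exact Subgroup.map_injective (f := β.toMonoidHom) β.injective this

omit [Finite F] [FiniteDimensional F V] hN h7 in
theorem lineMap_commG (hσ : IsLineMap β σ) {L M : Submodule F V} (hL : TSLine Q L) (hM : TSLine Q M) :
    CommG (rootImg Q (σ L)) (rootImg Q (σ M)) ↔ CommG (rootImg Q L) (rootImg Q M) := by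
  rw [← (hσ L hL).2, ← (hσ M hM).2]
  constructor
  · intro h x hx y hy
    have e := h _ (Subgroup.mem_map_of_mem _ hx) _ (Subgroup.mem_map_of_mem _ hy)
    exact β.injective (by rw [map_mul, map_mul]; exact e)
  · rintro h _ ⟨x, hx, rfl⟩ _ ⟨y, hy, rfl⟩
    exact (h x hx y hy).map _

theorem lineMap_adj (hσ : IsLineMap β σ) {L M : Submodule F V} (hL : TSLine Q L) (hM : TSLine Q M) :
    Adj Q (σ L) (σ M) ↔ Adj Q L M := by
  rw [← adjG_iff hN (by omega) (hσ L hL).1 (hσ M hM).1, ← adjG_iff hN (by omega) hL hM]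
  obtain ⟨τ, hτ⟩ := exists_lineMap hN h7 β⁻¹
  constructor
  · rintro ⟨hne, hc, hp⟩
    refine ⟨fun e => hne ?_, (lineMap_commG hσ hL hM).1 hc, fun x hx y hy => ?_⟩
    · rw [← (hσ L hL).2, ← (hσ M hM).2, e]
    obtain ⟨N, hN', hmem⟩ := hp (β x) ((hσ L hL).2 ▸ Subgroup.mem_map_of_mem _ hx)
      (β y) ((hσ M hM).2 ▸ Subgroup.mem_map_of_mem _ hy)
    refine ⟨τ N, (hτ N hN').1, (hτ N hN').2 ▸ ⟨_, hmem, ?_⟩⟩
    simp [← map_mul]
  · rintro ⟨hne, hc, hp⟩
    refine ⟨fun e => hne ?_, (lineMap_commG hσ hL hM).2 hc, ?_⟩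
    · rw [← (hσ L hL).2, ← (hσ M hM).2] at e
      exact Subgroup.map_injective (f := β.toMonoidHom) β.injective e
    intro x hx y hy
    rw [← (hσ L hL).2] at hx
    rw [← (hσ M hM).2] at hy
    obtain ⟨x, hx, rfl⟩ := hx
    obtain ⟨y, hy, rfl⟩ := hy
    obtain ⟨N, hN', hmem⟩ := hp x hx y hy
    exact ⟨σ N, (hσ N hN').1, (hσ N hN').2 ▸ ⟨_, hmem, map_mul _ _ _⟩⟩

theorem lineMap_CN (hσ : IsLineMap β σ) {L M N : Submodule F V} (hL : TSLine Q L)
    (hM : TSLine Q M) (hN' : TSLine Q N) : CN Q (σ L) (σ M) (σ N) ↔ CN Q L M N :=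
  and_congr (iff_of_true (hσ N hN').1 hN')
    (and_congr (lineMap_adj hN h7 hσ hN' hL) (lineMap_adj hN h7 hσ hN' hM))

theorem lineMap_grid_mp (hσ : IsLineMap β σ) {L M : Submodule F V} (hL : TSLine Q L)
    (hM : TSLine Q M) (hG : Grid Q L M) : Grid Q (σ L) (σ M) := by
  obtain ⟨τ, hτ⟩ := exists_lineMap hN h7 β⁻¹
  obtain ⟨N, N', h1, h2, hne, hna, A, B, hAB, hiff⟩ := hG
  have hA := ((hiff A).2 (Or.inl rfl)).1.1
  have hB := ((hiff B).2 (Or.inr rfl)).1.1
  refine ⟨σ N, σ N', (lineMap_CN hN h7 hσ hL hM h1.1).2 h1, (lineMap_CN hN h7 hσ hL hM h2.1).2 h2,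
    fun e => hne ((lineMap_inj hN h7 hσ h1.1 h2.1).1 e),
    fun e => hna ((lineMap_adj hN h7 hσ h1.1 h2.1).1 e), σ A, σ B,
    fun e => hAB ((lineMap_inj hN h7 hσ hA hB).1 e), fun C => ⟨fun hC => ?_, ?_⟩⟩
  · have hC' := hC.1.1
    have hback : σ (τ C) = C := lineMap_left_inv hN h7 hτ (by simpa using hσ) hC'
    rw [← hback] at hC ⊢
    have ht := (hτ C hC').1
    rw [lineMap_CN hN h7 hσ hL hM ht, lineMap_adj hN h7 hσ ht h1.1, lineMap_adj hN h7 hσ ht h2.1] at hC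
    exact ((hiff _).1 hC).imp (congrArg σ) (congrArg σ)
  · intro hC
    rcases hC with rfl | rfl
    · rw [lineMap_CN hN h7 hσ hL hM hA, lineMap_adj hN h7 hσ hA h1.1, lineMap_adj hN h7 hσ hA h2.1]
      exact (hiff _).2 (Or.inl rfl)
    · rw [lineMap_CN hN h7 hσ hL hM hB, lineMap_adj hN h7 hσ hB h1.1, lineMap_adj hN h7 hσ hB h2.1]
      exact (hiff _).2 (Or.inr rfl)

include hD

/-- Away from dimension eight of plus type, every automorphism preserves intersection of lines. -/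
theorem meetPres_of_dim (β : MulAut (PS Q)) : MeetPres β := by
  intro σ hσ L M hL hM hm
  by_cases hp : Perp Q L M
  · exact ((lineMap_adj hN h7 hσ hL hM).2 ⟨hm, hp⟩).1
  obtain ⟨τ, hτ⟩ := exists_lineMap hN h7 β⁻¹
  obtain ⟨hL', -⟩ := hσ L hL
  obtain ⟨hM', -⟩ := hσ M hM
  have hne : σ L ≠ σ M := fun e => hm.1 ((lineMap_inj hN h7 hσ hL hM).1 e)
  have hc := (lineMap_commG hσ hL hM).2
    ((commG_iff hN (by omega) hL hM).2 (Or.inr (Or.inl hm)))
  by_contra hcon
  have hp' := (((commG_iff hN (by omega) hL' hM').1 hc).resolve_left hne).resolve_left hcon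
  have hg := lineMap_grid_mp hN h7 hτ hL' hM' (grid_of_perp hL' hM' hp'
    fun z hz1 hz2 => by_contra fun z0 => hcon ⟨hne, z, z0, hz1, hz2⟩)
  rw [lineMap_left_inv hN h7 hσ hτ hL, lineMap_left_inv hN h7 hσ hτ hM] at hg
  exact not_grid_of_meet hN hD hL hM hm hp hg

omit hD
variable (hMP : MeetPres β)
include hMP

theorem lineMap_meet (hσ : IsLineMap β σ) {L M : Submodule F V} (hL : TSLine Q L) (hM : TSLine Q M) :
    Meet (σ L) (σ M) ↔ Meet L M := by
  classical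
  refine ⟨fun h => ?_, hMP σ hσ L M hL hM⟩
  haveI : Finite V := Module.finite_of_finite F
  haveI : Finite (Submodule F V) := Finite.of_injective (fun W => (W : Set V)) SetLike.coe_injective
  let S : Set (Submodule F V × Submodule F V) := {P | TSLine Q P.1 ∧ TSLine Q P.2 ∧ Meet P.1 P.2}
  let f : S → S := fun P => ⟨(σ P.1.1, σ P.1.2),
    (hσ _ P.2.1).1, (hσ _ P.2.2.1).1, hMP σ hσ _ _ P.2.1 P.2.2.1 P.2.2.2⟩
  have hf : Function.Injective f := fun P P' e => by
    have e1 := congrArg (fun x : S => x.1.1) e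
    have e2 := congrArg (fun x : S => x.1.2) e
    exact Subtype.ext (Prod.ext ((lineMap_inj hN h7 hσ P.2.1 P'.2.1).1 e1)
      ((lineMap_inj hN h7 hσ P.2.2.1 P'.2.2.1).1 e2))
  obtain ⟨P, hP⟩ := Finite.injective_iff_surjective.1 hf ⟨(σ L, σ M), (hσ L hL).1, (hσ M hM).1, h⟩
  have e1 := congrArg (fun x : S => x.1.1) hP
  have e2 := congrArg (fun x : S => x.1.2) hP
  rw [← (lineMap_inj hN h7 hσ P.2.1 hL).1 e1, ← (lineMap_inj hN h7 hσ P.2.2.1 hM).1 e2]
  exact P.2.2.2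

omit hMP in
theorem exists_cross {u : V} (hu0 : u ≠ 0) (hu : Q u = 0) :
    ∃ v w, IsLinePair Q u v ∧ IsLinePair Q u w ∧ bil Q v w = 1 := by
  obtain ⟨y1, h1⟩ := orth_exists_ne_zero hN hu0
  obtain ⟨v, hv0, hv, hφ⟩ := exists_singular (Q := Q) ![bil Q u, bil Q y1]
    (by rw [Fintype.card_fin]; omega)
  rw [forall_vec2 (P := fun φ : Module.Dual F V => φ v = 0)] at hφ
  have hi : LinearIndependent F ![u, y1, v] := by
    rw [Fintype.linearIndependent_iff]
    intro c hc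
    simp only [Fin.sum_univ_three, Matrix.cons_val] at hc
    have e1 := congrArg (bil Q u) hc
    simp [bil_self_of_singular hu, h1, hφ.1] at e1
    rw [e1] at hc
    have e2 := congrArg (bil Q y1) hc
    simp [bil_comm y1 u, h1, hφ.2] at e2
    simp [e2, hv0] at hc
    simp [Fin.forall_fin_succ, e1, e2, hc]
  obtain ⟨t, ht⟩ := exists_eval_eq _ (linearIndependent_bil hN hi) ![0, 0, 1]
  simp only [Fin.forall_fin_succ, IsEmpty.forall_iff, and_true, Matrix.cons_val_zero,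
    Matrix.cons_val_succ] at ht
  obtain ⟨t1, t2, t3⟩ := ht
  have mk : ∀ x : V, x ≠ 0 → Q x = 0 → bil Q u x = 0 → bil Q y1 x = 0 → IsLinePair Q u x :=
    fun x x0 hx e1 e2 => ⟨(LinearIndependent.pair_iff' hu0).2 fun a e => x0 (by
      rw [← e, map_smul, smul_eq_mul, bil_comm y1 u, mul_eq_zero, or_iff_left h1] at e2
      rw [← e, e2, zero_smul]), hu, hx, e1⟩
  have hw : bil Q v (t - Q t • v) = 1 := by simp [t3, bil_self_of_singular hv]
  refine ⟨v, t - Q t • v, mk v hv0 hv hφ.1 hφ.2, mk _ ?_ ?_ ?_ ?_, hw⟩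
  · intro e
    rw [e, map_zero] at hw
    exact zero_ne_one hw
  · rw [quad_sub, quad_smul_vec, hv, map_smul, bil_comm t v, t3, smul_eq_mul]; ring
  · simp [t1, hφ.1]
  · simp [t2, hφ.2]

theorem exists_ptImg (hσ : IsLineMap β σ) {u : V} (hu0 : u ≠ 0) (hu : Q u = 0) :
    ∃ u', PtImg Q σ u u' := by
  obtain ⟨v, w, hv, hw, hvw⟩ := exists_cross hN h7 hu0 hu
  set L := Submodule.span F ({u, v} : Set V) with hLdef
  set M := Submodule.span F ({u, w} : Set V) with hMdef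
  have hvw' : bil Q v w ≠ 0 := hvw ▸ one_ne_zero
  have hL := tsLine_span hv
  have hM := tsLine_span hw
  have hnp : ¬ Perp Q L M := fun h => hvw' (h v mem_span_right w mem_span_right)
  have hm : Meet L M := ⟨fun e => hvw' (bil_of_singular hL.2 mem_span_right
    (show w ∈ L by rw [e]; exact mem_span_right)), u, hu0, mem_span_left, mem_span_left⟩
  have hm' := hMP σ hσ _ _ hL hM hm
  obtain ⟨hne', u', hu'0, huL', huM'⟩ := hm'
  have hL' := (hσ L hL).1
  have hM' := (hσ M hM).1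
  obtain ⟨v', hv', eL⟩ := hL'.exists_second hu'0 huL'
  obtain ⟨w', hw', eM⟩ := hM'.exists_second hu'0 huM'
  have hvw2 : bil Q v' w' ≠ 0 := fun e => hnp
    ((lineMap_adj hN h7 hσ hL hM).1 ⟨⟨hne', u', hu'0, huL', huM'⟩, by
      rw [eL, eM]; exact perp_span hv'.pp hw'.orth hv'.orth' e⟩).2
  refine ⟨u', ⟨hu'0, hL'.2 _ huL'⟩, fun N hN' => ⟨fun h => ?_, fun h => ?_⟩⟩
  · by_cases e1 : N = L
    · rw [e1]; exact huL'
    by_cases e2 : N = M
    · rw [e2]; exact huM'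
    exact mem_of_meet_meet hv' hw' hvw2 (hσ N hN').1
      (eL ▸ hMP σ hσ _ _ hN' hL ⟨e1, u, hu0, h, mem_span_left⟩)
      (eM ▸ hMP σ hσ _ _ hN' hM ⟨e2, u, hu0, h, mem_span_left⟩)
  · by_cases e1 : N = L
    · rw [e1]; exact mem_span_left
    by_cases e2 : N = M
    · rw [e2]; exact mem_span_left
    exact mem_of_meet_meet hv hw hvw' hN'
      ((lineMap_meet hN h7 hMP hσ hN' hL).1 ⟨fun e => e1 ((lineMap_inj hN h7 hσ hN' hL).1 e),
        u', hu'0, h, huL'⟩)
      ((lineMap_meet hN h7 hMP hσ hN' hM).1 ⟨fun e => e2 ((lineMap_inj hN h7 hσ hN' hM).1 e),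
        u', hu'0, h, huM'⟩)

omit hMP in
theorem ptImg_unique (hσ : IsLineMap β σ) {u u' u'' : V} (hu0 : u ≠ 0) (hu : Q u = 0)
    (h : PtImg Q σ u u') (h' : PtImg Q σ u u'') : ∃ c : F, c • u' = u'' := by
  obtain ⟨v, w, hv, hw, hvw⟩ := exists_cross hN h7 hu0 hu
  refine meet_sameLine (hσ _ (tsLine_span hv)).1 (hσ _ (tsLine_span hw)).1 (fun e => ?_) h.1.1
    ((h.2 _ (tsLine_span hv)).1 mem_span_left) ((h.2 _ (tsLine_span hw)).1 mem_span_left)
    ((h'.2 _ (tsLine_span hv)).1 mem_span_left) ((h'.2 _ (tsLine_span hw)).1 mem_span_left)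
  have e' := (lineMap_inj hN h7 hσ (tsLine_span hv) (tsLine_span hw)).1 e
  exact one_ne_zero (hvw.symm.trans (bil_of_singular (tsLine_span hv).2 mem_span_right
    (show w ∈ _ by rw [e']; exact mem_span_right)))

omit [Finite F] [FiniteDimensional F V] hN h7 hMP in
theorem ptImg_smul {u u' : V} (h : PtImg Q σ u u') {a b : F} (ha : a ≠ 0) (hb : b ≠ 0) :
    PtImg Q σ (a • u) (b • u') :=
  ⟨⟨smul_ne_zero hb h.1.1, by rw [quad_smul_vec, h.1.2, mul_zero]⟩, fun L hL => by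
    rw [L.smul_mem_iff ha, (σ L).smul_mem_iff hb]; exact h.2 L hL⟩

omit hMP in
theorem ptImg_left_inv (hσ : IsLineMap β σ) (hτ : IsLineMap β⁻¹ τ) {u u' : V}
    (h : PtImg Q σ u u') (hu0 : u ≠ 0) (hu : Q u = 0) : PtImg Q τ u' u := by
  refine ⟨⟨hu0, hu⟩, fun L hL => ?_⟩
  have := h.2 (τ L) (hτ L hL).1
  rw [show σ (τ L) = L from lineMap_left_inv hN h7 hτ (by simpa using hσ) hL] at this
  exact this.symm

omit [Finite F] [FiniteDimensional F V] hN h7 hMP in
theorem ptImg_orth_mp (hσ : IsLineMap β σ) {u z u' z' : V} (hu0 : u ≠ 0) (hu : Q u = 0)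
    (hz : Q z = 0) (hl : ∀ a : F, a • u ≠ z) (h1 : PtImg Q σ u u') (h2 : PtImg Q σ z z')
    (hb : bil Q u z = 0) : bil Q u' z' = 0 := by
  have hL := tsLine_span (⟨(LinearIndependent.pair_iff' hu0).2 hl, hu, hz, hb⟩ : IsLinePair Q u z)
  exact bil_of_singular (hσ _ hL).1.2 ((h1.2 _ hL).1 mem_span_left) ((h2.2 _ hL).1 mem_span_right)

omit hMP in
theorem ptImg_orth (hσ : IsLineMap β σ) {u z u' z' : V} (hu0 : u ≠ 0) (hz0 : z ≠ 0) (hu : Q u = 0)
    (hz : Q z = 0) (h1 : PtImg Q σ u u') (h2 : PtImg Q σ z z') :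
    bil Q u' z' = 0 ↔ bil Q u z = 0 := by
  obtain ⟨τ, hτ⟩ := exists_lineMap hN h7 β⁻¹
  have k1 := ptImg_left_inv hN h7 hσ hτ h1 hu0 hu
  have k2 := ptImg_left_inv hN h7 hσ hτ h2 hz0 hz
  constructor
  · intro hb
    by_cases hl : ∃ a : F, a • u' = z'
    · obtain ⟨a, rfl⟩ := hl
      have ha : a ≠ 0 := left_ne_zero_of_smul h2.1.1
      obtain ⟨c, rfl⟩ := ptImg_unique hN h7 hτ h2.1.1 h2.1.2
        (by simpa using ptImg_smul (σ := τ) k1 ha (one_ne_zero : (1 : F) ≠ 0)) k2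
      simp [bil_self_of_singular hu]
    · push Not at hl
      exact ptImg_orth_mp hτ h1.1.1 h1.1.2 h2.1.2 hl k1 k2 hb
  · intro hb
    by_cases hl : ∃ a : F, a • u = z
    · obtain ⟨a, rfl⟩ := hl
      obtain ⟨c, rfl⟩ := ptImg_unique hN h7 hσ hz0 hz
        (by simpa using ptImg_smul (σ := σ) h1 (left_ne_zero_of_smul hz0) (one_ne_zero : (1 : F) ≠ 0)) h2
      simp [bil_self_of_singular h1.1.2]
    · push Not at hl
      exact ptImg_orth_mp hσ hu0 hu hz hl h1 h2 hb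

omit hMP in
theorem lineMap_smul_line (hσ : IsLineMap β σ) {g k : siegelGroup Q}
    (hk : (QuotientGroup.mk k : PS Q) = β (QuotientGroup.mk g)) {L : Submodule F V} (hL : TSLine Q L) :
    σ (L.map ((g : OQ Q) : V ≃ₗ[F] V).toLinearMap) =
      (σ L).map ((k : OQ Q) : V ≃ₗ[F] V).toLinearMap := by
  have hconj : ∀ (g : siegelGroup Q) (L : Submodule F V),
      rootImg Q (L.map ((g : OQ Q) : V ≃ₗ[F] V).toLinearMap) =
        (rootImg Q L).map (MulAut.conj (QuotientGroup.mk g : PS Q)).toMonoidHom := by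
    intro g L
    ext y
    simp only [rootImg, Subgroup.mem_map, MulEquiv.coe_toMonoidHom, MulAut.conj_apply]
    constructor
    · rintro ⟨r, hr, rfl⟩
      exact ⟨_, ⟨g⁻¹ * r * g, (conj_mem_rootGrp g).1 (by simpa [mul_assoc] using hr), rfl⟩,
        by simp [mul_assoc]⟩
    · rintro ⟨_, ⟨r, hr, rfl⟩, rfl⟩
      exact ⟨g * r * g⁻¹, (conj_mem_rootGrp g).2 hr, rfl⟩
  have hgL := smul_map_line g hL
  refine rootImg_inj hN (by omega) (hσ _ hgL).1 (smul_map_line k (hσ L hL).1) ?_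
  rw [← (hσ _ hgL).2, hconj, hconj, ← (hσ L hL).2, Subgroup.map_map, Subgroup.map_map]
  congr 1
  ext x
  simp [hk]

omit hMP in
theorem ptImg_smul_group (hσ : IsLineMap β σ) {g k : siegelGroup Q}
    (hk : (QuotientGroup.mk k : PS Q) = β (QuotientGroup.mk g)) {u u' : V}
    (h : PtImg Q σ u u') : PtImg Q σ (g • u) (k • u') := by
  refine ⟨⟨fun e => h.1.1 ((smul_eq_zero_iff_eq k).1 e), by rw [gQuad, h.1.2]⟩, fun L hL => ?_⟩
  set M := L.map ((g⁻¹ : siegelGroup Q) : OQ Q).1.toLinearMap with hMdef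
  have hM : TSLine Q M := smul_map_line g⁻¹ hL
  have eL : L = M.map ((g : OQ Q) : V ≃ₗ[F] V).toLinearMap := by
    ext x
    rw [mem_smul_line, hMdef, mem_smul_line, inv_inv, smul_inv_smul]
  clear hMdef
  clear_value M
  rw [eL, lineMap_smul_line hN h7 hσ hk hM, mem_smul_line, mem_smul_line, inv_smul_smul, inv_smul_smul]
  exact h.2 M hM

end Cfsg.Agent.AutPOmega
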