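import Cfsg.Agent.Lib.AutPOmega.Lines
import Mathlib.GroupTheory.Sylow

/-!
Every line root group is the centre of a Sylow subgroup, so automorphisms of the central quotient permute
the root groups of lines.
-/

set_option autoImplicit false

namespace Cfsg.Agent.AutPOmega

open ClassicalSimple Module
open scoped commutatorElement

variable {F V : Type*} [Field F] [AddCommGroup V] [Module F V] {Q : QuadraticForm F V}

/-- The Siegel transformation as an element of the Siegel group. -/
def siegG {u w : V} (hu : Q u = 0) (hw : bil Q u w = 0) : siegelGroup Q :=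
  ⟨siegel hu hw, siegel_mem hu hw⟩

theorem siegG_smul {u w : V} (hu : Q u = 0) (hw : bil Q u w = 0) (x : V) :
    siegG hu hw • x = x + bil Q x u • w - (bil Q x w + Q w * bil Q x u) • u :=
  siegel_smul hu hw x

theorem siegG_congr {u w u' w' : V} (hu : Q u = 0) (hw : bil Q u w = 0) (hu' : Q u' = 0)
    (hw' : bil Q u' w' = 0) (e : u = u') (e' : w = w') : siegG hu hw = siegG hu' hw' := by
  subst e e'; rfl

theorem siegG_mul {u w w' : V} (hu : Q u = 0) (hw : bil Q u w = 0) (hw' : bil Q u w' = 0) :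
    siegG hu hw * siegG hu hw' = siegG hu (w := w + w') (by simp [hw, hw']) :=
  Subtype.ext (siegel_mul hu hw hw')

theorem siegG_conj (g : siegelGroup Q) {u w : V} (hu : Q u = 0) (hw : bil Q u w = 0) :
    g * siegG hu hw * g⁻¹ = siegG (u := g • u) (w := g • w) (by rw [gQuad, hu])
      (by rw [gBil, hw]) :=
  Subtype.ext (siegel_conj (g : OQ Q) hu hw)

theorem siegG_smul_self {u : V} (a : F) (hu : Q u = 0) (hw : bil Q u (a • u) = 0) :
    siegG hu hw = 1 :=
  Subtype.ext (siegel_smul_self a hu hw)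

theorem lineG_eq_siegG {p r : V} (h : IsLinePair Q p r) (t : F) :
    lineG h t = siegG (u := p) (w := t • r) h.qp (h.smul_orth t) :=
  rfl

/-- The root group of a point, as a homomorphism. -/
def siegHom {u : V} (hu : Q u = 0) (W : Submodule F V) (hW : ∀ w ∈ W, bil Q u w = 0) :
    Multiplicative W →* siegelGroup Q where
  toFun w := siegG hu (hW _ w.toAdd.2)
  map_one' := by
    refine (siegG_congr _ _ hu (w' := (0 : F) • u) (by simp) rfl ?_).trans (siegG_smul_self _ hu _)
    simp
  map_mul' w w' := (siegG_mul hu _ _).symm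

theorem mem_siegHom_range {u : V} (hu : Q u = 0) (W : Submodule F V)
    (hW : ∀ w ∈ W, bil Q u w = 0) {g : siegelGroup Q} :
    g ∈ (siegHom hu W hW).range ↔ ∃ (w : V) (h : w ∈ W), g = siegG hu (hW w h) :=
  ⟨fun ⟨w, e⟩ => ⟨_, w.toAdd.2, e.symm⟩, fun ⟨w, h, e⟩ => ⟨Multiplicative.ofAdd ⟨w, h⟩, e.symm⟩⟩

section Sylow

variable [Finite F] [FiniteDimensional F V] (hN : (bil Q).Nondegenerate)
variable (h5 : 5 ≤ finrank F V) {p : ℕ} [Fact p.Prime] [CharP F p]

omit [Finite F] [FiniteDimensional F V] [Fact p.Prime] in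
theorem isPGroup_submodule (W : Submodule F V) : IsPGroup p (Multiplicative W) := fun w =>
  ⟨1, by
    rw [pow_one]
    apply Multiplicative.toAdd.injective
    rw [toAdd_pow, ← Nat.cast_smul_eq_nsmul F, CharP.cast_eq_zero, zero_smul, toAdd_one]⟩

include hN h5

omit [Finite F] in
/-- An element of `p`-power order centralising the root group of a point lies in it. -/
theorem eq_siegG_of_commute {u : V} (hu0 : u ≠ 0) (hu : Q u = 0) {x : siegelGroup Q} {k : ℕ}
    (hk : x ^ p ^ k = 1) (hc : ∀ (w : V) (hw : bil Q u w = 0), Commute x (siegG hu hw)) :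
    ∃ (z : V) (hz : bil Q u z = 0), x = siegG hu hz := by
  have fix : ∀ (w : V) (hw : bil Q u w = 0), siegG hu hw • (x • u) = x • u := fun w hw => by
    rw [← mul_smul, ← (hc w hw).eq, mul_smul]
    congr 1
    simp [siegG_smul, bil_self_of_singular hu, hw]
  obtain ⟨a, ha⟩ : SameLine F u (x • u) := by
    obtain ⟨w, hw, hwl⟩ := exists_forall_eq_zero_notMem ![bil Q u] (Submodule.span F {u})
      (by rw [finrank_span_singleton hu0, Fintype.card_fin]; omega)
    have hw' : bil Q u w = 0 := hw 0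
    have hxu : bil Q (x • u) u = 0 := by
      have e := fix w hw'
      rw [siegG_smul] at e
      by_contra hne
      refine hwl (Submodule.mem_span_singleton.2
        ⟨(bil Q (x • u) u)⁻¹ * (bil Q (x • u) w + Q w * bil Q (x • u) u), ?_⟩)
      rw [add_sub_assoc, add_eq_left, sub_eq_zero] at e
      rw [mul_smul, ← e, inv_smul_smul₀ hne]
    by_contra hl
    obtain ⟨w, h1, h2⟩ := exists_bil_pair hN
      ((LinearIndependent.pair_iff' hu0).2 fun a e => hl ⟨a, e⟩) 0 1
    have e := fix w h1
    simp [siegG_smul, hxu, h2, hu0] at e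
  have hpow : ∀ n : ℕ, (x ^ n) • u = a ^ n • u := by
    intro n
    induction n with
    | zero => simp
    | succ n ih => rw [pow_succ', mul_smul, ih, smul_comm, ← ha, smul_smul, pow_succ]
  have h1 := hpow (p ^ k)
  rw [hk, one_smul] at h1
  have h2 : (a ^ p ^ k - 1) • u = 0 := by rw [sub_smul, one_smul, ← h1, sub_self]
  have h3 : (a - 1) ^ p ^ k = 0 := by
    rw [sub_pow_char_pow, one_pow]
    exact (smul_eq_zero.1 h2).resolve_right hu0
  have hxu : x • u = u := by
    rw [← ha, sub_eq_zero.1 (pow_eq_zero_iff'.1 h3).1, one_smul]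
  obtain ⟨y, hy, hy0⟩ : ∃ y, bil Q u y = 1 ∧ Q y = 0 := by
    obtain ⟨y1, h1⟩ := orth_exists_ne_zero hN hu0
    refine ⟨(bil Q u y1)⁻¹ • y1 - Q ((bil Q u y1)⁻¹ • y1) • u, ?_, ?_⟩
    · simp [bil_self_of_singular hu, h1]
    · have e1 : bil Q ((bil Q u y1)⁻¹ • y1) u = 1 := by
        rw [bil_comm, map_smul, smul_eq_mul, inv_mul_cancel₀ h1]
      generalize (bil Q u y1)⁻¹ • y1 = y2 at e1 ⊢
      rw [quad_sub, quad_smul_vec, hu, map_smul, e1, smul_eq_mul]
      ring
  have hyu : bil Q (x • y) u = 1 := by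
    conv_lhs => rw [← hxu]
    rw [gBil, bil_comm, hy]
  have hz : bil Q u (x • y - y) = 0 := by rw [map_sub, bil_comm, hyu, hy, sub_self]
  refine ⟨_, hz, siegelGroup_ext fun v => ?_⟩
  set h := (siegG hu hz)⁻¹ * x with hh
  have hhy : h • y = y := by
    rw [hh, mul_smul, inv_smul_eq_iff, siegG_smul, bil_comm y u, hy, quad_sub, gQuad, hy0,
      map_sub, bil_self_of_singular hy0, bil_comm y (x • y)]
    generalize x • y = xy
    module
  have hhu : h • u = u := by
    rw [hh, mul_smul, hxu, inv_smul_eq_iff, siegG_smul, bil_self_of_singular hu, hz]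
    simp
  suffices h • v = v by rwa [hh, mul_smul, inv_smul_eq_iff] at this
  have hcu : ∀ (w : V) (hw : bil Q u w = 0), ∃ c : F, h • w = w + c • u := by
    intro w hw
    have e0 : Commute h (siegG hu hw) := by
      refine Commute.mul_left (Commute.inv_left ?_) (hc w hw)
      show _ * _ = _ * _
      rw [siegG_mul hu hz hw, siegG_mul hu hw hz]
      exact siegG_congr _ _ _ _ rfl (add_comm _ _)
    have e1 : siegG hu hw • y = siegG (u := h • u) (w := h • w) (by rw [gQuad, hu])
        (by rw [gBil, hw]) • y := by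
      rw [← siegG_conj h hu hw, e0.eq, mul_inv_cancel_right]
    rw [siegG_smul, siegG_smul, hhu, gQuad, bil_comm y u, hy, one_smul, one_smul] at e1
    refine ⟨bil Q y (h • w) - bil Q y w, ?_⟩
    generalize h • w = hw' at e1 ⊢
    linear_combination (norm := module) -e1
  have hdec : v = bil Q u v • y + (v - bil Q u v • y) := by module
  have hker : bil Q u (v - bil Q u v • y) = 0 := by simp [hy]
  obtain ⟨c, hc'⟩ := hcu _ hker
  have hc0 : c = 0 := by
    have e := gBil h y (v - bil Q u v • y)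
    rw [hhy, hc', map_add, map_smul, bil_comm y u, hy, smul_eq_mul, mul_one, add_eq_left] at e
    exact e
  rw [hdec, smul_add, smul_comm, hhy, hc', hc0, zero_smul, add_zero]

/-- Every root group of a line is the centre of a Sylow subgroup. -/
theorem exists_sylow_center {L : Submodule F V} (hL : TSLine Q L) :
    ∃ P : Sylow p (siegelGroup Q),
      (Subgroup.center P).map (P : Subgroup (siegelGroup Q)).subtype = rootGrp Q L := by
  obtain ⟨u, v, h, rfl⟩ := hL.exists_pair
  let Wu : Submodule F V := LinearMap.ker (bil Q u)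
  let Wv : Submodule F V := LinearMap.ker (bil Q u) ⊓ LinearMap.ker (bil Q v)
  have hWu : ∀ w ∈ Wu, bil Q u w = 0 := fun w hw => hw
  have hWv : ∀ w ∈ Wv, bil Q v w = 0 := fun w hw => hw.2
  have hWv' : ∀ w ∈ Wv, bil Q u w = 0 := fun w hw => hw.1
  have hWmem : ∀ w, bil Q u w = 0 → bil Q v w = 0 → w ∈ Wv := fun w h1 h2 => ⟨h1, h2⟩
  let A : Subgroup (siegelGroup Q) := (siegHom h.qp Wu hWu).range
  let B : Subgroup (siegelGroup Q) := (siegHom h.qr Wv hWv).range
  have hA : IsPGroup p A := (isPGroup_submodule Wu).of_surjective _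
    (MonoidHom.rangeRestrict_surjective _)
  have hB : IsPGroup p B := (isPGroup_submodule Wv).of_surjective _
    (MonoidHom.rangeRestrict_surjective _)
  have key : ∀ b ∈ B, ∀ a ∈ A, b * a * b⁻¹ ∈ A := by
    intro b hb a ha
    obtain ⟨w, hw, rfl⟩ := (mem_siegHom_range _ _ _).1 hb
    obtain ⟨w', hw', rfl⟩ := (mem_siegHom_range _ _ _).1 ha
    have hu : siegG h.qr (hWv w hw) • u = u := by
      rw [siegG_smul, h.orth, hWv' w hw]
      simp
    rw [siegG_conj]
    refine (mem_siegHom_range _ _ _).2 ⟨siegG h.qr (hWv w hw) • w', ?_, siegG_congr _ _ _ _ hu rfl⟩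
    show bil Q u _ = 0
    have e := gBil (siegG h.qr (hWv w hw)) u w'
    rw [hu] at e
    exact e.trans (hWu w' hw')
  have hBN : B ≤ Subgroup.normalizer (A : Set (siegelGroup Q)) := by
    intro b hb
    rw [Subgroup.mem_normalizer_iff]
    exact fun a => ⟨key b hb a, fun ha => by simpa [mul_assoc] using key b⁻¹ (inv_mem hb) _ ha⟩
  obtain ⟨P, hP⟩ := (hA.to_sup_of_normal_left' hB hBN).exists_le_sylow
  have hAP : A ≤ P := le_sup_left.trans hP
  have hBP : B ≤ P := le_sup_right.trans hP
  have sub : ∀ x ∈ (Subgroup.center P).map (P : Subgroup (siegelGroup Q)).subtype,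
      x ∈ rootGrp Q (Submodule.span F {u, v}) := by
    rintro _ ⟨x, hx, rfl⟩
    have hxc : ∀ y ∈ (P : Subgroup (siegelGroup Q)), Commute (x : siegelGroup Q) y := fun y hy =>
      (congrArg Subtype.val (Subgroup.mem_center_iff.1 hx ⟨y, hy⟩)).symm
    obtain ⟨k, hk⟩ := P.isPGroup' x
    obtain ⟨z, hz, ez⟩ := eq_siegG_of_commute hN h5 h.ne_zero h.qp (p := p) (k := k)
      (congrArg Subtype.val hk) fun w hw =>
        hxc _ (hAP ((mem_siegHom_range _ _ _).2 ⟨w, hw, rfl⟩))
    show (x : siegelGroup Q) ∈ _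
    rw [ez]
    have inv : ∀ (w : V) (hw : w ∈ Wv), ∃ c : F, siegG h.qr (hWv w hw) • z - z = c • u := by
      intro w hw
      set b := siegG h.qr (hWv w hw) with hb
      have hbu : b • u = u := by
        rw [hb, siegG_smul, h.orth, hWv' w hw]
        simp
      have hbz : bil Q u (b • z) = 0 := by
        conv_lhs => rw [← hbu]
        rw [gBil, hz]
      have e : siegG h.qp hbz = siegG h.qp hz := by
        rw [← siegG_congr (u := b • u) (w := b • z) (by rw [hbu, h.qp]) (by rw [gBil, hz]) h.qp hbz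
          hbu rfl, ← siegG_conj b h.qp hz]
        have hcb : Commute (x : siegelGroup Q) b :=
          hxc _ (hBP ((mem_siegHom_range _ _ _).2 ⟨w, hw, rfl⟩))
        rw [ez] at hcb
        rw [← hcb.eq, mul_inv_cancel_right]
      obtain ⟨y, hy1, -⟩ := exists_dual_pair hN h
      have e2 := congrArg (fun g : siegelGroup Q => g • y) e
      simp only [siegG_smul, hy1, one_smul, mul_one] at e2
      refine ⟨(bil Q y (b • z) + Q (b • z)) - (bil Q y z + Q z), ?_⟩
      generalize b • z = bz at e2 ⊢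
      linear_combination (norm := module) e2
    obtain ⟨w, hw, hwl⟩ := exists_forall_eq_zero_notMem ![bil Q u, bil Q v]
      (Submodule.span F {u, v}) (by rw [(tsLine_span h).1, Fintype.card_fin]; omega)
    rw [forall_vec2 (P := fun φ : Module.Dual F V => φ w = 0)] at hw
    have hzv : bil Q z v = 0 := by
      by_contra hne
      obtain ⟨c, hc⟩ := inv w (hWmem w hw.1 hw.2)
      rw [siegG_smul] at hc
      refine hwl (Submodule.mem_span_pair.2 ⟨(bil Q z v)⁻¹ * c,
        (bil Q z v)⁻¹ * (bil Q z w + Q w * bil Q z v), ?_⟩)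
      rw [mul_smul, mul_smul, ← smul_add, inv_smul_eq_iff₀ hne]
      linear_combination (norm := module) -hc
    have hzw : ∀ w, bil Q u w = 0 → bil Q v w = 0 → bil Q z w = 0 := by
      intro w h1 h2
      obtain ⟨c, hc⟩ := inv w (hWmem w h1 h2)
      rw [siegG_smul, hzv] at hc
      have := LinearIndependent.pair_iff.1 h.indep c (bil Q z w) (by
        linear_combination (norm := module) -hc)
      exact this.2
    obtain ⟨y₁, a1, b1⟩ := exists_dual_pair hN h
    obtain ⟨y₂, b2, a2⟩ := exists_dual_pair hN h.swap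
    have hz' : z = bil Q z y₁ • u + bil Q z y₂ • v := by
      refine sub_eq_zero.1 (hN.1 _ fun w => ?_)
      have e := hzw (w - bil Q u w • y₁ - bil Q v w • y₂)
        (by simp [bil_comm u y₁, bil_comm u y₂, a1, a2])
        (by simp [bil_comm v y₁, bil_comm v y₂, b1, b2])
      simp only [map_sub, map_smul, map_add, LinearMap.sub_apply, LinearMap.add_apply,
        LinearMap.smul_apply, smul_eq_mul] at e ⊢
      linear_combination e
    have hbv : bil Q u (bil Q z y₂ • v) = 0 := h.smul_orth _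
    have e3 : siegG h.qp hz = siegG h.qp (w := bil Q z y₁ • u) (by simp [h.pp]) *
        siegG h.qp hbv := by
      rw [siegG_mul]
      exact siegG_congr _ _ _ _ rfl hz'
    rw [e3, siegG_smul_self, one_mul]
    exact lineG_mem h (bil Q z y₂)
  refine ⟨P, le_antisymm sub fun g hg => ?_⟩
  obtain ⟨t, rfl⟩ := (mem_rootGrp_span hN h).1 hg
  have hgP : lineG h t ∈ (P : Subgroup (siegelGroup Q)) :=
    hAP ((mem_siegHom_range _ _ _).2 ⟨_, h.smul_orth t, rfl⟩)
  refine ⟨⟨_, hgP⟩, Subgroup.mem_center_iff.2 fun y => Subtype.ext ?_, rfl⟩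
  have hnt : Nontrivial P := by
    refine ⟨⟨⟨lineG h 1, hAP ((mem_siegHom_range _ _ _).2 ⟨_, h.smul_orth 1, rfl⟩)⟩, 1,
      fun e => one_ne_zero (lineG_inj hN h (t := 0) ?_)⟩⟩
    rw [lineG_zero]
    exact congrArg Subtype.val e
  have : Finite V := Module.finite_of_finite F
  have : Finite (siegelGroup Q) := Finite.of_injective
    (fun g : siegelGroup Q => fun x : V => g • x) (fun a b e => siegelGroup_ext (congrFun e))
  have := P.isPGroup'.center_nontrivial
  obtain ⟨⟨x, hx⟩, hx1'⟩ := exists_ne (1 : Subgroup.center P)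
  have hx1 : x ≠ 1 := fun e => hx1' (Subtype.ext e)
  obtain ⟨b, hb⟩ := (mem_rootGrp_span hN h).1 (sub _ (Subgroup.mem_map_of_mem _ hx))
  change (x : siegelGroup Q) = lineG h b at hb
  have hb0 : b ≠ 0 := fun e => hx1 (Subtype.ext (by rw [hb, e, lineG_zero]; rfl))
  have hcy : (y : siegelGroup Q) * lineG h b = lineG h b * y := by
    rw [← hb]
    exact congrArg Subtype.val (Subgroup.mem_center_iff.1 hx y)
  set g := (y : siegelGroup Q)
  have hgl : ∀ s, g * lineG h s * g⁻¹ = lineG (h.map (g : OQ Q)) s := fun s =>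
    Subtype.ext (lineElt_conj (g : OQ Q) h (h.map (g : OQ Q)) s)
  have hmem : lineG h b ∈ rootGrp Q (Submodule.span F {g • u, g • v}) := by
    have e := hgl b
    rw [hcy, mul_inv_cancel_right] at e
    rw [e]
    exact lineG_mem _ _
  have hLeq := line_le_of_mem hN (tsLine_span h) (tsLine_span (h.map (g : OQ Q)))
    (lineG_mem h b) (fun e => hb0 (lineG_inj hN h (e.trans (lineG_zero h).symm))) hmem
  obtain ⟨a1, b1, e1⟩ := Submodule.mem_span_pair.1 (show g • u ∈ Submodule.span F {u, v} by
    rw [hLeq]; exact Submodule.subset_span (Or.inl rfl))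
  obtain ⟨a2, b2, e2⟩ := Submodule.mem_span_pair.1 (show g • v ∈ Submodule.span F {u, v} by
    rw [hLeq]; exact Submodule.subset_span (Or.inr rfl))
  have hd : a1 * b2 - b1 * a2 ≠ 0 := by
    intro hd
    have hi := (h.map (g : OQ Q)).indep
    change LinearIndependent F ![g • u, g • v] at hi
    have z1 := LinearIndependent.pair_iff.1 hi b2 (-b1) (by
      rw [← e1, ← e2]
      match_scalars
      · linear_combination hd
      · ring)
    have z2 := LinearIndependent.pair_iff.1 hi a2 (-a1) (by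
      rw [← e1, ← e2]
      match_scalars
      · ring
      · linear_combination -hd)
    have hb1' : b1 = 0 := neg_eq_zero.1 z1.2
    have ha1' : a1 = 0 := neg_eq_zero.1 z2.2
    exact hi.ne_zero 0 (by simp [← e1, ha1', hb1'])
  have hdet : ∀ s, g * lineG h s * g⁻¹ = lineG h (s * (a1 * b2 - b1 * a2)) := fun s => by
    rw [hgl, ← lineG_basis h hd]
    exact lineG_congr _ _ e1.symm e2.symm s
  have hd1 : a1 * b2 - b1 * a2 = 1 := by
    have e := hdet b
    rw [hcy, mul_inv_cancel_right] at e
    exact mul_left_cancel₀ hb0 ((mul_one b).symm ▸ (lineG_inj hN h e).symm)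
  have e := hdet t
  rw [hd1, mul_one, mul_inv_eq_iff_eq_mul] at e
  exact e

/-- Automorphisms of the central quotient permute the root groups of lines. -/
theorem exists_line_image (β : MulAut (PS Q)) {L : Submodule F V} (hL : TSLine Q L) :
    ∃ M, TSLine Q M ∧ (rootImg Q L).map β.toMonoidHom = rootImg Q M := by
  obtain ⟨p, _⟩ := CharP.exists F
  have := Fact.mk (CharP.char_is_prime F p)
  have : Finite V := Module.finite_of_finite F
  have : Finite (siegelGroup Q) := Finite.of_injective
    (fun g : siegelGroup Q => fun x : V => g • x) (fun a b e => siegelGroup_ext (congrFun e))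
  obtain ⟨P, hP⟩ := exists_sylow_center hN h5 (p := p) hL
  set π := QuotientGroup.mk' (Subgroup.center (siegelGroup Q)) with hπ
  have hs := QuotientGroup.mk'_surjective (Subgroup.center (siegelGroup Q))
  let Pb := P.mapSurjective hs
  have zc : ∀ R : Subgroup (siegelGroup Q), IsPGroup p R →
      (Subgroup.center (R.map π)).map (R.map π).subtype =
        ((Subgroup.center R).map R.subtype).map π := by
    intro R hR
    apply le_antisymm
    · rintro _ ⟨⟨_, r, hr, rfl⟩, hc, rfl⟩
      refine ⟨r, ⟨⟨r, hr⟩, Subgroup.mem_center_iff.2 fun s => Subtype.ext ?_, rfl⟩, rfl⟩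
      have e := congrArg Subtype.val
        (Subgroup.mem_center_iff.1 hc ⟨π s, Subgroup.mem_map_of_mem _ s.2⟩)
      change π (s : siegelGroup Q) * π r = π r * π s at e
      rw [← commutatorElement_eq_one_iff_mul_comm, ← map_commutatorElement] at e
      have hmem : ⁅(s : siegelGroup Q), r⁆ ∈ R := by
        rw [commutatorElement_def]
        exact R.mul_mem (R.mul_mem (R.mul_mem s.2 hr) (R.inv_mem s.2)) (R.inv_mem hr)
      obtain ⟨k, hk⟩ := hR ⟨_, hmem⟩
      exact commutatorElement_eq_one_iff_mul_comm.1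
        (center_eq_one hN h5 ((QuotientGroup.eq_one_iff _).1 e) (congrArg Subtype.val hk))
    · rintro _ ⟨_, ⟨r, hr, rfl⟩, rfl⟩
      refine ⟨⟨π r, Subgroup.mem_map_of_mem _ r.2⟩, Subgroup.mem_center_iff.2 ?_, rfl⟩
      rintro ⟨_, s, hs', rfl⟩
      refine Subtype.ext ?_
      show π s * π r = π r * π s
      rw [← map_mul, ← map_mul]
      exact congrArg π (congrArg Subtype.val (Subgroup.mem_center_iff.1 hr ⟨s, hs'⟩))
  let P' : Sylow p (PS Q) := Pb.mapSurjective (f := β.toMonoidHom) β.surjective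
  obtain ⟨x, hx⟩ := MulAction.exists_smul_eq (PS Q) Pb P'
  obtain ⟨g, rfl⟩ := hs x
  refine ⟨L.map ((g : OQ Q) : V ≃ₗ[F] V).toLinearMap, smul_map_line g hL, ?_⟩
  have hg : (P' : Subgroup (PS Q)) = ((Pb : Subgroup (PS Q))).map (MulAut.conj (π g)).toMonoidHom := by
    rw [← hx]; rfl
  have img : ∀ (e : PS Q ≃* PS Q) (K : Subgroup (PS Q)),
      (Subgroup.center (K.map e.toMonoidHom)).map (K.map e.toMonoidHom).subtype =
        ((Subgroup.center K).map K.subtype).map e.toMonoidHom := by
    intro e K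
    ext y
    constructor
    · rintro ⟨⟨_, k, hk, rfl⟩, hc, rfl⟩
      refine ⟨k, ⟨⟨k, hk⟩, Subgroup.mem_center_iff.2 fun s => Subtype.ext (e.injective ?_), rfl⟩, rfl⟩
      show e ((s : PS Q) * k) = e (k * s)
      rw [map_mul, map_mul]
      exact congrArg Subtype.val (Subgroup.mem_center_iff.1 hc ⟨e s, ⟨s, s.2, rfl⟩⟩)
    · rintro ⟨_, ⟨k, hk, rfl⟩, rfl⟩
      refine ⟨⟨e k, ⟨k, k.2, rfl⟩⟩, Subgroup.mem_center_iff.2 ?_, rfl⟩
      rintro ⟨_, s, hs', rfl⟩
      refine Subtype.ext ?_
      show e s * e k = e k * e s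
      rw [← map_mul, ← map_mul]
      exact congrArg e (congrArg Subtype.val (Subgroup.mem_center_iff.1 hk ⟨s, hs'⟩))
  have hPb : (Subgroup.center Pb).map (Pb : Subgroup (PS Q)).subtype = rootImg Q L := by
    show _ = (rootGrp Q L).map π
    rw [← hP]
    exact zc _ P.isPGroup'
  have h1 : (Subgroup.center P').map (P' : Subgroup (PS Q)).subtype =
      (rootImg Q L).map β.toMonoidHom := by
    rw [← hPb]
    exact img β _
  have h2 : (Subgroup.center P').map (P' : Subgroup (PS Q)).subtype =
      (rootImg Q L).map (MulAut.conj (π g)).toMonoidHom := by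
    rw [hg, ← hPb]
    exact img _ _
  rw [← h1, h2]
  ext y
  simp only [rootImg, Subgroup.mem_map, MulEquiv.coe_toMonoidHom, MulAut.conj_apply]
  constructor
  · rintro ⟨_, ⟨r, hr, rfl⟩, rfl⟩
    exact ⟨g * r * g⁻¹, (conj_mem_rootGrp g).2 hr, by rw [map_mul, map_mul, map_inv]⟩
  · rintro ⟨r, hr, rfl⟩
    refine ⟨_, ⟨g⁻¹ * r * g, (conj_mem_rootGrp g).1 (by simpa [mul_assoc] using hr), rfl⟩, ?_⟩
    simp [π, mul_assoc]

end Sylow

end Cfsg.Agent.AutPOmega
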